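import Cfsg.Agent.H59.O8S.Num_m3
import Cfsg.Agent.H883.Sub
import Cfsg.Agent.H955.QMinus
import Cfsg.Agent.S0287
import Cfsg.Agent.S0288
import Cfsg.Agent.S0788
import Cfsg.Agent.S0789
import Cfsg.Agent.S0293
import Cfsg.Agent.S2607
import Cfsg.Agent.S2608
import Cfsg.Agent.Characters.Core
import Cfsg.Agent.Characters.FixedPointFree
import Cfsg.Agent.Blocks.Central
import Mathlib
import Cfsg.Agent.S0324
import Cfsg.Agent.S0333
import Cfsg.Agent.H190.Exc.Main_m3
import Cfsg.Agent.H845.LiftIrr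
import Cfsg.Agent.H906.Cover_m3
import Cfsg.Agent.H95.LSx.Sub
import Cfsg.Agent.H198.TriInn
import Cfsg.Agent.H884.ElRows_m3
import Cfsg.Agent.H200.RowOrthL_m3
import Cfsg.Agent.H81.CycSInd
import Cfsg.Agent.H914.Sub
import Cfsg.Agent.H708.O8.Par_m3
import Cfsg.Agent.H936.List12c
import Cfsg.Agent.H264.FKS.Res_m3
import Cfsg.Agent.H806.LsFiLe
import Cfsg.Agent.OddHalf.Known
import Cfsg.Agent.H386.Rg.AlphaA_m3
import Cfsg.Agent.LieClassical.QuadCount
import Cfsg.Agent.H955.QSpace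
import Cfsg.Agent.H826.RgF.Defs_m3
import Cfsg.Agent.H440.Bs.Rec_m3
import Cfsg.Agent.H749.BlockOrth_m3
import Cfsg.Agent.H749.QuadSplit
import Cfsg.Agent.H955.FSZero
import Cfsg.Agent.FastGrp
import Cfsg.Agent.Prune
set_option linter.all false

section
prune_inst 0x7f00000000000000000000000000000000000000000000000000000000000000000000000000000000000000000000000000000000000000000000000000000000000000000000000000000000000000003ffff7ffffffffffffffffffffffbeffbdefffffff

section
prune_inst 0x8000000000000000000000000000010000000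

-- part: H823/O8R/Defs
section
set_option linter.all false

/-!
# S3691 (regular subgroups), row `PΩ⁺₈(q)`, `q ≥ 16`: definitions (helper823)

`r = r₄` (`RB p a r b`), `s = r₆` (`RK p a s k`), `t = r₃` (`Prim p (3 a) t`).
-/

set_option autoImplicit false
set_option linter.unusedSectionVars false

namespace Cfsg.Agent.H823.O8R

open Module QuadraticMap Cfsg Cfsg.Geo Cfsg.Agent.LieClassical.OrthCore Cfsg.Agent.H955 Cfsg.Agent.H954.TSing
open Cfsg.Agent.LieClassical.OmegaReindex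
open Cfsg.Agent.H951 (fx cm Inv)
open Cfsg.Agent.H884.El
open Cfsg.Agent.H708.O8 (I8 T8 RB)
open Cfsg.Agent.H436 (Prim)
open Cfsg.Agent.H823.O8S
open scoped MatrixGroups Matrix

variable {F : Type} [Field F] [Fintype F]

/-- `R` fixes a nonsingular point of the natural module -/
def FixV (R : Subgroup (T8 F)) : Prop :=
  ∃ w : I8 → F, quadFormPlus 4 F w ≠ 0 ∧ pre (quadFormPlus 4 F) R ≤ SW (Submodule.span F {w})

/-- `R` fixes an anisotropic plane of the natural module -/
def FixP (R : Subgroup (T8 F)) : Prop :=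
  ∃ W : Submodule F (I8 → F), finrank F W = 2 ∧ (∀ w ∈ W, quadFormPlus 4 F w = 0 → w = 0) ∧
    pre (quadFormPlus 4 F) R ≤ SW W

/-- `R` normalises a field of similitudes of order `q²` -/
def FixJ (R : Subgroup (T8 F)) : Prop :=
  ∃ (J : Module.End F (I8 → F)) (c d : F), Fld J c d ∧ pre (quadFormPlus 4 F) R ≤ NJ J c

/-- `R` contains the Siegel transformations supported by `U^⊥` (they generate `Ω(U^⊥)`) -/
def HasSieg (R : Subgroup (T8 F)) (U : Submodule F (I8 → F)) : Prop :=
  ∀ (u w : I8 → F) (hu : LieClassical.QuadForms.plusForm 4 F u = 0)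
    (hw : polar (LieClassical.QuadForms.plusForm 4 F) u w = 0),
    (∀ v ∈ U, polar (LieClassical.QuadForms.plusForm 4 F) u v = 0) →
    (∀ v ∈ U, polar (LieClassical.QuadForms.plusForm 4 F) w v = 0) →
    (LieClassical.OrthFinite.glEquiv I8 F).symm (LieClassical.OrthCore.siegel (LieClassical.QuadForms.plusForm 4 F) u w hu hw) ∈
      pre (quadFormPlus 4 F) R

/-- the numbers -/
structure Nm (p a r b s k t : ℕ) : Prop where
  rb : RB p a r b
  rk : RK p a s k
  t : Prim p (3 * a) t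
  q16 : 16 ≤ p ^ a

end Cfsg.Agent.H823.O8R
end

-- part: H372/O8R/Ord_mg
section
set_option linter.all false
open scoped Cfsg.Agent.FastGrp

-- part: H372/O8R/Ord
section
/-!
# S3691, row `PΩ⁺₈(q)`: orders of stabilisers of an anisotropic plane and of a nonsingular point (helper372)

* `card_O_minus`, `card_O_plus`, `card_E_mul` : orders of the isometry groups of nondegenerate spaces of even dimension;
* `ord_fixP` : the stabiliser of an anisotropic plane;
* `le_of_sieg_plane` : the order of a group containing `Ω₆⁻(q)`;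
* `dvd_of_sieg_point` : `r₃` divides the order of a group containing `Ω₇(q)`.
-/

set_option autoImplicit false
set_option linter.unusedSectionVars false
set_option linter.unusedVariables false

namespace Cfsg.Agent.H372.O8R

section General

open Module QuadraticMap Cfsg Cfsg.Agent.LieClassical.OrthCore Cfsg.Agent.LieClassical.OrthTrans
  Cfsg.Agent.LieClassical.OrthFinite Cfsg.Agent.H955

universe u v w

section Cj

variable {F V V' : Type*} [Field F] [AddCommGroup V] [Module F V] [AddCommGroup V'] [Module F V']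

/-- conjugation by a linear equivalence -/
def cj (e : V ≃ₗ[F] V') : (V ≃ₗ[F] V) ≃* (V' ≃ₗ[F] V') where
  toFun g := (e.symm.trans g).trans e
  invFun g := (e.trans g).trans e.symm
  left_inv g := by
    ext v
    simp
  right_inv g := by
    ext v
    simp
  map_mul' g k := by
    ext v
    change e (g (k (e.symm v))) = e (g (e.symm (e (k (e.symm v)))))
    rw [LinearEquiv.symm_apply_apply]

theorem cj_apply (e : V ≃ₗ[F] V') (g : V ≃ₗ[F] V) (v : V') : cj e g v = e (g (e.symm v)) := rfl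

theorem map_cj_O_le {Q : QuadraticForm F V} {Q' : QuadraticForm F V'} {e : V ≃ₗ[F] V'}
    (he : ∀ v, Q' (e v) = Q v) : (O Q).map (cj e).toMonoidHom ≤ O Q' := by
  rintro _ ⟨g, hg, rfl⟩
  intro v
  change Q' (e (g (e.symm v))) = Q' v
  rw [he, mem_O.1 hg, ← he, LinearEquiv.apply_symm_apply]

theorem map_cj_E_le {Q : QuadraticForm F V} {Q' : QuadraticForm F V'} {e : V ≃ₗ[F] V'}
    (he : ∀ v, Q' (e v) = Q v) : (E Q).map (cj e).toMonoidHom ≤ E Q' := by
  rw [E, MonoidHom.map_closure, Subgroup.closure_le]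
  rintro _ ⟨_, ⟨u, w, hu, hw, rfl⟩, rfl⟩
  have e1 : cj e (siegel Q u w hu hw) = siegel Q' (e u) (e w) (by rw [he]; exact hu)
      (by rw [polar_of_equiv e he]; exact hw) := by
    ext v
    rw [cj_apply, siegel_apply, siegel_apply]
    have h1 : polar Q' (e u) v = polar Q u (e.symm v) := by
      rw [← polar_of_equiv e he, LinearEquiv.apply_symm_apply]
    have h2 : polar Q' (e w) v = polar Q w (e.symm v) := by
      rw [← polar_of_equiv e he, LinearEquiv.apply_symm_apply]
    rw [h1, h2, he]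
    simp only [map_add, map_sub, map_smul, LinearEquiv.apply_symm_apply]
  rw [MulEquiv.toMonoidHom_eq_coe, MonoidHom.coe_coe, e1]
  exact siegel_mem_E _ _

theorem card_congr_of {H : Subgroup (V ≃ₗ[F] V)} {H' : Subgroup (V' ≃ₗ[F] V')} {e : V ≃ₗ[F] V'}
    (h1 : H.map (cj e).toMonoidHom ≤ H') (h2 : H'.map (cj e.symm).toMonoidHom ≤ H) : Nat.card H = Nat.card H' := by
  have h : H.map (cj e).toMonoidHom = H' := by
    apply le_antisymm h1
    intro g hg
    refine ⟨_, h2 ⟨g, hg, rfl⟩, ?_⟩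
    ext v
    show e (e.symm (g (e.symm.symm (e.symm v)))) = g v
    simp
  rw [← h]
  exact (Subgroup.card_map_of_injective (cj e).injective).symm

theorem card_E_congr {Q : QuadraticForm F V} {Q' : QuadraticForm F V'} {e : V ≃ₗ[F] V'}
    (he : ∀ v, Q' (e v) = Q v) : Nat.card (E Q) = Nat.card (E Q') :=
  card_congr_of (map_cj_E_le he) (map_cj_E_le fun v => by rw [← he, LinearEquiv.apply_symm_apply])

theorem card_O_congr {Q : QuadraticForm F V} {Q' : QuadraticForm F V'} {e : V ≃ₗ[F] V'}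
    (he : ∀ v, Q' (e v) = Q v) : Nat.card (O Q) = Nat.card (O Q') :=
  card_congr_of (map_cj_O_le he) (map_cj_O_le fun v => by rw [← he, LinearEquiv.apply_symm_apply])

end Cj

section Card

variable {F : Type u} [Field F] [Fintype F]

theorem card_O_eq {ι : Type} [Fintype ι] [DecidableEq ι] (Q : QuadraticForm F (ι → F)) :
    Nat.card (O Q) = Nat.card (isometryGroup F ⇑Q) := (Nat.card_congr (isometryEquiv Q).toEquiv).symm

theorem card_E_eq {ι : Type} [Fintype ι] [DecidableEq ι] {Q : QuadraticForm F (ι → F)} (hG : Good Q) :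
    Nat.card (E Q) = Nat.card (Omega F ⇑Q) := by
  rw [← hG.commutator_eq_E]
  exact (Nat.card_congr (omegaEquiv Q).toEquiv).symm

/-- the index of `Ω` -/
theorem idx {ι : Type} [Fintype ι] [DecidableEq ι] (Q : QuadraticForm F (ι → F)) (hQ : (polarBilin Q).Nondegenerate)
    (hd : 5 ≤ Fintype.card ι) : (Omega F ⇑Q).index = 2 ∨ (Omega F ⇑Q).index = 4 := by
  by_cases h2 : (2 : F) = 0
  · left
    have hchar : CharP F 2 := CharTwo.of_one_ne_zero_of_two_eq_zero one_ne_zero h2
    exact LieClassical.OmegaReindex.index_omega_of_fin rfl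
      (fun Q' hQ' => S0789.result (by omega) Q' hQ' (Or.inr (by omega))) Q hQ
  · right
    exact LieClassical.OmegaReindex.index_omega_of_fin rfl (fun Q' hQ' => S0788.result h2 (by omega) Q' hQ') Q hQ

theorem card_mul {ι : Type} [Fintype ι] [DecidableEq ι] {Q : QuadraticForm F (ι → F)}
    (hQ : Nondeg Q) (hd : 5 ≤ Fintype.card ι) :
    ∃ k, (k = 2 ∨ k = 4) ∧ Nat.card (E Q) * k = Nat.card (O Q) := by
  have hG : Good Q := good_of_finite hQ (by rwa [Module.finrank_fintype_fun_eq_card])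
  refine ⟨(Omega F ⇑Q).index, idx Q (nondegenerate_of_nondeg hQ) hd, ?_⟩
  rw [card_E_eq hG, card_O_eq, Subgroup.card_mul_index]

variable {V : Type v} [AddCommGroup V] [Module F V] [FiniteDimensional F V] {Q : QuadraticForm F V}

/-- the order of `O(Q)`, minus type -/
theorem card_O_minus (m : ℕ) (hQ : Nondeg Q) (hd : finrank F V = 2 * (m + 1)) (hP : ¬ IsPlus Q) :
    Nat.card (O Q) = 2 * Nat.card F ^ ((m + 1) * m) * (Nat.card F ^ (m + 1) + 1) *
      ∏ i ∈ Finset.range m, (Nat.card F ^ (2 * (i + 1)) - 1) := by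
  obtain ⟨a, b, hab⟩ := exists_aniso_coeff F
  obtain ⟨e, he⟩ := exists_minus_equiv hab m Q hQ hd hP
  rw [card_O_congr he, card_O_eq, LieClassical.QuadForms.coe_minusForm]
  have := S0288.result (F := F) Nat.card_eq_fintype_card.symm (m + 1) (by omega) a b hab
  simpa only [_root_.Nat.card_eq_fintype_card, _root_.Nat.add_one_sub_one, _root_.add_tsub_cancel_right] using this

/-- the order of `O(Q)`, plus type -/
theorem card_O_plus (m : ℕ) (hm : 1 ≤ m) (hQ : Nondeg Q) (hd : finrank F V = 2 * m) (hP : IsPlus Q) :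
    Nat.card (O Q) = 2 * Nat.card F ^ (m * (m - 1)) * (Nat.card F ^ m - 1) *
      ∏ i ∈ Finset.range (m - 1), (Nat.card F ^ (2 * (i + 1)) - 1) := by
  obtain ⟨e, he⟩ := exists_plus_equiv m Q hQ hd hP
  rw [card_O_congr he, card_O_eq, LieClassical.QuadForms.coe_plusForm]
  exact S0287.result (F := F) Nat.card_eq_fintype_card.symm m hm

/-- the index of `E(Q)` -/
theorem card_E_mul (m : ℕ) (hm : 2 ≤ m) (hQ : Nondeg Q) (hd : finrank F V = 2 * (m + 1)) :
    ∃ k, (k = 2 ∨ k = 4) ∧ Nat.card (E Q) * k = Nat.card (O Q) := by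
  by_cases hP : IsPlus Q
  · obtain ⟨e, he⟩ := exists_plus_equiv (m + 1) Q hQ hd hP
    rw [card_O_congr he, card_E_congr he]
    refine card_mul (nondeg_of_equiv e he hQ) ?_
    simp only [Fintype.card_sum, Fintype.card_fin]
    omega
  · obtain ⟨a, b, hab⟩ := exists_aniso_coeff F
    obtain ⟨e, he⟩ := exists_minus_equiv hab m Q hQ hd hP
    rw [card_O_congr he, card_E_congr he]
    refine card_mul (nondeg_of_equiv e he hQ) ?_
    simp only [Fintype.card_sum, Fintype.card_fin]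
    omega

end Card

section Stab

variable {F : Type u} [Field F] {V : Type v} [AddCommGroup V] [Module F V] [FiniteDimensional F V] {Q : QuadraticForm F V}

/-- the stabiliser of a subspace in `O(Q)` -/
def StO (Q : QuadraticForm F V) (U : Submodule F V) : Subgroup (V ≃ₗ[F] V) where
  carrier := {g | g ∈ O Q ∧ U.map (g : V →ₗ[F] V) = U}
  one_mem' := ⟨one_mem _, Submodule.map_id U⟩
  mul_mem' := by
    rintro g h ⟨hg, hg'⟩ ⟨hh, hh'⟩
    refine ⟨mul_mem hg hh, ?_⟩
    have e : ((g * h : V ≃ₗ[F] V) : V →ₗ[F] V) = (g : V →ₗ[F] V).comp (h : V →ₗ[F] V) := rfl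
    rw [e, Submodule.map_comp, hh', hg']
  inv_mem' := by
    rintro g ⟨hg, hg'⟩
    refine ⟨inv_mem hg, ?_⟩
    have e : ((g⁻¹ : V ≃ₗ[F] V) : V →ₗ[F] V).comp (g : V →ₗ[F] V) = LinearMap.id :=
      LinearMap.ext fun v => g.symm_apply_apply v
    conv_lhs => rw [← hg']
    rw [← Submodule.map_comp, e, Submodule.map_id]

/-- restriction to the subspace -/
def rO (Q : QuadraticForm F V) (U : Submodule F V) : ↥(StO Q U) →* ↥(O (H955.res Q U)) where
  toFun g := ⟨LinearEquiv.ofSubmodules g.1 U U g.2.2, fun v => g.2.1 v⟩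
  map_one' := by
    apply Subtype.ext
    ext v
    rfl
  map_mul' g h := by
    apply Subtype.ext
    ext v
    rfl

theorem StO_perp (hQ : Nondeg Q) (U : Submodule F V) : StO Q U ≤ StO Q (perp Q U) := by
  rintro g ⟨hg, hg'⟩
  refine ⟨hg, ?_⟩
  apply Submodule.eq_of_le_of_finrank_le
  · rintro _ ⟨v, hv, rfl⟩
    intro w hw
    rw [← hg'] at hw
    obtain ⟨u, hu, rfl⟩ := hw
    change polar Q (g u) (g v) = 0
    rw [polar_map hg]
    exact hv u hu
  · rw [LinearEquiv.finrank_map_eq]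

/-- restriction to the two summands -/
def rO2 (hQ : Nondeg Q) (U : Submodule F V) :
    ↥(StO Q U) →* ↥(O (H955.res Q U)) × ↥(O (H955.res Q (perp Q U))) :=
  (rO Q U).prod ((rO Q (perp Q U)).comp (Subgroup.inclusion (StO_perp hQ U)))

theorem rO2_injective (hQ : Nondeg Q) {U : Submodule F V} (hU : Nondeg (H955.res Q U)) :
    Function.Injective (rO2 hQ U) := by
  intro g h hgh
  have h1 := congrArg Prod.fst hgh
  have h2 := congrArg Prod.snd hgh
  apply Subtype.ext
  ext v
  obtain ⟨x, rfl⟩ := (decomp hU).surjective v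
  rw [decomp_apply, map_add, map_add]
  have e1 : g.1 (x.1 : V) = h.1 (x.1 : V) :=
    congrArg (fun k : ↥(O (H955.res Q U)) => ((k.1 x.1 : U) : V)) h1
  have e2 : g.1 (x.2 : V) = h.1 (x.2 : V) :=
    congrArg (fun k : ↥(O (H955.res Q (perp Q U))) => ((k.1 x.2 : perp Q U) : V)) h2
  rw [e1, e2]

theorem card_StO_dvd [Finite F] (hQ : Nondeg Q) {U : Submodule F V} (hU : Nondeg (H955.res Q U)) :
    Nat.card (StO Q U) ∣ Nat.card (O (H955.res Q U)) * Nat.card (O (H955.res Q (perp Q U))) := by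
  rw [← Nat.card_prod]
  exact Subgroup.card_dvd_of_injective (rO2 hQ U) (rO2_injective hQ hU)

end Stab

end General

open Module QuadraticMap Cfsg Cfsg.Geo Cfsg.Agent.LieClassical.OrthCore Cfsg.Agent.H955 Cfsg.Agent.H954.TSing
open Cfsg.Agent.LieClassical.OmegaReindex
open Cfsg.Agent.H884.El
open Cfsg.Agent.H708.O8 (I8 T8 RB)
open Cfsg.Agent.H436 (Prim)
open Cfsg.Agent.H823.O8S Cfsg.Agent.H823.O8R
open Cfsg.Agent.LieClassical.OrthTrans (Hyp)
open scoped MatrixGroups Matrix commutatorElement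

/-! ### arithmetic -/

section Arith

variable {p a t : ℕ}

theorem not_two (hp : p.Prime) (h : Prim p (3 * a) t) (ha : 1 ≤ a) : t ≠ 2 := by
  rintro rfl
  have h1 : 2 ∣ p ^ 1 - 1 := by
    rw [pow_one]
    rcases Nat.even_or_odd p with he | ho
    · exact absurd (even_iff_two_dvd.1 he) h.not_dvd
    · obtain ⟨k, rfl⟩ := ho
      exact ⟨k, by omega⟩
  have h2 := Nat.le_of_dvd one_pos ((h.dvd_iff 1).1 h1)
  omega

/-- the numbers prime to `t = r₃` -/
theorem cop (hp : p.Prime) (h : Prim p (3 * a) t) (ha : 1 ≤ a) :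
    ¬ t ∣ 4 * (p ^ a) ^ 6 * (((p ^ a) ^ 2 - 1) * ((p ^ a) ^ 3 + 1) * ((p ^ a) ^ 4 - 1) * ((p ^ a) + 1)) := by
  have hpr := h.prime
  have h2 := not_two hp h ha
  have h3 : ∀ m, m < 3 * a → 0 < m → ¬ t ∣ p ^ m - 1 := fun m hm h0 =>
    h.not_dvd_sub fun hd => by have := Nat.le_of_dvd h0 hd; omega
  intro hd
  rcases hpr.dvd_mul.1 hd with hd | hd
  · rcases hpr.dvd_mul.1 hd with hd | hd
    · have h4 : t ∣ 2 ^ 2 := hd
      exact h2 ((Nat.prime_dvd_prime_iff_eq hpr Nat.prime_two).1 (hpr.dvd_of_dvd_pow h4))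
    · exact h.not_dvd (hpr.dvd_of_dvd_pow (hpr.dvd_of_dvd_pow hd))
  · rcases hpr.dvd_mul.1 hd with hd | hd
    · rcases hpr.dvd_mul.1 hd with hd | hd
      · rcases hpr.dvd_mul.1 hd with hd | hd
        · rw [← pow_mul] at hd
          exact h3 _ (by omega) (by omega) hd
        · have h4 : t ∣ p ^ (3 * a) - 1 := h.dvd dvd_rfl
          rw [← pow_mul, mul_comm a 3] at hd
          have h5 : p ^ (3 * a) + 1 - (p ^ (3 * a) - 1) = 2 := by
            have := Nat.one_le_pow (3 * a) p hp.pos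
            omega
          have h6 := Nat.dvd_sub hd h4
          rw [h5] at h6
          exact h2 ((Nat.prime_dvd_prime_iff_eq hpr Nat.prime_two).1 h6)
      · rw [← pow_mul] at hd
        have h4 := (h.dvd_iff _).1 hd
        have h5 : 3 * a ∣ 3 * a + a := by
          rw [show 3 * a + a = a * 4 by ring]
          exact h4
        have h6 := Nat.le_of_dvd (by omega) ((Nat.dvd_add_right dvd_rfl).1 h5)
        omega
    · have h4 : p ^ a + 1 ∣ p ^ (2 * a) - 1 := by
        rw [show 2 * a = a * 2 by ring, pow_mul, show (p ^ a) ^ 2 - 1 = (p ^ a) ^ 2 - 1 ^ 2 by rw [one_pow],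
          Nat.sq_sub_sq]
        exact dvd_mul_right _ _
      exact h3 _ (by omega) (by omega) (hd.trans h4)

theorem cop_p (hp : p.Prime) (ha : 1 ≤ a) :
    ¬ p ∣ (((p ^ a) ^ 2 - 1) * ((p ^ a) ^ 3 + 1) * ((p ^ a) ^ 4 - 1) * ((p ^ a) + 1)) := by
  have h1 : ∀ m, 1 ≤ m → ¬ p ∣ p ^ m + 1 := fun m hm hd => by
    have h2 := (Nat.dvd_add_right (dvd_pow_self p (by omega : m ≠ 0))).1 hd
    exact hp.one_lt.ne' (Nat.dvd_one.1 h2)
  have h2 : ∀ m, 1 ≤ m → ¬ p ∣ p ^ m - 1 := fun m hm hd => by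
    have h3 := (Nat.dvd_sub_iff_right (Nat.one_le_pow _ _ hp.pos) (dvd_pow_self p (by omega : m ≠ 0))).1 hd
    exact hp.one_lt.ne' (Nat.dvd_one.1 h3)
  intro hd
  simp only [← pow_mul] at hd
  rcases hp.dvd_mul.1 hd with hd | hd
  · rcases hp.dvd_mul.1 hd with hd | hd
    · rcases hp.dvd_mul.1 hd with hd | hd
      · exact h2 _ (by omega) hd
      · exact h1 _ (by omega) hd
    · exact h2 _ (by omega) hd
  · exact h1 _ ha hd

end Arith

variable {F : Type} [Field F] [Fintype F] {p a r b s k t : ℕ} {R : Subgroup (T8 F)}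

/-- the form -/
abbrev Q8 (F : Type) [Field F] : QuadraticForm F (I8 → F) := LieClassical.QuadForms.plusForm 4 F

theorem coe_Q8 : ⇑(Q8 F) = quadFormPlus 4 F := LieClassical.QuadForms.coe_plusForm 4

theorem nd_Q8 : Nondeg (Q8 F) := nondeg_plus 4

theorem dim_Q8 : finrank F (I8 → F) = 8 := finrank_plus 4

/-! ### the upper bound -/

section Upper

variable {W : Submodule F (I8 → F)}

theorem nondeg_W (hW : finrank F W = 2) (hW0 : ∀ w ∈ W, quadFormPlus 4 F w = 0 → w = 0) : Nondeg (res (Q8 F) W) :=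
  nondeg_of_aniso hW fun v hv => Subtype.ext (hW0 v v.2 (by rw [← coe_Q8]; exact hv))

theorem not_isPlus_W (hW : finrank F W = 2) (hW0 : ∀ w ∈ W, quadFormPlus 4 F w = 0 → w = 0) :
    ¬ IsPlus (res (Q8 F) W) :=
  not_isPlus_of_aniso (fun v hv => Subtype.ext (hW0 v v.2 (by rw [← coe_Q8]; exact hv))) (by omega)

theorem not_isPlus_perp (hW : finrank F W = 2) (hW0 : ∀ w ∈ W, quadFormPlus 4 F w = 0 → w = 0) :
    ¬ IsPlus (res (Q8 F) (perp (Q8 F) W)) := by
  have h1 := isPlus_iff_perp (nd_Q8 (F := F)) (nondeg_W hW hW0) (by rw [dim_Q8]; decide) (by rw [hW]; decide)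
  exact fun h => not_isPlus_W hW hW0 ((h1.1 (isPlus_plus 4)).2 h)

theorem dim_perp (hW : finrank F W = 2) : finrank F (perp (Q8 F) W) = 6 := by
  have := finrank_add_perp (nd_Q8 (F := F)) W
  rw [dim_Q8, hW] at this
  omega

theorem card_O_W (hF : Nat.card F = p ^ a) (hW : finrank F W = 2) (hW0 : ∀ w ∈ W, quadFormPlus 4 F w = 0 → w = 0) :
    Nat.card (O (res (Q8 F) W)) = 2 * (p ^ a + 1) := by
  have := card_O_minus 0 (nondeg_W hW hW0) hW (not_isPlus_W hW hW0)
  rw [hF] at this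
  simpa only [_root_.zero_add, _root_.MulZeroClass.mul_zero, _root_.pow_zero, _root_.mul_one, _root_.pow_one, _root_.Finset.range_zero, _root_.Finset.prod_empty] using this

theorem card_O_perp (hF : Nat.card F = p ^ a) (hW : finrank F W = 2)
    (hW0 : ∀ w ∈ W, quadFormPlus 4 F w = 0 → w = 0) :
    Nat.card (O (res (Q8 F) (perp (Q8 F) W))) =
      2 * ((p ^ a) ^ 6 * ((p ^ a) ^ 2 - 1) * ((p ^ a) ^ 3 + 1) * ((p ^ a) ^ 4 - 1)) := by
  have := card_O_minus 2 (nondeg_perp (nd_Q8 (F := F)) (nondeg_W hW hW0)) (dim_perp hW) (not_isPlus_perp hW hW0)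
  rw [this, hF, Finset.prod_range_succ, Finset.prod_range_succ, Finset.prod_range_zero]
  norm_num only [_root_.one_mul]
  ring

theorem pre_map_le (hle : pre (quadFormPlus 4 F) R ≤ SW W) :
    (pre (quadFormPlus 4 F) R).map (LieClassical.OrthFinite.glEquiv I8 F).toMonoidHom ≤ StO (Q8 F) W := by
  rintro _ ⟨g, hg, rfl⟩
  have h1 : g ∈ isometryGroup F (quadFormPlus 4 F) := pre_le hg
  rw [← coe_Q8] at h1
  refine ⟨?_, ?_⟩
  · rw [← LieClassical.OrthFinite.map_isometryGroup]
    exact ⟨g, h1, rfl⟩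
  · have h2 := mem_SW.1 (hle hg)
    exact h2

theorem pre_map_le_comm : (pre (quadFormPlus 4 F) R).map (LieClassical.OrthFinite.glEquiv I8 F).toMonoidHom ≤
    ⁅O (Q8 F), O (Q8 F)⁆ := by
  rintro _ ⟨g, hg, rfl⟩
  have h1 := pre_le_omegaGL hg
  rw [← coe_Q8] at h1
  rw [← LieClassical.OrthFinite.map_Omega]
  obtain ⟨x, hx, rfl⟩ := h1
  exact ⟨x, hx, rfl⟩

theorem refl_notMem {w : I8 → F} (hw : Q8 F w ≠ 0) : refl (Q8 F) w hw ∉ ⁅O (Q8 F), O (Q8 F)⁆ := by
  intro h1
  rw [← LieClassical.OrthFinite.map_Omega] at h1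
  obtain ⟨g, hg, e⟩ := h1
  have h2 : g = Cfsg.Agent.ClassicalGeometry.Reflection.reflIso (Q8 F) w hw := by
    apply LieClassical.OrthFinite.isometryHom_injective
    rw [e]
    apply LinearEquiv.ext
    intro x
    rw [refl_apply, LieClassical.OrthFinite.isometryHom_apply,
      Cfsg.Agent.ClassicalGeometry.Reflection.coe_reflIso,
      Cfsg.Agent.ClassicalGeometry.Reflection.reflectionMatrix_mulVec]
  rw [h2] at hg
  exact Cfsg.Agent.ClassicalGeometry.OrthDickson.refl_notMem_commutator (Q8 F) (nondegenerate_of_nondeg nd_Q8)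
    (Or.inr (by decide)) w hw hg

theorem two_mul_dvd (hW : finrank F W = 2) (hW0 : ∀ w ∈ W, quadFormPlus 4 F w = 0 → w = 0)
    (hle : pre (quadFormPlus 4 F) R ≤ SW W) : 2 * Nat.card (pre (quadFormPlus 4 F) R) ∣ Nat.card (StO (Q8 F) W) := by
  obtain ⟨w, hw, hw0⟩ : ∃ w ∈ W, w ≠ 0 := Submodule.exists_mem_ne_zero_of_ne_bot (by
    rintro rfl
    rw [finrank_bot] at hW
    omega)
  have hQw : Q8 F w ≠ 0 := fun h => hw0 (hW0 w hw (by rw [← coe_Q8]; exact h))
  let N : Subgroup ↥(StO (Q8 F) W) := (⁅O (Q8 F), O (Q8 F)⁆ : Subgroup _).subgroupOf (StO (Q8 F) W)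
  have hN : N.Normal := by
    refine ⟨fun n hn g => ?_⟩
    rw [Subgroup.mem_subgroupOf] at hn ⊢
    change (g : (I8 → F) ≃ₗ[F] (I8 → F)) * n * (g : (I8 → F) ≃ₗ[F] (I8 → F))⁻¹ ∈ _
    have hgO : (g : (I8 → F) ≃ₗ[F] (I8 → F)) ∈ O (Q8 F) := g.2.1
    have h1 : ∀ x ∈ O (Q8 F), x * (n : (I8 → F) ≃ₗ[F] (I8 → F)) * x⁻¹ ∈ (⁅O (Q8 F), O (Q8 F)⁆ : Subgroup _) := by
      intro x hx
      have h2 : x * (n : (I8 → F) ≃ₗ[F] (I8 → F)) * x⁻¹ = ⁅x, (n : (I8 → F) ≃ₗ[F] (I8 → F))⁆ * n := by
        rw [commutatorElement_def]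
        group
      rw [h2]
      exact mul_mem (Subgroup.commutator_mem_commutator hx n.2.1) hn
    exact h1 _ hgO
  have hr : refl (Q8 F) w hQw ∈ StO (Q8 F) W := by
    refine ⟨refl_mem_O hQw, ?_⟩
    apply Submodule.eq_of_le_of_finrank_le
    · rintro _ ⟨v, hv, rfl⟩
      change refl (Q8 F) w hQw v ∈ W
      rw [refl_apply]
      exact W.sub_mem hv (W.smul_mem _ hw)
    · rw [LinearEquiv.finrank_map_eq]
  have h2 : 2 ∣ N.index := by
    rw [Subgroup.index_eq_card]
    have h3 : orderOf (QuotientGroup.mk' N ⟨_, hr⟩) = 2 := by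
      refine orderOf_eq_prime ?_ ?_
      · rw [← map_pow]
        have h4 : (⟨_, hr⟩ : ↥(StO (Q8 F) W)) ^ 2 = 1 := by
          apply Subtype.ext
          rw [pow_two]
          exact refl_mul_self hQw
        rw [h4, map_one]
      · intro h4
        have h5 := (QuotientGroup.eq_one_iff _).1 h4
        exact refl_notMem hQw (Subgroup.mem_subgroupOf.1 h5)
    rw [← h3]
    exact orderOf_dvd_natCard _
  have h3 : Nat.card (pre (quadFormPlus 4 F) R) ∣ Nat.card N := by
    have h4 : Nat.card N = Nat.card ((⁅O (Q8 F), O (Q8 F)⁆ : Subgroup _) ⊓ StO (Q8 F) W : Subgroup _) := by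
      rw [← Subgroup.subgroupOf_map_subtype]
      exact (Subgroup.card_map_of_injective (Subgroup.subtype_injective _)).symm
    rw [h4, ← Subgroup.card_map_of_injective
      (f := (LieClassical.OrthFinite.glEquiv I8 F).toMonoidHom) (LieClassical.OrthFinite.glEquiv I8 F).injective]
    exact Subgroup.card_dvd_of_le (le_inf pre_map_le_comm (pre_map_le hle))
  rw [← Subgroup.card_mul_index N, mul_comm]
  exact mul_dvd_mul h3 h2

/-- **the stabiliser of an anisotropic plane** -/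
theorem ord_fixP (hF : Nat.card F = p ^ a) (h : Nm p a r b s k t) (hP : FixP R) :
    ¬ t ∣ Nat.card R ∧ (Nat.card R).factorization p ≤ 6 * a + (if p = 2 then 1 else 0) := by
  obtain ⟨W, hW, hW0, hle⟩ := hP
  have hp : p.Prime := h.rb.hp
  have ha : 1 ≤ a := h.rb.ha
  set M := ((p ^ a) ^ 2 - 1) * ((p ^ a) ^ 3 + 1) * ((p ^ a) ^ 4 - 1) * ((p ^ a) + 1) with hM
  have h1 : 2 * Nat.card R ∣ 2 * (2 * (p ^ a) ^ 6 * M) := by
    refine (mul_dvd_mul_left 2 card_dvd_pre).trans ((two_mul_dvd hW hW0 hle).trans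
      ((card_StO_dvd nd_Q8 (nondeg_W hW hW0)).trans ?_))
    rw [card_O_W hF hW hW0, card_O_perp hF hW hW0, hM]
    refine dvd_of_eq ?_
    ring
  have h2 : Nat.card R ∣ 2 * (p ^ a) ^ 6 * M := Nat.dvd_of_mul_dvd_mul_left two_pos h1
  have hM0 : M ≠ 0 := fun h0 => cop_p hp ha (by rw [← hM, h0]; exact dvd_zero _)
  refine ⟨fun ht => cop hp h.t ha (ht.trans (h2.trans ?_)), ?_⟩
  · rw [← hM]
    exact ⟨2, by ring⟩
  · have h3 := (Nat.factorization_le_iff_dvd Nat.card_pos.ne' (by
      refine mul_ne_zero (mul_ne_zero two_ne_zero (pow_ne_zero _ (pow_ne_zero _ hp.ne_zero))) hM0)).2 h2 p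
    refine h3.trans ?_
    rw [Nat.factorization_mul (mul_ne_zero two_ne_zero (pow_ne_zero _ (pow_ne_zero _ hp.ne_zero))) hM0,
      Nat.factorization_mul two_ne_zero (pow_ne_zero _ (pow_ne_zero _ hp.ne_zero)), ← pow_mul,
      Finsupp.add_apply, Finsupp.add_apply, hp.factorization_pow, Nat.factorization_eq_zero_of_not_dvd (cop_p hp ha)]
    rw [Nat.prime_two.factorization]
    by_cases hp2 : p = 2
    · subst hp2
      simp only [_root_.Finsupp.single_eq_same, _root_.Finsupp.single_mul, _root_.Finsupp.mul_apply, _root_.add_zero, ↓ _root_.reduceIte]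
      omega
    · simp only [hp2, _root_.ne_eq, _root_.not_false_eq_true, _root_.Finsupp.single_eq_of_ne, _root_.Finsupp.single_mul, _root_.Finsupp.mul_apply, _root_.Finsupp.single_eq_same, _root_.zero_add, _root_.add_zero, ↓ _root_.reduceIte]
      omega

end Upper

/-! ### the lower bounds -/

section Lower

open Cfsg.Agent.H883.Sub (EY EY_le_iff EY_fix exists_lift EY_mono)
open Cfsg.Agent.H883.Root (Has)

variable {W Y : Submodule F (I8 → F)}

/-- a group containing the Siegel transformations supported by `U^⊥` contains `E(Y)`, `Y ≤ U^⊥` -/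
theorem EY_le (hs : HasSieg R W) (hY : Y ≤ perp (Q8 F) W) :
    EY (Q8 F) Y ≤ (pre (quadFormPlus 4 F) R).map (LieClassical.OrthFinite.glEquiv I8 F).toMonoidHom := by
  rw [EY_le_iff]
  intro u hu w hw h1 h2
  refine ⟨h1, h2, (LieClassical.OrthFinite.glEquiv I8 F).symm (siegel (Q8 F) u w h1 h2),
    hs u w h1 h2 (fun v hv => ?_) (fun v hv => ?_), (LieClassical.OrthFinite.glEquiv I8 F).apply_symm_apply _⟩
  · rw [polar_comm]
    exact hY hu v hv
  · rw [polar_comm]
    exact hY hw v hv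

theorem exists_omega (hs : HasSieg R W) (hY : Y ≤ perp (Q8 F) W) {g : (I8 → F) ≃ₗ[F] (I8 → F)} (hg : g ∈ EY (Q8 F) Y) :
    ∃ x : Omega F (quadFormPlus 4 F), QuotientGroup.mk' (Subgroup.center (Omega F (quadFormPlus 4 F))) x ∈ R ∧
      LieClassical.OrthFinite.glEquiv I8 F ((x : isometryGroup F (quadFormPlus 4 F)) : GL I8 F) = g := by
  obtain ⟨y, hy, rfl⟩ := EY_le hs hY hg
  obtain ⟨_, ⟨x, hx, rfl⟩, rfl⟩ := hy
  exact ⟨x, hx, rfl⟩

/-- a central element of `Ω` which fixes a nonzero vector is trivial -/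
theorem eq_one_of_center {x : Omega F (quadFormPlus 4 F)} (hx : x ∈ Subgroup.center (Omega F (quadFormPlus 4 F)))
    {w : I8 → F} (hw : w ≠ 0)
    (h : LieClassical.OrthFinite.glEquiv I8 F ((x : isometryGroup F (quadFormPlus 4 F)) : GL I8 F) w = w) : x = 1 := by
  have hiso : ∃ u : I8 → F, u ≠ 0 ∧ Q8 F u = 0 := by
    obtain ⟨u, hu0, hu⟩ := exists_singular (Q8 F) (by rw [dim_Q8]; norm_num)
    exact ⟨u, hu0, hu⟩
  have key : ∀ (q : (I8 → F) → F) (hq : q = ⇑(Q8 F)) (x : Omega F q), x ∈ Subgroup.center (Omega F q) →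
      LieClassical.OmegaCenter.omegaMat x = 1 ∨ LieClassical.OmegaCenter.omegaMat x = -1 := by
    rintro q rfl x hx
    exact (LieClassical.OmegaCenter.mem_center_omega_iff (Q8 F) (nondegenerate_of_nondeg nd_Q8) (by decide) hiso x).1 hx
  rw [LieClassical.OrthFinite.glEquiv_apply] at h
  rcases key _ coe_Q8.symm x hx with h1 | h1
  · exact LieClassical.OmegaCenter.omega_ext h1
  · have h2 : LieClassical.OmegaCenter.omegaMat x = 1 := by
      rw [h1]
      have h3 : (-1 : Matrix I8 I8 F) *ᵥ w = w := by rw [← h1]; exact h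
      rw [Matrix.neg_mulVec, Matrix.one_mulVec] at h3
      obtain ⟨i, hi⟩ := Function.ne_iff.1 hw
      have h4 : - w i = w i := congrFun h3 i
      have h5 : (2 : F) * w i = 0 := by linear_combination -h4
      have h6 : (2 : F) = 0 := (mul_eq_zero.1 h5).resolve_right hi
      have h7 : (-1 : F) = 1 := by linear_combination -h6
      ext i j
      rw [Matrix.neg_apply, ← neg_one_mul, h7, one_mul]
    exact LieClassical.OmegaCenter.omega_ext h2

/-- `E(Y)` embeds in `R` -/
theorem card_E_le (hs : HasSieg R W) (hY : Y ≤ perp (Q8 F) W) {w : I8 → F} (hwW : w ∈ W) (hw0 : w ≠ 0) :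
    Nat.card (E (res (Q8 F) Y)) ≤ Nat.card R := by
  have hwY : ∀ y ∈ Y, polar (Q8 F) y w = 0 := fun y hy => by
    rw [polar_comm]
    exact hY hy w hwW
  have h1 : ∀ g : E (res (Q8 F) Y), ∃ x : Omega F (quadFormPlus 4 F),
      QuotientGroup.mk' (Subgroup.center (Omega F (quadFormPlus 4 F))) x ∈ R ∧
      LieClassical.OrthFinite.glEquiv I8 F ((x : isometryGroup F (quadFormPlus 4 F)) : GL I8 F) w = w ∧
      ∀ y : Y, LieClassical.OrthFinite.glEquiv I8 F ((x : isometryGroup F (quadFormPlus 4 F)) : GL I8 F) (y : I8 → F) =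
        ((g : Y ≃ₗ[F] Y) y : I8 → F) := by
    intro g
    obtain ⟨g', hg', e⟩ := exists_lift (Q := Q8 F) (Y := Y) g.2
    obtain ⟨x, hx, rfl⟩ := exists_omega hs hY hg'
    exact ⟨x, hx, EY_fix hg' hwY, e⟩
  choose f hf1 hf2 hf3 using h1
  refine Nat.card_le_card_of_injective (fun g => (⟨_, hf1 g⟩ : R)) fun g g' hgg => ?_
  have h2 : QuotientGroup.mk' (Subgroup.center (Omega F (quadFormPlus 4 F))) (f g) =
      QuotientGroup.mk' (Subgroup.center (Omega F (quadFormPlus 4 F))) (f g') := congrArg Subtype.val hgg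
  have h3 : (f g)⁻¹ * f g' ∈ Subgroup.center (Omega F (quadFormPlus 4 F)) := QuotientGroup.eq.1 h2
  have h4 := eq_one_of_center h3 hw0 (by
    change (LieClassical.OrthFinite.glEquiv I8 F ((((f g : isometryGroup F (quadFormPlus 4 F)) : GL I8 F))⁻¹ *
      ((f g' : isometryGroup F (quadFormPlus 4 F)) : GL I8 F))) w = w
    rw [map_mul, map_inv, LinearEquiv.mul_apply, hf2 g']
    nth_rewrite 1 [← hf2 g]
    exact LinearEquiv.symm_apply_apply _ _)
  have h5 : f g = f g' := by
    rw [inv_mul_eq_one] at h4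
    exact h4
  apply Subtype.ext
  ext1 y
  apply Subtype.ext
  rw [← hf3 g, ← hf3 g', h5]

/-- primes dividing the order of `E(Y)` divide the order of `R` -/
theorem dvd_card_of (hs : HasSieg R W) (hY : Y ≤ perp (Q8 F) W) {w : I8 → F} (hwW : w ∈ W) (hw0 : w ≠ 0) {l : ℕ}
    (hl : l.Prime) (hd : l ∣ Nat.card (E (res (Q8 F) Y))) : l ∣ Nat.card R := by
  have hwY : ∀ y ∈ Y, polar (Q8 F) y w = 0 := fun y hy => by
    rw [polar_comm]
    exact hY hy w hwW
  have := Fact.mk hl
  have hfin : Finite (Y ≃ₗ[F] Y) := Finite.of_injective (fun g : Y ≃ₗ[F] Y => (g : Y → Y)) DFunLike.coe_injective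
  obtain ⟨g, hg⟩ := exists_prime_orderOf_dvd_card' l hd
  obtain ⟨g', hg', e⟩ := exists_lift (Q := Q8 F) (Y := Y) g.2
  obtain ⟨x, hx, rfl⟩ := exists_omega hs hY hg'
  let z : R := ⟨_, hx⟩
  have h1 : z ^ orderOf z = 1 := pow_orderOf_eq_one z
  have h2 : QuotientGroup.mk' (Subgroup.center (Omega F (quadFormPlus 4 F))) (x ^ orderOf z) = 1 := by
    rw [map_pow]
    exact congrArg Subtype.val h1
  have h3 := (QuotientGroup.eq_one_iff _).1 h2
  have h4 : ∀ n : ℕ, LieClassical.OrthFinite.glEquiv I8 F (((x ^ n : Omega F (quadFormPlus 4 F)) :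
      isometryGroup F (quadFormPlus 4 F)) : GL I8 F) =
      (LieClassical.OrthFinite.glEquiv I8 F ((x : isometryGroup F (quadFormPlus 4 F)) : GL I8 F)) ^ n := by
    intro n
    rw [← map_pow]
    rfl
  have h5 := eq_one_of_center h3 hw0 (by
    rw [h4]
    exact EY_fix (pow_mem hg' _) hwY)
  have h6 : (LieClassical.OrthFinite.glEquiv I8 F ((x : isometryGroup F (quadFormPlus 4 F)) : GL I8 F)) ^ orderOf z = 1 := by
    rw [← h4, h5]
    exact map_one _
  have h7 : ∀ (n : ℕ) (y : Y), ((LieClassical.OrthFinite.glEquiv I8 F ((x : isometryGroup F (quadFormPlus 4 F)) :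
      GL I8 F)) ^ n) (y : I8 → F) = (((g : Y ≃ₗ[F] Y) ^ n) y : I8 → F) := by
    intro n
    induction n with
    | zero => intro y; rfl
    | succ n ih =>
      intro y
      rw [pow_succ, pow_succ, LinearEquiv.mul_apply, LinearEquiv.mul_apply, e, ih]
  have h8 : g ^ orderOf z = 1 := by
    apply Subtype.ext
    ext1 y
    apply Subtype.ext
    rw [Subgroup.coe_pow, ← h7, h6]
    rfl
  rw [← hg]
  exact (orderOf_dvd_of_pow_eq_one h8).trans (orderOf_dvd_natCard z)

theorem le_of_sieg_plane (hF : Nat.card F = p ^ a) (h : Nm p a r b s k t) {W : Submodule F (I8 → F)}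
    (hW : finrank F W = 2) (hW0 : ∀ w ∈ W, quadFormPlus 4 F w = 0 → w = 0) (hs : HasSieg R W) :
    (p ^ a) ^ 6 * ((p ^ a) ^ 2 - 1) * ((p ^ a) ^ 3 + 1) * ((p ^ a) ^ 4 - 1) ≤ 2 * Nat.card R := by
  obtain ⟨w, hw, hw0⟩ : ∃ w ∈ W, w ≠ 0 := Submodule.exists_mem_ne_zero_of_ne_bot (by
    rintro rfl
    rw [finrank_bot] at hW
    omega)
  have h1 := card_E_le hs (le_refl _) hw hw0
  obtain ⟨j, hj, h2⟩ := card_E_mul 2 le_rfl (nondeg_perp (nd_Q8 (F := F)) (nondeg_W hW hW0)) (dim_perp hW)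
  rw [card_O_perp hF hW hW0] at h2
  have h3 : j ≤ 4 := by omega
  have h4 : Nat.card (E (res (Q8 F) (perp (Q8 F) W))) * j ≤ Nat.card R * 4 := Nat.mul_le_mul h1 h3
  omega

end Lower

end Cfsg.Agent.H372.O8R
end

-- part: H832/O8R/Num
section
/-!
# S3691, row `PΩ⁺₈(q)`: the numbers (helper832)

* `card_t8` : `|PΩ⁺₈(q)| (2, q - 1)² = q¹² (q² - 1) (q⁴ - 1)² (q⁶ - 1)`;
* `val_p`, `val_r`, `not_dvd_out` : the parts of `|T|` and `|Out(T)|` at the primes `p`, `r`, `s`, `t`.
-/

set_option autoImplicit false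

namespace Cfsg.Agent.H832.O8R

open Cfsg Cfsg.Agent.H823.O8R Cfsg.Agent.H823.O8S
open Cfsg.Agent.H708.O8 (I8 T8 RB)
open Cfsg.Agent.H436 (Prim)

section arith

theorem gcd_sq {q : ℕ} (hq : 2 ≤ q) : Nat.gcd 4 (q ^ 4 - 1) = (Nat.gcd 2 (q - 1)) ^ 2 := by
  rcases Nat.even_or_odd q with h | h
  · obtain ⟨k, rfl⟩ := h
    have h1 : Nat.gcd 2 (k + k - 1) = 1 := by
      rw [Nat.coprime_two_left.2 (by rw [Nat.odd_iff]; omega)]
    have h2 : Nat.gcd 4 ((k + k) ^ 4 - 1) = 1 := by
      have h3 : Nat.Coprime 2 ((k + k) ^ 4 - 1) := by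
        rw [Nat.coprime_two_left]
        have h4 : (k + k) ^ 4 = 2 * (8 * k ^ 4) := by ring
        have h5 : 1 ≤ k ^ 4 := Nat.one_le_pow _ _ (by omega)
        rw [h4, Nat.odd_iff]
        omega
      exact Nat.Coprime.pow_left 2 h3
    rw [h1, h2, one_pow]
  · obtain ⟨k, rfl⟩ := h
    have h1 : Nat.gcd 2 (2 * k + 1 - 1) = 2 := Nat.gcd_eq_left ⟨k, by omega⟩
    have h2 : Nat.gcd 4 ((2 * k + 1) ^ 4 - 1) = 4 := by
      apply Nat.gcd_eq_left
      refine ⟨4 * k ^ 4 + 8 * k ^ 3 + 6 * k ^ 2 + 2 * k, ?_⟩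
      have h3 : (2 * k + 1) ^ 4 = 4 * (4 * k ^ 4 + 8 * k ^ 3 + 6 * k ^ 2 + 2 * k) + 1 := by ring
      rw [h3, Nat.add_sub_cancel]
    rw [h1, h2]
    norm_num

/-- `r ≡ 1` modulo the order -/
theorem dvd_sub_one {p e l : ℕ} (h : Prim p e l) : e ∣ l - 1 := by
  have : Fact l.Prime := ⟨h.prime⟩
  rw [← h.dvd_iff]
  have h1 : Nat.Coprime p l := ((Nat.Prime.coprime_iff_not_dvd h.prime).2 h.not_dvd).symm
  have h2 := Nat.ModEq.pow_totient h1
  rw [Nat.totient_prime h.prime] at h2
  have hp0 : 0 < p := by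
    rcases Nat.eq_zero_or_pos p with h0 | h0
    · exact absurd (h0 ▸ dvd_zero l) h.not_dvd
    · exact h0
  exact (Nat.modEq_iff_dvd' (Nat.one_le_pow _ _ hp0)).1 h2.symm

theorem lt_of_prim {p e l : ℕ} (h : Prim p e l) : e < l := by
  have h1 := Nat.le_of_dvd (Nat.sub_pos_of_lt h.prime.one_lt) (dvd_sub_one h)
  have := h.prime.one_lt
  omega

theorem not_dvd_24 {p e l a : ℕ} (h : Prim p e l) (he : 3 ≤ e) (ha1 : 1 ≤ a) (ha : a ≤ e) (c : ℕ) (hc : c ∣ 24) :
    ¬ l ∣ c * a := by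
  intro h1
  have h2 := lt_of_prim h
  rcases (Nat.Prime.dvd_mul h.prime).1 h1 with h3 | h3
  · have h4 := h3.trans hc
    rw [show (24 : ℕ) = 2 ^ 3 * 3 from rfl, Nat.Prime.dvd_mul h.prime] at h4
    rcases h4 with h5 | h5
    · have := (Nat.prime_dvd_prime_iff_eq h.prime Nat.prime_two).1 (h.prime.dvd_of_dvd_pow h5)
      omega
    · have := (Nat.prime_dvd_prime_iff_eq h.prime Nat.prime_three).1 h5
      omega
  · have := Nat.le_of_dvd ha1 h3
    omega

theorem coprime_gcd {p e l n : ℕ} (h : Prim p e l) (he : 3 ≤ e) : Nat.Coprime l (Nat.gcd 2 n ^ 2) := by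
  apply Nat.Coprime.pow_right
  apply Nat.Coprime.coprime_dvd_right (Nat.gcd_dvd_left 2 n)
  rw [Nat.Prime.coprime_iff_not_dvd h.prime]
  intro h1
  have := (Nat.prime_dvd_prime_iff_eq h.prime Nat.prime_two).1 h1
  have := lt_of_prim h
  omega

end arith

variable {F : Type} [Field F] [Fintype F] {p a r b s k t : ℕ}

/-- **The order.** -/
theorem card_t8 (hF : Nat.card F = p ^ a) : Nat.card (T8 F) * (Nat.gcd 2 (p ^ a - 1)) ^ 2 =
    (p ^ a) ^ 12 * ((p ^ a) ^ 2 - 1) * ((p ^ a) ^ 4 - 1) ^ 2 * ((p ^ a) ^ 6 - 1) := by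
  have hq : 2 ≤ p ^ a := by
    rw [← hF]
    exact Finite.one_lt_card
  have h1 := S0293.result (F := F) (q := p ^ a) (by rw [← Nat.card_eq_fintype_card, hF]) 4 le_rfl
  rw [gcd_sq hq] at h1
  rw [mul_comm, h1]
  simp only [Finset.prod_range_succ, Finset.prod_range_zero]
  norm_num only [_root_.one_mul]
  ring

theorem card_out (hF : Nat.card F = p ^ a) (hp : p.Prime) (ha : 1 ≤ a) :
    Nat.card (Cfsg.Out (T8 F)) = (if p = 2 then 6 else 24) * a := by
  have hF' : Fintype.card F = p ^ a := by rw [← Nat.card_eq_fintype_card, hF]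
  have : NeZero a := ⟨by omega⟩
  by_cases h2 : p = 2
  · subst h2
    have h1 := S2607.result (F := F) (m := 4) ha hF' le_rfl
    rw [if_pos rfl] at h1
    obtain ⟨e⟩ := h1
    rw [if_pos rfl, Nat.card_congr e.toEquiv, Nat.card_prod, Nat.card_perm, Nat.card_fin]
    congr 1
    exact Nat.card_zmod a
  · have : Fact p.Prime := ⟨hp⟩
    have h1 := S2608.result (F := F) (m := 4) ha hF' h2 le_rfl
    rw [if_pos rfl] at h1
    obtain ⟨e⟩ := h1
    rw [if_neg h2, Nat.card_congr e.toEquiv, Nat.card_prod, Nat.card_perm, Nat.card_fin]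
    congr 1
    exact Nat.card_zmod a

section

variable (h : Nm p a r b s k t)
include h

theorem not_dvd_pow_sub {m : ℕ} (hm : 1 ≤ m) : ¬ p ∣ (p ^ a) ^ m - 1 := by
  intro h1
  have h2 : p ∣ (p ^ a) ^ m := by
    rw [← pow_mul]
    exact dvd_pow_self p (Nat.mul_ne_zero (by have := h.rb.ha; omega) (by omega))
  have h3 : p ∣ 1 := by
    have h4 := Nat.dvd_sub h2 h1
    rwa [Nat.sub_sub_self (Nat.one_le_pow _ _ (pow_pos h.rb.hp.pos _))] at h4
  exact h.rb.hp.one_lt.ne' (Nat.dvd_one.1 h3)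

theorem val_p (hF : Nat.card F = p ^ a) : (Nat.card (T8 F)).factorization p = 12 * a ∧
    (Nat.card (Cfsg.Out (T8 F))).factorization p ≤ a.factorization p + (if p = 2 then 1 else if p = 3 then 1 else 0) := by
  have hp := h.rb.hp
  have ha := h.rb.ha
  have hq : 2 ≤ p ^ a := by
    rw [← hF]
    exact Finite.one_lt_card
  have hc := card_t8 hF
  have hpos : ∀ m, 1 ≤ m → (p ^ a) ^ m - 1 ≠ 0 := by
    intro m hm
    have := Nat.one_lt_pow (show m ≠ 0 by omega) hq
    omega
  constructor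
  · have hd : Nat.gcd 2 (p ^ a - 1) ≠ 0 := Nat.gcd_ne_zero_left (by norm_num)
    have hd0 : (Nat.gcd 2 (p ^ a - 1)).factorization p = 0 := by
      apply Nat.factorization_eq_zero_of_not_dvd
      intro h1
      apply not_dvd_pow_sub h (m := 1) le_rfl
      rw [pow_one]
      exact h1.trans (Nat.gcd_dvd_right _ _)
    have hz : ∀ m, 1 ≤ m → ((p ^ a) ^ m - 1).factorization p = 0 := fun m hm =>
      Nat.factorization_eq_zero_of_not_dvd (not_dvd_pow_sub h hm)
    have h1 : (Nat.card (T8 F) * (Nat.gcd 2 (p ^ a - 1)) ^ 2).factorization p =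
        ((p ^ a) ^ 12 * ((p ^ a) ^ 2 - 1) * ((p ^ a) ^ 4 - 1) ^ 2 * ((p ^ a) ^ 6 - 1)).factorization p := by rw [hc]
    have hT : Nat.card (T8 F) ≠ 0 := by
      intro h0
      rw [h0, zero_mul] at hc
      exact mul_ne_zero (mul_ne_zero (mul_ne_zero (pow_ne_zero _ (by omega)) (hpos 2 (by norm_num)))
        (pow_ne_zero _ (hpos 4 (by norm_num)))) (hpos 6 (by norm_num)) hc.symm
    rw [Nat.factorization_mul hT (pow_ne_zero _ hd), Nat.factorization_pow,
      Nat.factorization_mul (mul_ne_zero (mul_ne_zero (pow_ne_zero _ (by omega)) (hpos 2 (by norm_num)))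
        (pow_ne_zero _ (hpos 4 (by norm_num)))) (hpos 6 (by norm_num)),
      Nat.factorization_mul (mul_ne_zero (pow_ne_zero _ (by omega)) (hpos 2 (by norm_num)))
        (pow_ne_zero _ (hpos 4 (by norm_num))),
      Nat.factorization_mul (pow_ne_zero _ (by omega)) (hpos 2 (by norm_num)), Nat.factorization_pow,
      Nat.factorization_pow, Nat.factorization_pow] at h1
    simp only [Finsupp.add_apply, Finsupp.smul_apply, smul_eq_mul, hd0, hz 2 (by norm_num), hz 4 (by norm_num),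
      hz 6 (by norm_num), hp.factorization_self] at h1
    omega
  · rw [card_out hF hp ha]
    by_cases h2 : p = 2
    · subst h2
      rw [if_pos rfl, if_pos rfl, Nat.factorization_mul (by norm_num) (by omega), Finsupp.add_apply]
      have h3 : (6 : ℕ).factorization 2 = 1 := by
        rw [show (6 : ℕ) = 2 * 3 from rfl, Nat.factorization_mul (by norm_num) (by norm_num), Finsupp.add_apply,
          Nat.prime_two.factorization_self, Nat.factorization_eq_zero_of_not_dvd (by norm_num)]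
      omega
    · rw [if_neg h2, if_neg h2, Nat.factorization_mul (by norm_num) (by omega), Finsupp.add_apply]
      by_cases h3 : p = 3
      · subst h3
        rw [if_pos rfl]
        have h4 : (24 : ℕ).factorization 3 = 1 := by
          rw [show (24 : ℕ) = 3 * 8 from rfl, Nat.factorization_mul (by norm_num) (by norm_num), Finsupp.add_apply,
            Nat.prime_three.factorization_self, Nat.factorization_eq_zero_of_not_dvd (by norm_num)]
        omega
      · rw [if_neg h3]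
        have h4 : (24 : ℕ).factorization p = 0 := by
          apply Nat.factorization_eq_zero_of_not_dvd
          intro h5
          rw [show (24 : ℕ) = 2 ^ 3 * 3 from rfl, Nat.Prime.dvd_mul hp] at h5
          rcases h5 with h5 | h5
          · exact h2 ((Nat.prime_dvd_prime_iff_eq hp Nat.prime_two).1 (hp.dvd_of_dvd_pow h5))
          · exact h3 ((Nat.prime_dvd_prime_iff_eq hp Nat.prime_three).1 h5)
        omega

theorem val_r (hF : Nat.card F = p ^ a) : (Nat.card (T8 F)).factorization r = 2 * b ∧ s ^ k ∣ Nat.card (T8 F) ∧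
    t ∣ Nat.card (T8 F) := by
  have hp := h.rb.hp
  have ha := h.rb.ha
  have hq : 2 ≤ p ^ a := by
    rw [← hF]
    exact Finite.one_lt_card
  have hc := card_t8 hF
  have hpos : ∀ m, 1 ≤ m → (p ^ a) ^ m - 1 ≠ 0 := by
    intro m hm
    have := Nat.one_lt_pow (show m ≠ 0 by omega) hq
    omega
  have hsix : (p ^ a) ^ 6 - 1 = (p ^ (3 * a) + 1) * (p ^ (3 * a) - 1) := by
    rw [← pow_mul, show a * 6 = 3 * a * 2 from by ring, pow_mul]
    exact Nat.sq_sub_sq (p ^ (3 * a)) 1
  refine ⟨?_, ?_, ?_⟩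
  · have hr := h.rb.prim
    have hd : Nat.gcd 2 (p ^ a - 1) ≠ 0 := Nat.gcd_ne_zero_left (by norm_num)
    have hd0 : ((Nat.gcd 2 (p ^ a - 1)) ^ 2).factorization r = 0 :=
      Nat.factorization_eq_zero_of_not_dvd fun h1 => hr.prime.one_lt.ne' (Nat.dvd_one.1
        ((coprime_gcd hr (by omega)) ▸ Nat.dvd_gcd dvd_rfl h1))
    have hz : ∀ m, ¬ 4 * a ∣ a * m → ((p ^ a) ^ m - 1).factorization r = 0 := fun m hm =>
      Nat.factorization_eq_zero_of_not_dvd (by rw [← pow_mul]; exact hr.not_dvd_sub hm)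
    have hz2 : ((p ^ a) ^ 2 - 1).factorization r = 0 := hz 2 fun h1 => by
      have := Nat.le_of_dvd (by omega) h1
      omega
    have hz6 : ((p ^ a) ^ 6 - 1).factorization r = 0 := hz 6 fun h1 => by
      rw [mul_comm 4 a] at h1
      have := Nat.dvd_of_mul_dvd_mul_left (by omega) h1
      omega
    have hz0 : ((p ^ a) ^ 12).factorization r = 0 :=
      Nat.factorization_eq_zero_of_not_dvd (by rw [← pow_mul]; exact hr.not_dvd_pow _)
    have hfour : (p ^ a) ^ 4 - 1 = ((p ^ a) ^ 2 + 1) * ((p ^ a) ^ 2 - 1) := by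
      have := Nat.sq_sub_sq ((p ^ a) ^ 2) 1
      rw [one_pow, ← pow_mul] at this
      exact this
    have hb : ((p ^ a) ^ 2 + 1).factorization r = b := by
      have e1 : (p ^ a) ^ 2 + 1 = p ^ (2 * a) + 1 := by rw [← pow_mul, mul_comm a 2]
      rw [e1]
      have h1 := (hr.prime.pow_dvd_iff_le_factorization (Nat.succ_ne_zero (p ^ (2 * a)))).1 h.rb.dvd
      have h2 := mt (hr.prime.pow_dvd_iff_le_factorization (Nat.succ_ne_zero (p ^ (2 * a)))).2 h.rb.not_dvd
      simp only [Nat.succ_eq_add_one] at h1 h2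
      omega
    have h4 : ((p ^ a) ^ 4 - 1).factorization r = b := by
      rw [hfour, Nat.factorization_mul (Nat.succ_ne_zero _) (hpos 2 (by norm_num)), Finsupp.add_apply, hb, hz2,
        add_zero]
    have h1 : (Nat.card (T8 F) * (Nat.gcd 2 (p ^ a - 1)) ^ 2).factorization r =
        ((p ^ a) ^ 12 * ((p ^ a) ^ 2 - 1) * ((p ^ a) ^ 4 - 1) ^ 2 * ((p ^ a) ^ 6 - 1)).factorization r := by rw [hc]
    have hT : Nat.card (T8 F) ≠ 0 := by
      intro h0
      rw [h0, zero_mul] at hc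
      exact mul_ne_zero (mul_ne_zero (mul_ne_zero (pow_ne_zero _ (by omega)) (hpos 2 (by norm_num)))
        (pow_ne_zero _ (hpos 4 (by norm_num)))) (hpos 6 (by norm_num)) hc.symm
    rw [Nat.factorization_mul hT (pow_ne_zero _ hd),
      Nat.factorization_mul (mul_ne_zero (mul_ne_zero (pow_ne_zero _ (by omega)) (hpos 2 (by norm_num)))
        (pow_ne_zero _ (hpos 4 (by norm_num)))) (hpos 6 (by norm_num)),
      Nat.factorization_mul (mul_ne_zero (pow_ne_zero _ (by omega)) (hpos 2 (by norm_num)))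
        (pow_ne_zero _ (hpos 4 (by norm_num))),
      Nat.factorization_mul (pow_ne_zero _ (by omega)) (hpos 2 (by norm_num)), Finsupp.add_apply,
      Finsupp.add_apply, Finsupp.add_apply, Finsupp.add_apply, hd0, hz0, hz2, hz6,
      Nat.factorization_pow ((p ^ a) ^ 4 - 1) 2, Finsupp.smul_apply, h4, smul_eq_mul] at h1
    omega
  · have h1 : s ^ k ∣ Nat.card (T8 F) * (Nat.gcd 2 (p ^ a - 1)) ^ 2 := by
      rw [hc, hsix]
      exact (h.rk.dvd.mul_right _).mul_left _
    exact Nat.Coprime.dvd_of_dvd_mul_right ((coprime_gcd h.rk.prim (by omega)).pow_left k) h1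
  · have h1 : t ∣ Nat.card (T8 F) * (Nat.gcd 2 (p ^ a - 1)) ^ 2 := by
      rw [hc, hsix]
      exact ((h.t.dvd dvd_rfl).mul_left _).mul_left _
    exact Nat.Coprime.dvd_of_dvd_mul_right (coprime_gcd h.t (by omega)) h1

theorem not_dvd_out (hF : Nat.card F = p ^ a) : ¬ r ∣ Nat.card (Cfsg.Out (T8 F)) ∧
    ¬ s ∣ Nat.card (Cfsg.Out (T8 F)) ∧ ¬ t ∣ Nat.card (Cfsg.Out (T8 F)) := by
  have ha := h.rb.ha
  rw [card_out hF h.rb.hp ha]
  have hc : (if p = 2 then 6 else 24) ∣ 24 := by
    by_cases h2 : p = 2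
    · rw [if_pos h2]; norm_num
    · rw [if_neg h2]
  exact ⟨not_dvd_24 h.rb.prim (by omega) ha (by omega) _ hc, not_dvd_24 h.rk.prim (by omega) ha (by omega) _ hc,
    not_dvd_24 h.t (by omega) ha (by omega) _ hc⟩

end

end Cfsg.Agent.H832.O8R
end
end
end

-- part: H372/O8R/Cross
section
set_option linter.all false
open scoped Cfsg.Agent.FastGrp

-- part: H30/HTS/QuotChar
section
/-!
# The character `|χ|²` of a quotient by central elements (helper30)
-/

set_option autoImplicit false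

universe u

namespace Cfsg.Agent.H30.HTS

open Cfsg Subgroup Cfsg.Agent.Characters.Core
open scoped ComplexConjugate

theorem exists_quot_char {P : Type u} [Group P] [Finite P] (Z : Subgroup P) [Z.Normal] (hZ : Z ≤ center P) {n : ℕ}
    (ρ : Representation ℂ P (Fin n → ℂ)) (hρ : ρ.IsIrreducible) : ∃ Ψ : P ⧸ Z → ℂ, IsCharacter (P ⧸ Z) Ψ ∧
      ∀ g : P, Ψ (g : P ⧸ Z) = ρ.character g * conj (ρ.character g) := by
  have hker : Z ≤ (Representation.linHom ρ ρ : P →* _).ker := by
    intro z hz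
    rw [MonoidHom.mem_ker]
    obtain ⟨c, hc⟩ := Cfsg.Agent.Characters.FixedPointFree.exists_smul_of_comm ρ hρ (ρ z) (fun g => by
      have h1 := mem_center_iff.1 (hZ hz) g
      show ρ z * ρ g = ρ g * ρ z
      rw [← map_mul, ← map_mul, h1])
    refine LinearMap.ext fun f => ?_
    refine LinearMap.ext fun v => ?_
    rw [Representation.linHom_apply]
    show ρ z (f (ρ z⁻¹ v)) = f v
    rw [hc]
    show c • f (ρ z⁻¹ v) = f v
    rw [← map_smul]
    have h2 : c • ρ z⁻¹ v = ρ z (ρ z⁻¹ v) := by rw [hc]; rfl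
    rw [h2]
    have h3 : ρ z (ρ z⁻¹ v) = v := by
      rw [← Module.End.mul_apply, ← map_mul, mul_inv_cancel, map_one]
      rfl
    rw [h3]
  let τ : Representation ℂ (P ⧸ Z) ((Fin n → ℂ) →ₗ[ℂ] (Fin n → ℂ)) := QuotientGroup.lift Z (Representation.linHom ρ ρ) hker
  refine ⟨τ.character, isCharacter_of_rep τ, fun g => ?_⟩
  have h1 : τ.character (g : P ⧸ Z) = (Representation.linHom ρ ρ).character g := rfl
  rw [h1, Representation.char_linHom, mul_comm]
  have h2 : ρ.character g⁻¹ = conj (ρ.character g) := by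
    exact isCharacter_apply_inv ⟨n, ρ, rfl⟩ g
  rw [h2]

/-- the sum of the values -/
theorem sum_quot_char {P : Type u} [Group P] [Finite P] (Z : Subgroup P) [Z.Normal] {n : ℕ} [Fintype (P ⧸ Z)]
    (ρ : Representation ℂ P (Fin n → ℂ)) (hρ : ρ.IsIrreducible) {Ψ : P ⧸ Z → ℂ}
    (h : ∀ g : P, Ψ (g : P ⧸ Z) = ρ.character g * conj (ρ.character g)) :
    ∑ s : P ⧸ Z, Ψ s = Nat.card (P ⧸ Z) := by
  classical
  have := Fintype.ofFinite P
  have h1 := classInner_irr_self (χ := ρ.character) ⟨n, ρ, hρ, rfl⟩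
  rw [classInner_def] at h1
  have h2 : ∑ g : P, ρ.character g * conj (ρ.character g) = Nat.card P := by
    have h3 : (Nat.card P : ℂ) ≠ 0 := card_ne_zero_complex
    field_simp at h1
    exact h1
  have h4 : ∑ g : P, ρ.character g * conj (ρ.character g) = (Nat.card Z : ℂ) * ∑ s : P ⧸ Z, Ψ s := by
    rw [Finset.mul_sum, ← Finset.sum_fiberwise (s := Finset.univ) (g := fun g : P => (g : P ⧸ Z))]
    refine Finset.sum_congr rfl fun s _ => ?_
    rw [Finset.sum_congr rfl (g := fun _ => Ψ s) (fun g hg => by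
      rw [← h g, (Finset.mem_filter.1 hg).2]), Finset.sum_const, nsmul_eq_mul]
    congr 2
    obtain ⟨g₀, rfl⟩ := QuotientGroup.mk_surjective s
    rw [← Fintype.card_subtype, ← Nat.card_eq_fintype_card]
    refine Nat.card_congr ⟨fun g => ⟨g₀⁻¹ * g.1, QuotientGroup.eq.1 g.2.symm⟩, fun z => ⟨g₀ * z.1, by
      rw [eq_comm, QuotientGroup.eq]; simp⟩, fun g => by ext; simp, fun z => by ext; simp⟩
  rw [h4, Subgroup.card_eq_card_quotient_mul_card_subgroup Z] at h2
  push_cast at h2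
  have h5 : (Nat.card Z : ℂ) ≠ 0 := by exact_mod_cast Nat.card_pos.ne'
  rw [mul_comm (Nat.card (P ⧸ Z) : ℂ)] at h2
  exact mul_left_cancel₀ h5 h2

end Cfsg.Agent.H30.HTS
end

-- part: H30/HTS/Count
section
/-!
# A counting argument for `Sz(8)` (helper30)

`Ψ` a character of degree 64 with real nonnegative values: a lower bound for the sum of its values over the conjugates of
the generators of a subgroup of order 5 or 13 on which a subgroup of order 4 acts.
-/

set_option autoImplicit false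

universe u

namespace Cfsg.Agent.H30.HTS

open Cfsg Subgroup Cfsg.Agent.Characters.Core

variable {S : Type u} [Group S]

/-- the sum of a character over the powers of an element -/
theorem exists_sum_pow [Finite S] {Ψ : S → ℂ} (hΨ : IsCharacter S Ψ) (x : S) :
    ∃ a : ℕ, ∑ i ∈ Finset.range (orderOf x), Ψ (x ^ i) = (orderOf x : ℂ) * a := by
  classical
  obtain ⟨n, ρ, rfl⟩ := hΨ
  have := Fintype.ofFinite (zpowers x)
  have hc : (Nat.card (zpowers x) : ℂ) ≠ 0 := by exact_mod_cast Nat.card_pos.ne'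
  let ρ' : Representation ℂ (zpowers x) (Fin n → ℂ) := ρ.comp (zpowers x).subtype
  let _ : Invertible (Nat.card (zpowers x) : ℂ) := invertibleOfNonzero hc
  have h1 := Representation.card_inv_mul_sum_char_eq_finrank ρ'
  refine ⟨Module.finrank ℂ ρ'.invariants, ?_⟩
  have h2 : ∑ i ∈ Finset.range (orderOf x), ρ.character (x ^ i) = ∑ g : zpowers x, ρ'.character g := by
    rw [← Fin.sum_univ_eq_sum_range (fun i => ρ.character (x ^ i))]
    exact Fintype.sum_equiv (finEquivZPowers (isOfFinOrder_of_finite x)) _ _ fun i => rfl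
  rw [h2, ← h1, Nat.card_zpowers] at *
  rw [mul_inv_cancel_left₀ hc]

theorem isIntegral_char [Finite S] {Ψ : S → ℂ} (hΨ : IsCharacter S Ψ) (g : S) : IsIntegral ℤ (Ψ g) := by
  obtain ⟨n, ρ, rfl⟩ := hΨ
  exact Cfsg.Agent.Blocks.Central.isIntegral_character ρ g

/-- an algebraic integer which is a quarter of an integer -/
theorem exists_int {z : ℂ} (hz : IsIntegral ℤ z) {k : ℤ} (h : 4 * z = k) : ∃ m : ℤ, z = m := by
  have h1 : z = ((k / 4 : ℚ) : ℂ) := by
    push_cast
    rw [← h]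
    ring
  rw [h1] at hz
  have h2 : IsIntegral ℤ (k / 4 : ℚ) := by
    have : (algebraMap ℚ ℂ) (k / 4 : ℚ) = ((k / 4 : ℚ) : ℂ) := rfl
    rw [← this] at hz
    exact (isIntegral_algebraMap_iff (algebraMap ℚ ℂ).injective).1 hz
  obtain ⟨m, hm⟩ := (IsIntegrallyClosed.isIntegral_iff (R := ℤ) (K := ℚ)).1 h2
  refine ⟨m, ?_⟩
  rw [h1, ← hm]
  simp

/-- **order 5** -/
theorem five_ge [Finite S] {Ψ : S → ℂ} (hΨ : IsCharacter S Ψ) (hpos : ∀ s, 0 ≤ (Ψ s).re) (h1 : Ψ 1 = 64) {x : S}
    (hx : orderOf x = 5) (hn : ∃ n : S, n * x * n⁻¹ = x ^ 2) : 16 ≤ ∑ i ∈ Finset.range 4, (Ψ (x ^ (i + 1))).re := by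
  have hcl := isCharacter_isClassFunction hΨ
  obtain ⟨n, hn⟩ := hn
  have hx5 : x ^ 5 = 1 := by rw [← hx]; exact pow_orderOf_eq_one x
  have e : ∀ i : ℕ, Ψ (x ^ (2 * i)) = Ψ (x ^ i) := by
    intro i
    rw [pow_mul, ← hn, conj_pow]
    exact hcl _ _
  have e2 : Ψ (x ^ 2) = Ψ x := by have := e 1; rwa [mul_one, pow_one] at this
  have e4 : Ψ (x ^ 4) = Ψ x := by rw [show 4 = 2 * 2 from rfl, e 2, e2]
  have e3 : Ψ (x ^ 3) = Ψ x := by
    have := e 4
    rw [show 2 * 4 = 5 + 3 from rfl, pow_add, hx5, one_mul, e4] at this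
    exact this
  obtain ⟨a, ha⟩ := exists_sum_pow hΨ x
  rw [hx] at ha
  simp only [Finset.sum_range_succ, Finset.sum_range_zero, zero_add, pow_zero, pow_one] at ha
  rw [h1, e2, e3, e4] at ha
  have h4 : 4 * Ψ x = ((5 * a - 64 : ℤ) : ℂ) := by
    push_cast
    push_cast at ha
    linear_combination ha
  obtain ⟨m, hm⟩ := exists_int (isIntegral_char hΨ x) h4
  rw [hm] at h4
  have h5 : 4 * m = 5 * a - 64 := by exact_mod_cast h4
  have h6 : 0 ≤ m := by
    have := hpos x
    rw [hm] at this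
    simpa only [_root_.ge_iff_le, _root_.Complex.intCast_re, _root_.Int.cast_nonneg_iff] using this
  have h7 : 4 ≤ m := by omega
  simp only [Finset.sum_range_succ, Finset.sum_range_zero, zero_add, pow_one]
  norm_num
  rw [e2, e3, e4, hm]
  have h8 : (4 : ℝ) ≤ m := by exact_mod_cast h7
  simp
  linarith only [h8]

/-- **order 13** -/
theorem thirteen_ge [Finite S] {Ψ : S → ℂ} (hΨ : IsCharacter S Ψ) (hpos : ∀ s, 0 ≤ (Ψ s).re) (h1 : Ψ 1 = 64) {x : S}
    (hx : orderOf x = 13) (hn : ∃ n : S, n * x * n⁻¹ = x ^ 5) : 40 ≤ ∑ i ∈ Finset.range 12, (Ψ (x ^ (i + 1))).re := by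
  have hcl := isCharacter_isClassFunction hΨ
  obtain ⟨n, hn⟩ := hn
  have hx13 : x ^ 13 = 1 := by rw [← hx]; exact pow_orderOf_eq_one x
  have e : ∀ i : ℕ, Ψ (x ^ (5 * i)) = Ψ (x ^ i) := by
    intro i
    rw [pow_mul, ← hn, conj_pow]
    exact hcl _ _
  have red : ∀ i k : ℕ, x ^ (13 * k + i) = x ^ i := by
    intro i k
    rw [pow_add, pow_mul, hx13, one_pow, one_mul]
  have e5 : Ψ (x ^ 5) = Ψ x := by have := e 1; rwa [mul_one, pow_one] at this
  have e12 : Ψ (x ^ 12) = Ψ x := by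
    have := e 5
    rwa [show 5 * 5 = 13 * 1 + 12 from rfl, red, e5] at this
  have e8 : Ψ (x ^ 8) = Ψ x := by
    have := e 12
    rwa [show 5 * 12 = 13 * 4 + 8 from rfl, red, e12] at this
  have e10 : Ψ (x ^ 10) = Ψ (x ^ 2) := e 2
  have e11 : Ψ (x ^ 11) = Ψ (x ^ 2) := by
    have := e 10
    rwa [show 5 * 10 = 13 * 3 + 11 from rfl, red, e10] at this
  have e3 : Ψ (x ^ 3) = Ψ (x ^ 2) := by
    have := e 11
    rwa [show 5 * 11 = 13 * 4 + 3 from rfl, red, e11] at this
  have e7 : Ψ (x ^ 7) = Ψ (x ^ 4) := by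
    have := e 4
    rwa [show 5 * 4 = 13 * 1 + 7 from rfl, red] at this
  have e9 : Ψ (x ^ 9) = Ψ (x ^ 4) := by
    have := e 7
    rwa [show 5 * 7 = 13 * 2 + 9 from rfl, red, e7] at this
  have e6 : Ψ (x ^ 6) = Ψ (x ^ 4) := by
    have := e 9
    rwa [show 5 * 9 = 13 * 3 + 6 from rfl, red, e9] at this
  obtain ⟨a, ha⟩ := exists_sum_pow hΨ x
  rw [hx] at ha
  simp only [Finset.sum_range_succ, Finset.sum_range_zero, zero_add, pow_zero, pow_one] at ha
  rw [h1, e3, e5, e6, e7, e8, e9, e10, e11, e12] at ha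
  have h4 : 4 * (Ψ x + Ψ (x ^ 2) + Ψ (x ^ 4)) = ((13 * a - 64 : ℤ) : ℂ) := by
    push_cast
    push_cast at ha
    linear_combination ha
  obtain ⟨m, hm⟩ := exists_int (((isIntegral_char hΨ x).add (isIntegral_char hΨ (x ^ 2))).add
    (isIntegral_char hΨ (x ^ 4))) h4
  rw [hm] at h4
  have h5 : 4 * m = 13 * a - 64 := by exact_mod_cast h4
  have h9 := congrArg Complex.re hm
  simp only [Complex.add_re, Complex.intCast_re] at h9
  have h6 : 0 ≤ m := by
    have h10 := hpos x
    have h11 := hpos (x ^ 2)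
    have h12 := hpos (x ^ 4)
    have : (0 : ℝ) ≤ m := by linarith
    exact_mod_cast this
  have h7 : 10 ≤ m := by omega
  have h8 : (10 : ℝ) ≤ m := by exact_mod_cast h7
  simp only [Finset.sum_range_succ, Finset.sum_range_zero, zero_add, pow_one]
  norm_num only [_root_.ge_iff_le]
  rw [e3, e5, e6, e7, e8, e9, e10, e11, e12]
  linarith only [h9, h8]

/-- the conjugates of the generators of a subgroup of prime order -/
theorem sum_conj_ge [Fintype S] [DecidableEq S] {r : ℕ} [hr : Fact r.Prime] {f : S → ℝ} (hpos : ∀ s, 0 ≤ f s)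
    (hcl : ∀ s g, f (g * s * g⁻¹) = f s) {x : S} (hx : orderOf x = r) :
    ((normalizer (zpowers x : Set S)).index : ℝ) * ∑ i ∈ Finset.range (r - 1), f (x ^ (i + 1)) ≤
      ∑ s ∈ Finset.univ.filter (fun s => orderOf s = r), f s := by
  classical
  let N := normalizer (zpowers x : Set S)
  let φ : (S ⧸ N) × ℕ → S := fun c => c.1.out * x ^ (c.2 + 1) * c.1.out⁻¹
  have hord : ∀ i ∈ Finset.range (r - 1), orderOf (x ^ (i + 1)) = r := by
    intro i hi
    rw [Finset.mem_range] at hi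
    have h1 : Nat.Coprime r (i + 1) := (hr.out.coprime_iff_not_dvd).2 fun hd => by
      have := Nat.le_of_dvd (by omega) hd
      omega
    rw [orderOf_pow, hx, h1.gcd_eq_one, Nat.div_one]
  have hzp : ∀ i ∈ Finset.range (r - 1), zpowers (x ^ (i + 1)) = zpowers x := by
    intro i hi
    refine Subgroup.eq_of_le_of_card_ge (by rw [zpowers_le]; exact npow_mem_zpowers x _) ?_
    rw [Nat.card_zpowers, Nat.card_zpowers, hord i hi, hx]
  have hinj : Set.InjOn φ ((Finset.univ ×ˢ Finset.range (r - 1) : Finset ((S ⧸ N) × ℕ)) : Set ((S ⧸ N) × ℕ)) := by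
    rintro ⟨q, i⟩ hi ⟨q', j⟩ hj h
    rw [Finset.mem_coe, Finset.mem_product] at hi hj
    have h1 : q.out * x ^ (i + 1) * q.out⁻¹ = q'.out * x ^ (j + 1) * q'.out⁻¹ := h
    have h2 : (q'.out⁻¹ * q.out) * x ^ (i + 1) * (q'.out⁻¹ * q.out)⁻¹ = x ^ (j + 1) := by
      calc (q'.out⁻¹ * q.out) * x ^ (i + 1) * (q'.out⁻¹ * q.out)⁻¹ =
          q'.out⁻¹ * (q.out * x ^ (i + 1) * q.out⁻¹) * q'.out := by group
        _ = x ^ (j + 1) := by rw [h1]; group
    have h3 : q'.out⁻¹ * q.out ∈ N := by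
      show q'.out⁻¹ * q.out ∈ normalizer (zpowers x : Set S)
      rw [mem_normalizer_iff_map_conj_eq]
      conv_lhs => rw [← hzp i hi.2]
      show (zpowers (x ^ (i + 1))).map ((MulAut.conj (q'.out⁻¹ * q.out)).toMonoidHom) = _
      rw [MonoidHom.map_zpowers]
      show zpowers ((q'.out⁻¹ * q.out) * x ^ (i + 1) * (q'.out⁻¹ * q.out)⁻¹) = _
      rw [h2, hzp j hj.2]
    have h4 : q' = q := by
      rw [← q.out_eq, ← q'.out_eq]
      exact QuotientGroup.eq.2 h3
    subst h4
    have h5 : x ^ (i + 1) = x ^ (j + 1) := mul_left_cancel (mul_right_cancel h1)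
    have h6 := (pow_inj_mod (x := x)).1 h5
    have hi' := Finset.mem_range.1 hi.2
    have hj' := Finset.mem_range.1 hj.2
    rw [hx, Nat.mod_eq_of_lt (by omega), Nat.mod_eq_of_lt (by omega)] at h6
    have h7 : i = j := by omega
    rw [h7]
  have hidx : (N.index : ℝ) = ((Finset.univ : Finset (S ⧸ N)).card : ℝ) := by
    rw [Finset.card_univ, ← Nat.card_eq_fintype_card]
    rfl
  calc (N.index : ℝ) * ∑ i ∈ Finset.range (r - 1), f (x ^ (i + 1)) =
      ∑ c ∈ (Finset.univ ×ˢ Finset.range (r - 1) : Finset ((S ⧸ N) × ℕ)), f (φ c) := by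
        rw [Finset.sum_product]
        simp only [φ, hcl]
        rw [Finset.sum_const, nsmul_eq_mul, hidx]
    _ = ∑ s ∈ (Finset.univ ×ˢ Finset.range (r - 1) : Finset ((S ⧸ N) × ℕ)).image φ, f s := by
        rw [Finset.sum_image hinj]
    _ ≤ _ := by
        refine Finset.sum_le_sum_of_subset_of_nonneg ?_ fun s _ _ => hpos s
        intro s hs
        obtain ⟨c, hc, rfl⟩ := Finset.mem_image.1 hs
        rw [Finset.mem_product] at hc
        refine Finset.mem_filter.2 ⟨Finset.mem_univ _, ?_⟩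
        have h1 : orderOf (c.1.out * x ^ (c.2 + 1) * c.1.out⁻¹) = orderOf (x ^ (c.2 + 1)) := by
          have := MulEquiv.orderOf_eq (MulAut.conj c.1.out) (x ^ (c.2 + 1))
          simpa using this
        show orderOf (c.1.out * x ^ (c.2 + 1) * c.1.out⁻¹) = r
        rw [h1, hord _ hc.2]

end Cfsg.Agent.H30.HTS
end

-- part: H30/HTS/ConjPow
section
/-!
# Conjugate powers (helper30)

`U` of prime order `r`, the centralizer of its nontrivial elements, of index 4 in its normalizer: `x` is conjugate to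
`x ^ c` for `c ^ 4 = 1`.
-/

set_option autoImplicit false

universe u

namespace Cfsg.Agent.H30.HTS

open Subgroup

theorem exists_conj_pow {S : Type u} [Group S] [Finite S] {U : Subgroup S} {r : ℕ} [hr : Fact r.Prime]
    (hU : Nat.card U = r) (hC : ∀ u ∈ U, u ≠ 1 → centralizer ({u} : Set S) = U)
    (hN : Nat.card (normalizer (U : Set S)) = 4 * r) {x : S} (hx : x ∈ U) (hx1 : x ≠ 1)
    (h4 : (Finset.univ.filter (fun t : ZMod r => t ^ 4 = 1)).card ≤ 4) {c : ℕ} (hc : (c : ZMod r) ^ 4 = 1) :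
    ∃ n : S, n * x * n⁻¹ = x ^ c := by
  classical
  have hr0 : NeZero r := ⟨hr.out.ne_zero⟩
  have hord : orderOf x = r := by
    have h1 : orderOf x ∣ r := by
      rw [← hU]
      have := _root_.orderOf_dvd_natCard (⟨x, hx⟩ : U)
      rwa [Subgroup.orderOf_mk] at this
    rcases (Nat.dvd_prime hr.out).1 h1 with h | h
    · exact absurd (orderOf_eq_one_iff.1 h) hx1
    · exact h
  have hzp : zpowers x = U := by
    refine Subgroup.eq_of_le_of_card_ge (by rw [zpowers_le]; exact hx) ?_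
    rw [Nat.card_zpowers, hord, hU]
  let N := normalizer (U : Set S)
  have hUN : U ≤ N := le_normalizer
  -- the exponents
  have hex : ∀ n ∈ N, ∃ t : ZMod r, n * x * n⁻¹ = x ^ t.val := by
    intro n hn
    have h1 : n * x * n⁻¹ ∈ zpowers x := by
      rw [hzp]
      exact (mem_normalizer_iff.1 hn x).1 hx
    obtain ⟨k, hk⟩ := mem_zpowers_iff.1 h1
    refine ⟨(k : ZMod r), ?_⟩
    rw [← hk, ← zpow_natCast, ZMod.val_intCast, ← hord, zpow_mod_orderOf]
  choose! t ht using hex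
  have hN4 : ∀ n ∈ N, n ^ 4 ∈ U := by
    intro n hn
    have hidx : (U.subgroupOf N).index = 4 := by
      have h1 := (U.subgroupOf N).card_mul_index
      have h2 : Nat.card (U.subgroupOf N) = r := by
        rw [← hU]
        exact Nat.card_congr (Subgroup.subgroupOfEquivOfLe hUN).toEquiv
      have h3 : Nat.card N = 4 * r := hN
      rw [h2, h3, mul_comm] at h1
      exact Nat.eq_of_mul_eq_mul_right hr.out.pos h1
    have h1 := Subgroup.pow_index_mem (U.subgroupOf N) (⟨n, hn⟩ : N)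
    rw [hidx] at h1
    exact h1
  -- `t n ^ 4 = 1`
  have hiter : ∀ n ∈ N, ∀ j : ℕ, n ^ j * x * (n ^ j)⁻¹ = x ^ ((t n).val ^ j) := by
    intro n hn j
    induction j with
    | zero => simp
    | succ j ih =>
      calc n ^ (j + 1) * x * (n ^ (j + 1))⁻¹ = n * (n ^ j * x * (n ^ j)⁻¹) * n⁻¹ := by rw [pow_succ']; group
        _ = (n * x * n⁻¹) ^ ((t n).val ^ j) := by rw [ih, conj_pow]
        _ = x ^ ((t n).val ^ (j + 1)) := by rw [ht n hn, ← pow_mul, pow_succ']
  have heq : ∀ a b : ℕ, x ^ a = x ^ b → (a : ZMod r) = b := by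
    intro a b h
    rw [pow_inj_mod, hord] at h
    exact (ZMod.natCast_eq_natCast_iff a b r).2 h
  have ht4 : ∀ n ∈ N, t n ^ 4 = 1 := by
    intro n hn
    have h1 : n ^ 4 * x * (n ^ 4)⁻¹ = x := by
      have h2 : n ^ 4 ∈ centralizer ({x} : Set S) := by rw [hC x hx hx1]; exact hN4 n hn
      rw [mem_centralizer_singleton_iff] at h2
      rw [h2, mul_inv_cancel_right]
    rw [hiter n hn 4] at h1
    have h3 := heq _ 1 (by rw [h1, pow_one])
    rw [Nat.cast_pow, ZMod.natCast_zmod_val, Nat.cast_one] at h3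
    exact h3
  -- the cosets
  let Q := N ⧸ (U.subgroupOf N)
  have := Fintype.ofFinite Q
  have hQ : Fintype.card Q = 4 := by
    have h1 := (U.subgroupOf N).card_mul_index
    have h2 : Nat.card (U.subgroupOf N) = r := by
      rw [← hU]
      exact Nat.card_congr (Subgroup.subgroupOfEquivOfLe hUN).toEquiv
    have h3 : Nat.card N = 4 * r := hN
    rw [h2, h3, mul_comm] at h1
    rw [← Nat.card_eq_fintype_card]
    exact Nat.eq_of_mul_eq_mul_right hr.out.pos h1
  let T : Q → ZMod r := fun q => t (q.out : N)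
  have hTinj : Function.Injective T := by
    intro q q' h
    have h0 : t (q.out : N) = t (q'.out : N) := h
    have h1 : ((q.out : N) : S) * x * ((q.out : N) : S)⁻¹ = ((q'.out : N) : S) * x * ((q'.out : N) : S)⁻¹ := by
      rw [ht _ (q.out).2, ht _ (q'.out).2, h0]
    have h2 : ((q.out : N) : S)⁻¹ * ((q'.out : N) : S) ∈ centralizer ({x} : Set S) := by
      rw [mem_centralizer_singleton_iff]
      calc ((q.out : N) : S)⁻¹ * ((q'.out : N) : S) * x =
          ((q.out : N) : S)⁻¹ * (((q'.out : N) : S) * x * ((q'.out : N) : S)⁻¹) * ((q'.out : N) : S) := by group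
        _ = x * (((q.out : N) : S)⁻¹ * ((q'.out : N) : S)) := by rw [← h1]; group
    rw [hC x hx hx1] at h2
    rw [← q.out_eq, ← q'.out_eq]
    exact QuotientGroup.eq.2 (Subgroup.mem_subgroupOf.2 h2)
  have hsub : Finset.univ.image T ⊆ Finset.univ.filter (fun t : ZMod r => t ^ 4 = 1) := by
    intro z hz
    obtain ⟨q, -, rfl⟩ := Finset.mem_image.1 hz
    exact Finset.mem_filter.2 ⟨Finset.mem_univ _, ht4 _ (q.out).2⟩
  have hcard : (Finset.univ.image T).card = 4 := by
    rw [Finset.card_image_of_injective _ hTinj, Finset.card_univ, hQ]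
  have hall := Finset.eq_of_subset_of_card_le hsub (by rw [hcard]; exact h4)
  have hcm : (c : ZMod r) ∈ Finset.univ.image T := by
    rw [hall]
    exact Finset.mem_filter.2 ⟨Finset.mem_univ _, hc⟩
  obtain ⟨q, -, hq⟩ := Finset.mem_image.1 hcm
  refine ⟨((q.out : N) : S), ?_⟩
  rw [ht _ (q.out).2, pow_inj_mod, hord]
  have h5 : ((t (q.out : N)).val : ZMod r) = (c : ZMod r) := by rw [ZMod.natCast_zmod_val]; exact hq
  exact (ZMod.natCast_eq_natCast_iff _ _ r).1 h5

end Cfsg.Agent.H30.HTS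
end

-- part: H30/HTS/SzNo
section
/-!
# `Sz(8)` has no character of degree 64 with nonnegative values and mean value 1 (helper30)
-/

set_option autoImplicit false

universe u

namespace Cfsg.Agent.H30.HTS

open Cfsg Subgroup Cfsg.Agent.Characters.Core

theorem d13 : (Finset.univ.filter (fun t : ZMod 13 => t ^ 4 = 1)).card ≤ 4 := by decide

theorem d5 : (Finset.univ.filter (fun t : ZMod 5 => t ^ 4 = 1)).card ≤ 4 := by decide

theorem c13 : ((5 : ℕ) : ZMod 13) ^ 4 = 1 := by decide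

theorem c5 : ((2 : ℕ) : ZMod 5) ^ 4 = 1 := by decide

/-- the two subgroups -/
theorem sz_data {K : Type u} [Field K] [Fintype K] (hK : Fintype.card K = 8) :
    (∃ x : Cfsg.Sz K 1, orderOf x = 13 ∧ (∃ n : Cfsg.Sz K 1, n * x * n⁻¹ = x ^ 5) ∧
      (normalizer (zpowers x : Set (Cfsg.Sz K 1))).index = 560) ∧
    (∃ x : Cfsg.Sz K 1, orderOf x = 5 ∧ (∃ n : Cfsg.Sz K 1, n * x * n⁻¹ = x ^ 2) ∧
      (normalizer (zpowers x : Set (Cfsg.Sz K 1))).index = 1456) := by
  have hF : Fintype.card K = 2 ^ (2 * 1 + 1) := hK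
  have hcard : Nat.card (Cfsg.Sz K 1) = 29120 := by
    rw [Cfsg.Agent.S0324.result (le_refl 1) hF]
    norm_num
  have key : ∀ (k c idx : ℕ) [Fact k.Prime], k ∈ ({2 ^ (2 * 1 + 1) + 2 ^ (1 + 1) + 1, 2 ^ (2 * 1 + 1) - 2 ^ (1 + 1) + 1} : Set ℕ) →
      (Finset.univ.filter (fun t : ZMod k => t ^ 4 = 1)).card ≤ 4 → (c : ZMod k) ^ 4 = 1 → idx * (4 * k) = 29120 →
      ∃ x : Cfsg.Sz K 1, orderOf x = k ∧ (∃ n : Cfsg.Sz K 1, n * x * n⁻¹ = x ^ c) ∧
        (normalizer (zpowers x : Set (Cfsg.Sz K 1))).index = idx := by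
    intro k c idx hk hmem h4 hc hidx
    obtain ⟨U, -, hU, hC, hN⟩ := Cfsg.Agent.S0333.result (le_refl 1) hF k hmem
    have hfin : Finite (Cfsg.Sz K 1) := Nat.finite_of_card_ne_zero (by rw [hcard]; norm_num)
    obtain ⟨x, hx⟩ := exists_prime_orderOf_dvd_card' (G := U) k (by rw [hU])
    have hx' : orderOf (x : Cfsg.Sz K 1) = k := by rw [Subgroup.orderOf_coe, hx]
    have hx1 : (x : Cfsg.Sz K 1) ≠ 1 := by
      intro h
      rw [h, orderOf_one] at hx'
      exact hk.out.one_lt.ne hx'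
    have hzp : zpowers (x : Cfsg.Sz K 1) = U := by
      refine Subgroup.eq_of_le_of_card_ge (by rw [zpowers_le]; exact x.2) ?_
      rw [Nat.card_zpowers, hx', hU]
    refine ⟨x, hx', exists_conj_pow hU hC hN x.2 hx1 h4 hc, ?_⟩
    rw [hzp]
    have h1 := (normalizer (U : Set (Cfsg.Sz K 1))).card_mul_index
    rw [hN, hcard, ← hidx, mul_comm] at h1
    exact Nat.eq_of_mul_eq_mul_right (Nat.mul_pos (by norm_num) hk.out.pos) h1
  have : Fact (Nat.Prime 13) := ⟨by norm_num⟩
  have : Fact (Nat.Prime 5) := ⟨by norm_num⟩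
  exact ⟨key 13 5 560 (by norm_num) d13 c13 (by norm_num), key 5 2 1456 (by norm_num) d5 c5 (by norm_num)⟩

theorem no_char_sz {K : Type u} [Field K] [Fintype K] (hK : Fintype.card K = 8) [Fintype (Cfsg.Sz K 1)]
    {Ψ : Cfsg.Sz K 1 → ℂ} (hΨ : IsCharacter (Cfsg.Sz K 1) Ψ) (hre : ∀ s, 0 ≤ (Ψ s).re) (h1 : Ψ 1 = 64)
    (hsum : ∑ s, Ψ s = Nat.card (Cfsg.Sz K 1)) : False := by
  classical
  have hF : Fintype.card K = 2 ^ (2 * 1 + 1) := hK
  have hcard : Nat.card (Cfsg.Sz K 1) = 29120 := by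
    rw [Cfsg.Agent.S0324.result (le_refl 1) hF]
    norm_num
  obtain ⟨⟨x, hx, hxn, hxi⟩, ⟨y, hy, hyn, hyi⟩⟩ := sz_data hK
  have : Fact (Nat.Prime 13) := ⟨by norm_num⟩
  have : Fact (Nat.Prime 5) := ⟨by norm_num⟩
  have hcl := isCharacter_isClassFunction hΨ
  have hcl' : ∀ s g : Cfsg.Sz K 1, (Ψ (g * s * g⁻¹)).re = (Ψ s).re := fun s g => by rw [hcl s g]
  have h13 := sum_conj_ge (r := 13) (f := fun s => (Ψ s).re) hre hcl' hx
  have h5 := sum_conj_ge (r := 5) (f := fun s => (Ψ s).re) hre hcl' hy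
  have k13 := thirteen_ge hΨ hre h1 hx hxn
  have k5 := five_ge hΨ hre h1 hy hyn
  rw [hxi] at h13
  rw [hyi] at h5
  -- the total
  have htot : ∑ s, (Ψ s).re = 29120 := by
    have h2 := congrArg Complex.re hsum
    rw [Complex.re_sum, hcard] at h2
    simpa only [_root_.Nat.cast_ofNat, _root_.Complex.re_ofNat] using h2
  have hdis : Disjoint (Finset.univ.filter (fun s : Cfsg.Sz K 1 => orderOf s = 13))
      (Finset.univ.filter (fun s : Cfsg.Sz K 1 => orderOf s = 5)) := by
    rw [Finset.disjoint_filter]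
    intro s _ h h'
    omega
  have hle : ∑ s ∈ Finset.univ.filter (fun s : Cfsg.Sz K 1 => orderOf s = 13), (Ψ s).re +
      ∑ s ∈ Finset.univ.filter (fun s : Cfsg.Sz K 1 => orderOf s = 5), (Ψ s).re ≤ ∑ s, (Ψ s).re := by
    rw [← Finset.sum_union hdis]
    exact Finset.sum_le_sum_of_subset_of_nonneg (Finset.subset_univ _) fun s _ _ => hre s
  rw [htot] at hle
  norm_num only [] at h13 h5 k13 k5
  linarith only [k13, k5, hle, h13, h5]

end Cfsg.Agent.H30.HTS
end

-- part: H30/HTS/SzCore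
section
/-!
# No core of degree 8 with socle `Sz(8)` in coprime characteristic (helper30)
-/

set_option autoImplicit false

universe u v

namespace Cfsg.Agent.H30.HTS

open Cfsg Cfsg.Geo Subgroup Cfsg.Agent.Characters.Core Cfsg.Agent.H915.LD
open scoped ComplexConjugate

variable {F : Type u} [Field F] [Finite F] {p : ℕ} [hp : Fact p.Prime] [CharP F p]

/-- the order of the core is prime to `p` if that of the socle is -/
theorem not_dvd_card {n : ℕ} {P : Subgroup (Matrix.GeneralLinearGroup (Fin n) F)} (hn : 0 < n)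
    (hpc : ¬ p ∣ Nat.card (Soc P)) : ¬ p ∣ Nat.card P := by
  have hfin : Finite P := inferInstance
  intro hd
  have h1 := Subgroup.card_eq_card_quotient_mul_card_subgroup ((scalars (Fin n) F).subgroupOf P)
  rw [h1] at hd
  rcases (Nat.Prime.dvd_mul hp.out).1 hd with h | h
  · exact hpc h
  · obtain ⟨z, hz⟩ := exists_prime_orderOf_dvd_card' (G := (scalars (Fin n) F).subgroupOf P) p h
    have hz1 : z ≠ 1 := by
      rintro rfl
      rw [orderOf_one] at hz
      exact hp.out.one_lt.ne hz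
    apply hz1
    obtain ⟨c, hc⟩ := (mem_scalars_iff _).1 (mem_subgroupOf.1 z.2)
    have hpow : ((z : P) : Matrix.GeneralLinearGroup (Fin n) F) ^ p = 1 := by
      have := pow_orderOf_eq_one z
      rw [hz] at this
      have h2 := congrArg (fun w : (scalars (Fin n) F).subgroupOf P => ((w : P) : Matrix.GeneralLinearGroup (Fin n) F)) this
      simpa only [_root_.SubmonoidClass.coe_pow, _root_.OneMemClass.coe_one] using h2
    have h3 : ((c : F) • (1 : Matrix (Fin n) (Fin n) F)) ^ p = 1 := by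
      rw [← hc, ← Units.val_pow_eq_pow_val, hpow, Units.val_one]
    rw [smul_pow, one_pow] at h3
    have h4 := congrFun (congrFun h3 ⟨0, hn⟩) ⟨0, hn⟩
    rw [Matrix.smul_apply, Matrix.one_apply_eq, smul_eq_mul, mul_one] at h4
    have h5 : (c : F) = 1 := by
      apply frobenius_inj F p
      rw [frobenius_def, frobenius_def, one_pow, h4]
    ext i j
    show ((z : P) : Matrix.GeneralLinearGroup (Fin n) F).val i j = (1 : Matrix (Fin n) (Fin n) F) i j
    rw [hc, h5, one_smul]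

/-- the complex lift -/
theorem exists_lift {n : ℕ} {P : Subgroup (Matrix.GeneralLinearGroup (Fin n) F)} (hn : 0 < n) (hC : Core P)
    (hpc : ¬ p ∣ Nat.card (Soc P)) : ∃ ρ : Representation ℂ P (Fin n → ℂ), ρ.IsIrreducible := by
  have hfin : Finite P := inferInstance
  obtain ⟨ρ, hρ, -⟩ := Cfsg.Agent.H845.LiftIrr.exists_irr_lift (p := p) (F := F) (not_dvd_card hn hpc) hn P.subtype (by
    intro X hX
    refine hC.absIrred.2 X ?_
    rintro _ ⟨g, hg, rfl⟩
    exact hX ⟨g, hg⟩)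
  exact ⟨ρ, hρ⟩

omit [Finite F] in
/-- the scalars are central -/
theorem scalars_le {n : ℕ} (P : Subgroup (Matrix.GeneralLinearGroup (Fin n) F)) :
    (scalars (Fin n) F).subgroupOf P ≤ center P := by
  intro z hz
  obtain ⟨c, hc⟩ := (mem_scalars_iff _).1 (mem_subgroupOf.1 hz)
  rw [mem_center_iff]
  intro g
  apply Subtype.ext
  apply Units.ext
  show (g : Matrix.GeneralLinearGroup (Fin n) F).val * (z : Matrix.GeneralLinearGroup (Fin n) F).val =
    (z : Matrix.GeneralLinearGroup (Fin n) F).val * (g : Matrix.GeneralLinearGroup (Fin n) F).val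
  rw [hc, Matrix.smul_mul, Matrix.mul_smul, one_mul, mul_one]

/-- **No core of degree 8 with socle `Sz(8)` in coprime characteristic.** -/
theorem core_not_sz8 {P : Subgroup (Matrix.GeneralLinearGroup (Fin 8) F)} (hC : Core P) (hpc : ¬ p ∣ Nat.card (Soc P))
    (hT : H912.Bd.IsSz8 (Soc P)) : False := by
  have hfin : Finite P := inferInstance
  obtain ⟨K, iK, iKf, hK, ⟨e⟩⟩ := hT
  have hF : Fintype.card K = 2 ^ (2 * 1 + 1) := hK
  let e1 : Cfsg.Sz K 1 ≃* Soc P := (Cfsg.Agent.H680.Exc.iso (le_refl 1) hF).trans e.symm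
  obtain ⟨ρ, hρ⟩ := exists_lift (by norm_num) hC hpc
  obtain ⟨Ψ, hΨ, hv⟩ := exists_quot_char ((scalars (Fin 8) F).subgroupOf P) (scalars_le P) ρ hρ
  have := Fintype.ofFinite (Soc P)
  have hs := sum_quot_char ((scalars (Fin 8) F).subgroupOf P) ρ hρ hv
  have hfS : Finite (Cfsg.Sz K 1) := Finite.of_equiv _ e1.symm.toEquiv
  have := Fintype.ofFinite (Cfsg.Sz K 1)
  refine no_char_sz hK (Ψ := Ψ ∘ e1) (isCharacter_comp (e1 : Cfsg.Sz K 1 →* Soc P) hΨ) ?_ ?_ ?_
  · intro s
    obtain ⟨g, hg⟩ := QuotientGroup.mk_surjective (e1 s)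
    show 0 ≤ (Ψ (e1 s)).re
    rw [← hg]
    have h1 := hv g
    have h2 : Ψ (QuotientGroup.mk g) = ρ.character g * conj (ρ.character g) := h1
    rw [h2, Complex.mul_conj, Complex.ofReal_re]
    exact Complex.normSq_nonneg _
  · show Ψ (e1 1) = 64
    rw [map_one]
    have h1 := hv 1
    have h2 : Ψ 1 = ρ.character 1 * conj (ρ.character 1) := h1
    rw [h2, Representation.char_one, Module.finrank_fin_fun]
    have h3 : (starRingEnd ℂ) (((8 : ℕ) : ℂ)) = ((8 : ℕ) : ℂ) := map_natCast _ 8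
    rw [h3]
    norm_num
  · have h1 : ∑ s : Cfsg.Sz K 1, (Ψ ∘ e1) s = ∑ s : Soc P, Ψ s := Fintype.sum_equiv e1.toEquiv _ _ fun _ => rfl
    rw [h1, hs]
    exact congrArg _ (Nat.card_congr e1.toEquiv).symm

end Cfsg.Agent.H30.HTS
end

-- part: H372/O8R/Cross
section
/-!
# S3691, row `PΩ⁺₈(q)`, `q ≥ 16`: no cross characteristic socle (helper372, after helper532)

* `cross` : with the hypothesis that the socle is known.
-/

set_option autoImplicit false

namespace Cfsg.Agent.H372.O8R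

open Cfsg Cfsg.Geo Cfsg.Agent.OrdDiv Cfsg.Agent.H436 Cfsg.Agent.H264.FKS Cfsg.Agent.H902
open Cfsg.Agent.H902.Names Cfsg.Agent.H708.O8 Cfsg.Agent.H915.LD Cfsg.Agent.H884.El Cfsg.Agent.H936.List12
open Cfsg.Agent.H912.Bd Cfsg.Agent.H912.Five Cfsg.Agent.H823.O8S Cfsg.Agent.H823.O8R
open Cfsg.Agent.H532.O8S (B0 dvd_B0 not_dvd_B0 aut_L aut_U aut_S aut_OP fac_dvd fac_dvd' aut_A_eq aut_A aut_spor card_aut_sz8)
open Cfsg.Agent.H105.O8 (lie_dvd charP_of)
open scoped MatrixGroups Matrix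

variable {F : Type} [Field F] [Fintype F] {p a r b s k t : ℕ}

theorem prime_cases {l : ℕ} (hl : l.Prime) (hd : l ∣ 3 * 29120) : l = 2 ∨ l = 3 ∨ l = 5 ∨ l = 7 ∨ l = 13 := by
  have h1 : l ∣ 2 ^ 6 * 3 * 5 * 7 * 13 := by
    have : 3 * 29120 = 2 ^ 6 * 3 * 5 * 7 * 13 := by norm_num
    rwa [this] at hd
  have key : ∀ {m : ℕ}, m.Prime → l ∣ m → l = m := fun hm h => (Nat.prime_dvd_prime_iff_eq hl hm).1 h
  rcases hl.dvd_mul.1 h1 with h1 | h1
  · rcases hl.dvd_mul.1 h1 with h1 | h1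
    · rcases hl.dvd_mul.1 h1 with h1 | h1
      · rcases hl.dvd_mul.1 h1 with h1 | h1
        · exact Or.inl (key Nat.prime_two (hl.dvd_of_dvd_pow h1))
        · exact Or.inr (Or.inl (key Nat.prime_three h1))
      · exact Or.inr (Or.inr (Or.inl (key (by norm_num) h1)))
    · exact Or.inr (Or.inr (Or.inr (Or.inl (key (by norm_num) h1))))
  · exact Or.inr (Or.inr (Or.inr (Or.inr (key (by norm_num) h1))))

theorem prim_seven_eight {l : ℕ} (h : Prim 7 8 l) : ¬ l ∣ 3 * 29120 := by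
  intro hd
  rcases prime_cases h.prime hd with rfl | rfl | rfl | rfl | rfl
  · have := (h.dvd_iff 1).1 (by norm_num)
    norm_num at this
  · have := (h.dvd_iff 1).1 (by norm_num)
    norm_num at this
  · have := (h.dvd_iff 4).1 (by norm_num)
    norm_num at this
  · exact h.not_dvd dvd_rfl
  · have := (h.dvd_iff 12).1 (by norm_num)
    norm_num at this

theorem prim_seven_six {l : ℕ} (h : Prim 7 6 l) : ¬ l ∣ 3 * 29120 := by
  intro hd
  rcases prime_cases h.prime hd with rfl | rfl | rfl | rfl | rfl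
  · have := (h.dvd_iff 1).1 (by norm_num)
    norm_num at this
  · have := (h.dvd_iff 1).1 (by norm_num)
    norm_num at this
  · have := (h.dvd_iff 4).1 (by norm_num)
    norm_num at this
  · exact h.not_dvd dvd_rfl
  · have := (h.dvd_iff 6).2 dvd_rfl
    norm_num at this

/-- arithmetic of the row `Sz(8)` -/
theorem sz_arith (h : Nm p a r b s k t) (hp : p ∣ 29120) (hp2 : p ≠ 2) (hs : s ^ k ∣ 3 * 29120)
    (hrt : r ∣ 3 * 29120 ∨ t ∣ 3 * 29120) : False := by
  have hpp := h.rb.hp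
  have ha := h.rb.ha
  obtain ⟨rfl, rfl⟩ := dvd_B0 h.rk (hs.trans (by unfold B0; norm_num))
  rcases prime_cases hpp (hp.trans (dvd_mul_left _ _)) with rfl | rfl | rfl | rfl | rfl
  · exact hp2 rfl
  · norm_num at hp
  · have h1 := (h.rk.prim.dvd_iff 4).1 (by norm_num)
    have := Nat.le_of_dvd (by norm_num) h1
    omega
  · have h1 := (h.rk.prim.dvd_iff 12).1 (by norm_num)
    have h2 : a ≤ 2 := by
      have := Nat.le_of_dvd (by norm_num) h1
      omega
    have h16 := h.q16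
    have h3 : a = 2 := by
      interval_cases a
      · norm_num at h16
      · rfl
    subst h3
    rcases hrt with h4 | h4
    · exact prim_seven_eight h.rb.prim h4
    · exact prim_seven_six h.t h4
  · exact h.rk.prim.not_dvd dvd_rfl

theorem cross (hF : Nat.card F = p ^ a) (h : Nm p a r b s k t) {R : Subgroup (T8 F)}
    (S : Subgroup R) [S.Normal] (hS : IsSimpleGroup S) (hna : ¬ IsMulCommutative S)
    (hC : Subgroup.centralizer (S : Set R) = ⊥) {P : Subgroup (GL H708.O8.I8 F)}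
    (hP : IsResidualCore (pre (quadFormPlus 4 F) R) P) (e : S ≃* Soc P) (hL : ¬ IsLieTypeChar p (Soc P))
    (hk : IsKnownSimple' (Soc P)) (hs : s ^ k ∣ Nat.card R) (hrt : r ∣ Nat.card R ∨ t ∣ Nat.card R) : False := by
  have := charP_of h.rb.hp h.rb.ha hF
  have hpf := Fact.mk h.rb.hp
  let ix : H708.O8.I8 ≃ Fin 8 := finSumFinEquiv
  obtain ⟨P', hP'⟩ : ∃ P' : Subgroup (GL (Fin 8) F), P' = H936.Reix.rx ix P := ⟨_, rfl⟩
  have hC' : Core P' := by rw [hP']; exact H936.Reix.core_rx ix (core_of_residual hP)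
  have e' : Soc P ≃* Soc P' := by rw [hP']; exact H936.Reix.socEquiv ix P
  have hk' := OddHalf.Known.isKnownSimple'_congr e' (core_of_residual hP).nonabelian hk
  have hL' : ¬ IsLieTypeChar p (Soc P') := fun h => hL (OddHalf.Known.isLieTypeChar_congr e'.symm h)
  have ee : S ≃* Soc P' := e.trans e'
  have hsim : IsSimpleGroup (Soc P') := hC'.simple
  have hna' : ¬ IsMulCommutative (Soc P') := hC'.nonabelian
  have hRd : Nat.card R ∣ Nat.card (MulAut (Soc P')) := by
    rw [← Nat.card_congr (MulAut.congr ee).toEquiv]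
    exact dvd_aut S hC
  have hdv : s ^ k ∣ Nat.card (MulAut (Soc P')) := hs.trans hRd
  have key : ¬ Nat.card (MulAut (Soc P')) ∣ B0 := fun h1 => not_dvd_B0 h.rk (hdv.trans h1)
  have h8 : Fintype.card (Fin 8) = 8 := Fintype.card_fin 8
  have kill : CandD p 8 (Soc P') → False := by
    intro hc
    rcases hc with hc | hc | hc | ⟨hp2, -, hc⟩ | hc
    · obtain ⟨m, h5, h14, h15, -, h12, ⟨f⟩⟩ := hc
      by_cases h13 : m ≤ 12
      · exact key (aut_A h5 h13 f)
      · have hm : m = 13 := by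
          by_contra hcon
          have := h12 (by omega)
          omega
        subst hm
        have hp5 : p = 5 := by
          by_contra hcon
          have := h15 hcon (by norm_num)
          omega
        rw [aut_A_eq (by norm_num) (by norm_num) f] at hdv
        obtain ⟨rfl, rfl⟩ := dvd_B0 h.rk (hdv.trans fac_dvd')
        subst hp5
        have h1 := (h.rk.prim.dvd_iff 4).1 (by norm_num)
        have ha := h.rk.ha
        have := Nat.le_of_dvd (by norm_num) h1
        omega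
    · rcases hc with ⟨q, hq, h1, h2, h3⟩ | ⟨h3, -, h4⟩ | ⟨-, -, h4⟩ | ⟨-, h4, -⟩ | ⟨-, -, -, h4⟩ | ⟨-, -, h4⟩ |
        ⟨-, h4, -⟩ | ⟨-, -, h4⟩ | ⟨-, -, h4⟩
      · simp only [Finset.mem_insert, Finset.mem_singleton] at hq
        rcases hq with rfl | rfl | rfl | rfl | rfl | rfl | rfl | rfl
        · exact key (aut_L hna' (p := 7) (f := 1) (by norm_num) le_rfl (by norm_num) le_rfl (fun _ => by norm_num) h3
            (by unfold B0; simp only [Finset.prod_range_succ, Finset.prod_range_zero]; norm_num))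
        · exact key (aut_L hna' (p := 2) (f := 3) (by norm_num) (by norm_num) (by norm_num) le_rfl
            (fun _ => by norm_num) h3
            (by unfold B0; simp only [Finset.prod_range_succ, Finset.prod_range_zero]; norm_num))
        · exact key (aut_L hna' (p := 11) (f := 1) (by norm_num) le_rfl (by norm_num) le_rfl (fun _ => by norm_num) h3
            (by unfold B0; simp only [Finset.prod_range_succ, Finset.prod_range_zero]; norm_num))
        · obtain ⟨K, iK, iKf, hK, ⟨f⟩⟩ := h3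
          have h4 := H464.Sl2.l2_degrees p hC' (K := K) (by omega) (by omega) (by rw [hK]; exact h1) f
            (by rw [h8]; norm_num)
          rw [h8] at h4
          simp only [hK, _root_.Nat.reduceEqDiff, _root_.Finset.mem_insert, _root_.Finset.mem_singleton, _root_.or_self, _root_.and_self, _root_.Nat.succ_ne_self, _root_.or_true, _root_.and_true, _root_.or_false, _root_.and_false] at h4
        · exact key (aut_L hna' (p := 17) (f := 1) (by norm_num) le_rfl (by norm_num) le_rfl (fun _ => by norm_num) h3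
            (by unfold B0; simp only [Finset.prod_range_succ, Finset.prod_range_zero]; norm_num))
        · norm_num at h2
        · norm_num at h2
        · norm_num at h2
      · obtain ⟨K, iK, iKf, hK, ⟨f⟩⟩ := h4
        have h5 := (H175.L33.l33 hC' p h3 hK f (by rw [h8]; norm_num)).2.2.2
        rw [h8] at h5
        omega
      · exact key (aut_U hna' (p := 3) (f := 1) (by norm_num) le_rfl (by norm_num) le_rfl (by norm_num) h4
          (by unfold B0; simp only [Finset.prod_range_succ, _root_.mul_one, _root_.pow_one, _root_.Nat.add_one_sub_one, _root_.Nat.reduceMul, _root_.Nat.reduceDiv, _root_.Nat.reducePow, _root_.Finset.range_one, _root_.Finset.prod_singleton, _root_.Even.zero, ↓ _root_.reduceIte, _root_.zero_add, _root_.Nat.not_even_one, _root_.Nat.reduceAdd, _root_.Nat.reduceDvd]))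
      · omega
      · exact key (aut_U hna' (p := 2) (f := 1) (by norm_num) le_rfl (by norm_num) (by norm_num) (by norm_num) h4
          (by unfold B0; simp only [show 4 - 1 = 3 from rfl, Finset.prod_range_succ, Finset.prod_range_zero]
              norm_num [Nat.even_iff]))
      · exact key (aut_U hna' (p := 2) (f := 1) (by norm_num) le_rfl (by norm_num) (by norm_num) (by norm_num) h4
          (by unfold B0; simp only [show 5 - 1 = 4 from rfl, Finset.prod_range_succ, Finset.prod_range_zero]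
              norm_num [Nat.even_iff]))
      · omega
      · exact key (aut_S hna' (p := 2) (f := 1) (by norm_num) le_rfl (by norm_num) (by norm_num) (by norm_num) h4
          (by unfold B0; simp only [Finset.prod_range_succ, Finset.prod_range_zero]; norm_num))
      · exact key (aut_OP hna' (p := 2) (f := 1) (by norm_num) le_rfl (by norm_num) (by norm_num) h4
          (by unfold B0; simp only [Finset.prod_range_succ, Finset.prod_range_zero]; norm_num))
    · rcases hc with ⟨hp2, -, hc⟩ | ⟨-, h3, -⟩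
      · rcases hc with h4 | h4 | ⟨-, h4⟩ | h4 | h4 | h4
        · exact key (aut_L hna' (p := 7) (f := 1) (by norm_num) le_rfl (by norm_num) le_rfl (fun _ => by norm_num) h4
            (by unfold B0; simp only [Finset.prod_range_succ, Finset.prod_range_zero]; norm_num))
        · exact key (aut_L hna' (p := 2) (f := 2) (by norm_num) (by norm_num) (by norm_num) (by norm_num)
            (by norm_num) h4
            (by unfold B0; simp only [Finset.prod_range_succ, Finset.prod_range_zero]; norm_num))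
        · exact key (aut_U hna' (p := 2) (f := 1) (by norm_num) le_rfl (by norm_num) (by norm_num) (by norm_num) h4
            (by unfold B0; simp only [show 4 - 1 = 3 from rfl, Finset.prod_range_succ, Finset.prod_range_zero]
                norm_num [Nat.even_iff]))
        · exact key (aut_S hna' (p := 2) (f := 1) (by norm_num) le_rfl (by norm_num) (by norm_num) (by norm_num) h4
            (by unfold B0; simp only [Finset.prod_range_succ, Finset.prod_range_zero]; norm_num))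
        · exact key (aut_OP hna' (p := 2) (f := 1) (by norm_num) le_rfl (by norm_num) (by norm_num) h4
            (by unfold B0; simp only [Finset.prod_range_succ, Finset.prod_range_zero]; norm_num))
        · have h5 := (H937.G24.row hC' h4 p hp2 (by rw [h8]; norm_num)).1
          rw [h8] at h5
          omega
      · omega
    · -- `Sz(8)`
      have h1 := card_aut_sz8 hna' hc
      have hcard : Nat.card (MulAut (Soc P')) = 3 * 29120 := by rw [h1.2, h1.1]
      have hpd : p ∣ Nat.card (Soc P') := by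
        by_contra hnd
        exact H30.HTS.core_not_sz8 hC' hnd hc
      rw [h1.1] at hpd
      rw [hcard] at hRd
      exact sz_arith h hpd hp2 (hs.trans hRd) (hrt.imp (fun h => h.trans hRd) (fun h => h.trans hRd))
    · have spor : ∀ {x : Grp × ℕ}, IsSporadicGroup (Soc P') → x ∈ OrdDiv.spor → OrdDiv.Real x.1 (Soc P') →
          2 * x.2 ∣ B0 → False := fun h1 h2 h3 h4 => key (aut_spor hna' h1 h2 h3 h4)
      have hsp : IsSporadicGroup (Soc P') := by
        unfold SporC at hc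
        unfold IsSporadicGroup
        (clear * - hc; tauto)
      rcases hc with hc | hc | hc | hc | hc | hc | hc | hc | hc
      · exact spor hsp (x := (.m11, 7920)) (by simp only [OrdDiv.spor, _root_.List.mem_cons, _root_.Prod.mk.injEq, _root_.reduceCtorEq, _root_.Nat.reduceEqDiff, _root_.and_self, _root_.List.not_mem_nil, _root_.or_self, _root_.or_false, _root_.or_true]) hc (by unfold B0; norm_num)
      · exact spor hsp (x := (.m12, 95040)) (by simp only [OrdDiv.spor, _root_.List.mem_cons, _root_.Prod.mk.injEq, _root_.reduceCtorEq, _root_.Nat.reduceEqDiff, _root_.and_self, _root_.List.not_mem_nil, _root_.or_self, _root_.or_false, _root_.or_true]) hc (by unfold B0; norm_num)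
      · exact spor hsp (x := (.m22, 443520)) (by simp only [OrdDiv.spor, _root_.List.mem_cons, _root_.Prod.mk.injEq, _root_.reduceCtorEq, _root_.Nat.reduceEqDiff, _root_.and_self, _root_.List.not_mem_nil, _root_.or_self, _root_.or_false, _root_.or_true]) hc (by unfold B0; norm_num)
      · exact spor hsp (x := (.m23, 10200960)) (by simp only [OrdDiv.spor, _root_.List.mem_cons, _root_.Prod.mk.injEq, _root_.reduceCtorEq, _root_.Nat.reduceEqDiff, _root_.and_self, _root_.List.not_mem_nil, _root_.or_self, _root_.or_false, _root_.or_true]) hc (by unfold B0; norm_num)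
      · exact spor hsp (x := (.m24, 244823040)) (by simp only [OrdDiv.spor, _root_.List.mem_cons, _root_.Prod.mk.injEq, _root_.reduceCtorEq, _root_.Nat.reduceEqDiff, _root_.and_self, _root_.List.not_mem_nil, _root_.or_self, _root_.or_false, _root_.or_true]) hc (by unfold B0; norm_num)
      · by_cases h11 : p = 11
        · subst h11
          have h1 := H179.JOne.j1_le12_iso hC' hc (by exact_mod_cast CharP.cast_eq_zero F 11) (by rw [h8]; norm_num)
          rw [h8] at h1
          omega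
        · exact H659.J1.not_core hC' hc p h11 (by rw [h8]; norm_num)
      · exact spor hsp (x := (.j2, 604800)) (by simp only [OrdDiv.spor, _root_.List.mem_cons, _root_.Prod.mk.injEq, _root_.reduceCtorEq, _root_.Nat.reduceEqDiff, _root_.and_self, _root_.List.not_mem_nil, _root_.or_self, _root_.or_false, _root_.or_true]) hc (by unfold B0; norm_num)
      · have h1 := (H95.JT.j3 p hC' hc (by rw [h8]; norm_num)).2.1
        rw [h8] at h1
        omega
      · obtain ⟨f⟩ := hc
        by_cases h3 : p = 3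
        · subst h3
          have h1 := (H878.Sz.core_Suz_three hC' f (by rw [h8]; norm_num)).1
          rw [h8] at h1
          omega
        · have h1 := (H878.Sz.core_Suz hC' f (by rw [h8]; norm_num) p h3).1
          rw [h8] at h1
          omega
  exact kill (list₂ (p := p) (n := 8) (by norm_num) hC' hk' hL')

end Cfsg.Agent.H372.O8R
end
end

section
prune_inst 0xfdecfdbbb873ffdfff7e7fa6dccffdf9ba3fffe6dff9cbbfe2a9ef2bdf6b0c4bc56baf8fea10fe1ee3e21410f87b53fbffeeffe26bdc7ffffd5df41ffbff8ffdf7b50811949c340f3c0ff603f0778e7f000008000000000000000000000000000210000000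

-- part: H708/Rg/TriV
section
prune_inst 0x2130240428c0020000000502100020605000009200430400c521084208012843890006001e100211408088804008000001000010421000000a20040040050000008116043000a10822009e000800000000000000000000000000000000000000000000000
set_option linter.all false
open scoped Cfsg.Agent.FastGrp

-- part: H708/Rg/Tri
section
/-!
# S3691, `PΩ⁺₈(q)`: triality and elements of order `r₄` (helper708)

* `tri_no_fix₁`, `tri_no_fix₂` : `g (x y) = g₁ x · g₂ y`, `g` of prime order `r`, `ord_r(q) = 4`, fixes a nonzero vector: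
  `g₁` and `g₂` (of order `r`) have no nonzero fixed vector;
* `aut_no_fix` : the same for every automorphism of `PΩ⁺₈(q)` which does not come from a semisimilarity.
-/

set_option autoImplicit false

namespace Cfsg.Agent.H708.Rg

open Module QuadraticMap Cfsg.Agent.LieClassical.OrthCore Cfsg.Agent.LieClassical.OrthTrans
  Cfsg.Agent.LieClassical.OrthSimple Cfsg.Agent.ClassicalGeometry.OrthAut1
  Cfsg.Agent.ClassicalGeometry.OrthSemi Cfsg.Agent.H198.Classes
  Cfsg.Agent.LieClassical.QuadForms Cfsg.Agent.H198.ClassesPlus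
  Cfsg.Agent.ClassicalGeometry.TrialityOct Cfsg.Agent.ClassicalGeometry.Triality
  Cfsg.Agent.ClassicalGeometry.TrialitySpaces Cfsg.Agent.H198.TriBase Cfsg.Agent.H198.TriAut
open Cfsg.Agent.H884.El Cfsg.Agent.H955 Cfsg.Agent.H954.TSing
open Cfsg.Agent.H951 (fx cm Inv)

universe u

variable {F : Type u} [Field F] [Fintype F] {r : ℕ}

omit [Fintype F] in
theorem finrank_V8 : finrank F (V8 F) = 8 := by
  rw [finrank_fintype_fun_eq_card]
  simp

/-- the linear map of an element of `O` -/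
abbrev en (g : V8 F ≃ₗ[F] V8 F) : Module.End F (V8 F) := g

omit [Fintype F] in
theorem en_pow (g : V8 F ≃ₗ[F] V8 F) (n : ℕ) : en g ^ n = en (g ^ n) := by
  induction n with
  | zero => rfl
  | succ n ih => rw [pow_succ, ih, pow_succ]; rfl

theorem iso_en (hr : PP (Nat.card F) 4 r) {g : V8 F ≃ₗ[F] V8 F} (hg : ∀ v, plusForm 4 F (g v) = plusForm 4 F v)
    (hgr : g ^ r = 1) : Iso (plusForm 4 F) (en g) r :=
  Iso.mk' hr (by norm_num) (by rw [en_pow, hgr]; rfl) hg

theorem cm_four (hr : PP (Nat.card F) 4 r) {g : V8 F ≃ₗ[F] V8 F} (hg : ∀ v, plusForm 4 F (g v) = plusForm 4 F v)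
    (hgr : g ^ r = 1) (hne : g ≠ 1) (hv : ∃ v, v ≠ 0 ∧ g v = v) : finrank F (cm (en g)) = 4 := by
  have h := iso_en hr hg hgr
  have h1 : 4 ∣ finrank F (cm (en g)) := h.dvd_cm hr
  have h2 : finrank F (fx (en g)) + finrank F (cm (en g)) = 8 := by
    rw [← finrank_V8 (F := F)]
    exact h.finrank_add
  have h3 : finrank F (cm (en g)) ≠ 0 := fun h0 => cm_ne_bot (x := en g) (fun h1 => hne (by
    ext1 v
    exact LinearMap.congr_fun h1 v)) (Submodule.finrank_eq_zero.1 h0)
  have h4 : finrank F (fx (en g)) ≠ 0 := by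
    intro h0
    obtain ⟨v, hv0, hv⟩ := hv
    have h5 : v ∈ fx (en g) := H951.mem_fx.2 hv
    rw [Submodule.finrank_eq_zero.1 h0, Submodule.mem_bot] at h5
    exact hv0 h5
  obtain ⟨k, hk⟩ := h1
  omega

/-- a totally singular four-dimensional subspace is not invariant -/
theorem no_ts (hr : PP (Nat.card F) 4 r) {g : V8 F ≃ₗ[F] V8 F} (hg : ∀ v, plusForm 4 F (g v) = plusForm 4 F v)
    (hgr : g ^ r = 1) (hne : g ≠ 1) (hv : ∃ v, v ≠ 0 ∧ g v = v) {X : Submodule F (V8 F)} (hX : ∀ v ∈ X, g v ∈ X)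
    (hXs : ∀ v ∈ X, plusForm 4 F v = 0) (hd : finrank F X = 4) : False := by
  have h := iso_en hr hg hgr
  have h4 := cm_four hr hg hgr hne hv
  have hne' : en g ≠ 1 := fun h1 => hne (by
    ext1 v
    exact LinearMap.congr_fun h1 v)
  have h1 : X ≤ fx (en g) := h.ts_le ClassicalGeometry.Triality.nondeg8 hne' hr h4 hX hXs
  have h2 : finrank F (fx (en g)) + finrank F (cm (en g)) = 8 := by
    rw [← finrank_V8 (F := F)]
    exact h.finrank_add
  have h3 : X = fx (en g) := Submodule.eq_of_le_of_finrank_eq h1 (by omega)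
  refine ts_not_nondeg hXs le_rfl (U := X) ?_ ?_
  · intro h0
    rw [h0, finrank_bot] at hd
    omega
  · have h5 := nondeg_fx ClassicalGeometry.Triality.nondeg8 h.iso h.ne0 h.pow
    rw [h3]
    exact h5

/-- no fixed singular vectors, hence no fixed vectors -/
theorem no_fix_of_sing (hr : PP (Nat.card F) 4 r) {g : V8 F ≃ₗ[F] V8 F}
    (hg : ∀ v, plusForm 4 F (g v) = plusForm 4 F v)
    (hgr : g ^ r = 1) (hs : ∀ v, plusForm 4 F v = 0 → g v = v → v = 0) : ∀ v, g v = v → v = 0 := by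
  have h := iso_en hr hg hgr
  have h1 : 4 ∣ finrank F (cm (en g)) := h.dvd_cm hr
  have h2 : finrank F (fx (en g)) + finrank F (cm (en g)) = 8 := by
    rw [← finrank_V8 (F := F)]
    exact h.finrank_add
  have h3 : finrank F (fx (en g)) < 3 := by
    by_contra hcon
    push Not at hcon
    obtain ⟨v, hv, hv0, hvs⟩ := Cfsg.Agent.LieClassical.OrthFinite.exists_sing_mem (Q := plusForm 4 F) (fx (en g)) hcon
    exact hv0 (hs v hvs (H951.mem_fx.1 hv))
  have h4 : finrank F (fx (en g)) = 0 := by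
    obtain ⟨k, hk⟩ := h1
    omega
  intro v hv
  have h5 : v ∈ fx (en g) := H951.mem_fx.2 hv
  rwa [Submodule.finrank_eq_zero.1 h4, Submodule.mem_bot] at h5

theorem tri_no_fix₁ (hr : PP (Nat.card F) 4 r) {g g₁ : V8 F ≃ₗ[F] V8 F} {g₂ : V8 F → V8 F}
    (h : ∀ x y, g (omul x y) = omul (g₁ x) (g₂ y))
    (hg : ∀ v, plusForm 4 F (g v) = plusForm 4 F v) (hg₁ : ∀ v, plusForm 4 F (g₁ v) = plusForm 4 F v)
    (hgr : g ^ r = 1) (hgr₁ : g₁ ^ r = 1) (hne : g ≠ 1) (hv : ∃ v, v ≠ 0 ∧ g v = v) : ∀ v, g₁ v = v → v = 0 := by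
  refine no_fix_of_sing hr hg₁ hgr₁ fun v hv1 hv2 => ?_
  by_contra hv0
  refine no_ts hr hg hgr hne hv (X := leftSp v) ?_ (leftSp_sing hv1) (finrank_leftSp hv1 hv0)
  rintro _ ⟨y, rfl⟩
  change g (omul v y) ∈ leftSp v
  rw [h, hv2]
  exact ⟨g₂ y, rfl⟩

theorem tri_no_fix₂ (hr : PP (Nat.card F) 4 r) {g g₂ : V8 F ≃ₗ[F] V8 F} {g₁ : V8 F → V8 F}
    (h : ∀ x y, g (omul x y) = omul (g₁ x) (g₂ y))
    (hg : ∀ v, plusForm 4 F (g v) = plusForm 4 F v) (hg₂ : ∀ v, plusForm 4 F (g₂ v) = plusForm 4 F v)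
    (hgr : g ^ r = 1) (hgr₂ : g₂ ^ r = 1) (hne : g ≠ 1) (hv : ∃ v, v ≠ 0 ∧ g v = v) : ∀ v, g₂ v = v → v = 0 := by
  refine no_fix_of_sing hr hg₂ hgr₂ fun v hv1 hv2 => ?_
  by_contra hv0
  refine no_ts hr hg hgr hne hv (X := rightSp v) ?_ (rightSp_sing hv1) (finrank_rightSp hv1 hv0)
  rintro _ ⟨y, rfl⟩
  change g (omul y v) ∈ rightSp v
  rw [h, hv2]
  exact ⟨g₁ y, rfl⟩

/-! ### Automorphisms -/

theorem rho_inv_mk (hG : Good (plusForm 4 F)) {g g₂ : ↥(E (plusForm 4 F))} {g₁ : V8 F ≃ₗ[F] V8 F}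
    (h : TriE (g : V8 F ≃ₗ[F] V8 F) g₁ g₂) :
    (rho hG)⁻¹ (g : P8 F) = ((⟨kap F * g₂ * kap F, kap_conj_mem g₂.2⟩ : ↥(E (plusForm 4 F))) : P8 F) := by
  have h1 : TriE ((⟨kap F * g₂ * kap F, kap_conj_mem g₂.2⟩ : ↥(E (plusForm 4 F))) : V8 F ≃ₗ[F] V8 F)
      ((⟨kap F * g * kap F, kap_conj_mem g.2⟩ : ↥(E (plusForm 4 F))) : V8 F ≃ₗ[F] V8 F)
      (kap F * (kap F * g₁ * kap F) * kap F) := h.rot.rot
  have h2 := rho_mk hG h1
  rw [MulAut.inv_apply, MulEquiv.symm_apply_eq, h2]
  refine congrArg _ (Subtype.ext ?_)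
  exact (kap_conj_conj _).symm

theorem iso_of_E {g : V8 F ≃ₗ[F] V8 F} (hg : g ∈ E (plusForm 4 F)) (v : V8 F) :
    plusForm 4 F (g v) = plusForm 4 F v := E_le_O hg v

/-- lifts of `κ k κ` -/
theorem lift_kap (hG : Good (plusForm 4 F)) {y k : ↥(E (plusForm 4 F))}
    (h : (y : P8 F) = ((⟨kap F * k * kap F, kap_conj_mem k.2⟩ : ↥(E (plusForm 4 F))) : P8 F)) :
    ∃ c : F, c ≠ 0 ∧ ∀ v, (kap F * (y : V8 F ≃ₗ[F] V8 F) * kap F) v = c • (k : V8 F ≃ₗ[F] V8 F) v := by
  have h1 := QuotientGroup.eq.1 h.symm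
  obtain ⟨c, hc⟩ := center_scalar hG h1
  have h2 : ∀ v, (y : V8 F ≃ₗ[F] V8 F) v = c • kap F ((k : V8 F ≃ₗ[F] V8 F) (kap F v)) := by
    intro v
    have h3 := hc v
    have h4 := congrArg (kap F * (k : V8 F ≃ₗ[F] V8 F) * kap F) h3
    rw [map_smul] at h4
    have h5 : (kap F * (k : V8 F ≃ₗ[F] V8 F) * kap F)
        ((((⟨kap F * k * kap F, kap_conj_mem k.2⟩ : ↥(E (plusForm 4 F)))⁻¹ * y : ↥(E (plusForm 4 F))) :
          V8 F ≃ₗ[F] V8 F) v) = (y : V8 F ≃ₗ[F] V8 F) v := by
      change ((kap F * (k : V8 F ≃ₗ[F] V8 F) * kap F) * ((kap F * (k : V8 F ≃ₗ[F] V8 F) * kap F)⁻¹ * y)) v = _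
      rw [mul_inv_cancel_left]
    rw [h5] at h4
    exact h4
  refine ⟨c, ?_, fun v => ?_⟩
  · rintro rfl
    have h6 := h2 (one8 F)
    rw [zero_smul] at h6
    have h7 := iso_of_E y.2 (one8 F)
    rw [h6, QuadraticMap.map_zero, norm_one8] at h7
    exact zero_ne_one h7
  · change kap F ((y : V8 F ≃ₗ[F] V8 F) (kap F v)) = _
    rw [h2, map_smul]
    change c • oconj (oconj ((k : V8 F ≃ₗ[F] V8 F) (oconj (oconj v)))) = _
    rw [oconj_oconj, oconj_oconj]

theorem kap_pow (y : V8 F ≃ₗ[F] V8 F) (n : ℕ) : (kap F * y * kap F) ^ n = kap F * y ^ n * kap F := by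
  induction n with
  | zero => rw [pow_zero, pow_zero, mul_one, kap_mul_kap]
  | succ n ih =>
    rw [pow_succ, ih, pow_succ]
    have : kap F * y ^ n * kap F * (kap F * y * kap F) = kap F * y ^ n * (kap F * kap F) * y * kap F := by group
    rw [this, kap_mul_kap, mul_one, mul_assoc (kap F)]

/-- **triality and elements of order `r₄` with fixed vectors** -/
theorem aut_no_fix (hG : Good (plusForm 4 F)) (hr : PP (Nat.card F) 4 r) {g : ↥(E (plusForm 4 F))}
    (hgr : g ^ r = 1) (hne : g ≠ 1) (hv : ∃ v, v ≠ 0 ∧ (g : V8 F ≃ₗ[F] V8 F) v = v) {α : MulAut (P8 F)}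
    (hα : α ∉ (Psi (plusForm 4 F)).range) {y : ↥(E (plusForm 4 F))} (hy : (y : P8 F) = α (g : P8 F))
    (hyr : y ^ r = 1) : ∀ v, (y : V8 F ≃ₗ[F] V8 F) v = v → v = 0 := by
  obtain ⟨i, M, hi, rfl⟩ := aut_cases hG α
  set! g' : ↥(E (plusForm 4 F)) := conjE _ M g with hg'
  have hg'r : (g' : V8 F ≃ₗ[F] V8 F) ^ r = 1 := by
    have : g' ^ r = 1 := by rw [hg', ← map_pow, hgr, map_one]
    exact congrArg Subtype.val this
  have hg'ne : (g' : V8 F ≃ₗ[F] V8 F) ≠ 1 := by
    intro h
    apply hne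
    have h1 : g' = 1 := Subtype.ext h
    exact (conjE _ M).injective (by rw [← hg', h1, map_one])
  have hg'v : ∃ v, v ≠ 0 ∧ (g' : V8 F ≃ₗ[F] V8 F) v = v := by
    obtain ⟨v, hv0, hv⟩ := hv
    refine ⟨M.1 v, ?_, ?_⟩
    · obtain ⟨σ, c, hM⟩ := M.2
      rw [← hM.map_zero]
      exact fun h => hv0 (M.1.injective h)
    · rw [hg', coe_conjE, conjLin_apply', hv]
  have hyr' : (kap F * (y : V8 F ≃ₗ[F] V8 F) * kap F) ^ r = 1 := by
    have h1 : (y : V8 F ≃ₗ[F] V8 F) ^ r = 1 := congrArg Subtype.val hyr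
    rw [kap_pow, h1, mul_one, kap_mul_kap]
  obtain ⟨g₁, g₂, h⟩ := exists_triple hG g'.2
  have key : (∀ v, (kap F * (y : V8 F ≃ₗ[F] V8 F) * kap F) v = v → v = 0) →
      ∀ v, (y : V8 F ≃ₗ[F] V8 F) v = v → v = 0 := by
    intro hk v hv
    have h1 : (kap F * (y : V8 F ≃ₗ[F] V8 F) * kap F) (oconj v) = oconj v := by
      change oconj ((y : V8 F ≃ₗ[F] V8 F) (oconj (oconj v))) = _
      rw [oconj_oconj, hv]
    have h2 := hk _ h1
    rw [← oconj_oconj v, h2]
    exact (kap F).map_zero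
  apply key
  have e : (rho hG ^ i * Psi _ M) (g : P8 F) = (rho hG ^ i) (g' : P8 F) := by
    (simp only [MulAut.mul_apply]; simp only [Psi_mk]; with_reducible rfl)
  rw [e] at hy
  interval_cases i
  · exact absurd ⟨M, by simp only [pow_zero, one_mul]⟩ hα
  · rw [pow_one, rho_mk hG (g₁ := ⟨g₁, h.1.2.1⟩) h] at hy
    obtain ⟨c, hc0, hc⟩ := lift_kap hG (k := ⟨g₁, h.1.2.1⟩) hy
    refine tri_no_fix₁ hr (g₂ := fun z => c⁻¹ • g₂ z) (fun x z => ?_) (iso_of_E g'.2)
      (iso_of_E (kap_conj_mem y.2)) hg'r hyr' hg'ne hg'v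
    rw [hc, omul_smul, smul_omul, smul_smul, inv_mul_cancel₀ hc0, one_smul]
    exact h.2 x z
  · rw [rho_sq, rho_inv_mk hG (g₂ := ⟨g₂, h.1.2.2⟩) h] at hy
    obtain ⟨c, hc0, hc⟩ := lift_kap hG (k := ⟨g₂, h.1.2.2⟩) hy
    refine tri_no_fix₂ hr (g₁ := fun z => c⁻¹ • g₁ z) (fun x z => ?_) (iso_of_E g'.2)
      (iso_of_E (kap_conj_mem y.2)) hg'r hyr' hg'ne hg'v
    rw [hc, omul_smul, smul_omul, smul_smul, mul_inv_cancel₀ hc0, one_smul]
    exact h.2 x z

end Cfsg.Agent.H708.Rg
end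

-- part: H708/Rg/TriV
section
/-!
# S3691, `PΩ⁺₈(q)`: box TRI-V (helper708)

`tri_V` : a subgroup fixing a nonsingular point or an anisotropic plane, of order divisible by `r₄`, has a triality image
containing an element of order `r₄` without nonzero fixed vectors.
-/

set_option autoImplicit false
set_option linter.unusedSectionVars false

namespace Cfsg.Agent.H708.Rg

open Module QuadraticMap Cfsg Cfsg.Geo Cfsg.Agent.LieClassical.OrthCore Cfsg.Agent.LieClassical.OrthTrans
  Cfsg.Agent.LieClassical.OrthSimple Cfsg.Agent.ClassicalGeometry.OrthAut1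
  Cfsg.Agent.ClassicalGeometry.OrthSemi Cfsg.Agent.H198.Classes
  Cfsg.Agent.LieClassical.QuadForms Cfsg.Agent.H198.ClassesPlus
  Cfsg.Agent.ClassicalGeometry.TrialityOct Cfsg.Agent.ClassicalGeometry.Triality
  Cfsg.Agent.ClassicalGeometry.TrialitySpaces Cfsg.Agent.H198.TriBase Cfsg.Agent.H198.TriAut
open Cfsg.Agent.H884.El Cfsg.Agent.H955 Cfsg.Agent.H954.TSing
open Cfsg.Agent.H951 (fx cm Inv)
open Cfsg.Agent.H708.O8 (I8 T8 RB)
open Cfsg.Agent.H436 (Prim)
open Cfsg.Agent.H823.O8S Cfsg.Agent.H823.O8R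
open Cfsg.Agent.AutOrth.Main (oe pe oe_apply pe_mk)
open scoped MatrixGroups Matrix

section gen

variable {F : Type} [Field F] [Fintype F] {r : ℕ} {Q : QuadraticForm F (Fin 4 ⊕ Fin 4 → F)}

theorem oe_lin (hG : Good Q) (g : Omega F ⇑Q) (v : I8 → F) :
    (oe hG g : (I8 → F) ≃ₗ[F] (I8 → F)) v = lin ((g : isometryGroup F ⇑Q) : GL I8 F) v := by
  rw [oe_apply, H884.El.lin, Matrix.toLin'_apply]

/-- the automorphism of `POmega F Q` corresponding to an automorphism of `E Q / Z(E Q)` -/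
noncomputable def toPO (hG : Good Q) (α : MulAut (P Q)) : MulAut (POmega F ⇑Q) := MulAut.congr (_root_.Cfsg.Agent.AutOrth.Main.pe hG).symm α

theorem toPO_mk (hG : Good Q) (α : MulAut (P Q)) (x y : Omega F ⇑Q)
    (h : α ((oe hG x : ↥(E Q)) : P Q) = ((oe hG y : ↥(E Q)) : P Q)) :
    toPO hG α (QuotientGroup.mk x) = QuotientGroup.mk y := by
  change (_root_.Cfsg.Agent.AutOrth.Main.pe hG).symm (α ((_root_.Cfsg.Agent.AutOrth.Main.pe hG).symm.symm (QuotientGroup.mk x))) = _
  ((conv => enter [@2, @6, @6, @5]; rw [MulEquiv.symm_symm]); (conv => enter [@2, @6, @6]; rw [pe_mk]); (conv => enter [@2, @6]; rw [h]); rewrite [MulEquiv.symm_apply_eq]; (conv => enter [@3]; rw [pe_mk]))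

/-- the form of TRI-V for one element -/
theorem exists_alpha (hQ : Q = plusForm 4 F) (hG : Good Q) (hr : PP (Nat.card F) 4 r) {R : Subgroup (POmega F ⇑Q)}
    {g : GL I8 F} (hg : g ∈ pre ⇑Q R) (hgr : orderOf g = r) (hfx : fx (lin g) ≠ ⊥) :
    ∃ (α : MulAut (POmega F ⇑Q)) (y : GL I8 F), y ∈ pre ⇑Q (R.map α.toMonoidHom) ∧ orderOf y = r ∧
      fx (lin y) = ⊥ := by
  subst hQ
  obtain ⟨_, ⟨x, hx, rfl⟩, rfl⟩ := hg
  have hxR : (QuotientGroup.mk x : POmega F ⇑(plusForm 4 F)) ∈ R := hx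
  have hodd := hr.odd (by norm_num)
  have hinj : Function.Injective ((isometryGroup F ⇑(plusForm 4 F)).subtype.comp
      (Omega F ⇑(plusForm 4 F)).subtype) :=
    (isometryGroup F ⇑(plusForm 4 F)).subtype_injective.comp (Omega F ⇑(plusForm 4 F)).subtype_injective
  have hxr : orderOf x = r := by
    rw [← hgr]
    exact (orderOf_injective _ hinj x).symm
  have hxr1 : x ^ r = 1 := by rw [← hxr]; exact pow_orderOf_eq_one x
  set! g₀ : ↥(E (plusForm 4 F)) := oe hG x with hg₀
  have hg₀r : g₀ ^ r = 1 := by rw [hg₀, ← map_pow, hxr1, map_one]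
  have hg₀ne : (g₀ : V8 F ≃ₗ[F] V8 F) ≠ 1 := by
    intro h
    have h1 : g₀ = 1 := Subtype.ext h
    have h2 : x = 1 := (oe hG).injective (by rw [← hg₀, h1, map_one])
    rw [h2, orderOf_one] at hxr
    exact hr.prime.one_lt.ne hxr
  have hfix : ∃ v, v ≠ 0 ∧ (g₀ : V8 F ≃ₗ[F] V8 F) v = v := by
    obtain ⟨v, hv, hv0⟩ := (Submodule.ne_bot_iff _).1 hfx
    refine ⟨v, hv0, ?_⟩
    rw [hg₀, oe_lin]
    exact H951.mem_fx.1 hv
  obtain ⟨g₁, g₂, h⟩ := exists_triple hG g₀.2
  have hg1E : g₁ ∈ E (plusForm 4 F) := h.1.2.1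
  have hg1r : ((⟨g₁, hg1E⟩ : ↥(E (plusForm 4 F))) ^ r) ^ 2 = 1 := by
    have h1 : (((⟨g₁, hg1E⟩ : ↥(E (plusForm 4 F))) ^ r : ↥(E (plusForm 4 F))) : P8 F) = 1 := by
      have h2 := tau_mk hG (g := g₀) (g₁ := ⟨g₁, hg1E⟩) h
      simp_rw [QuotientGroup.mk_pow, ← h2, ← map_pow, ← QuotientGroup.mk_pow, hg₀r]
      exact map_one _
    rw [QuotientGroup.eq_one_iff] at h1
    obtain ⟨c, hc⟩ := center_scalar hG h1
    have h3 := iso_of_E ((⟨g₁, hg1E⟩ : ↥(E (plusForm 4 F))) ^ r).2 (one8 F)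
    rw [hc, QuadraticMap.map_smul, norm_one8, smul_eq_mul, mul_one] at h3
    apply Subtype.ext
    ext1 v
    change ((((⟨g₁, hg1E⟩ : ↥(E (plusForm 4 F))) ^ r) ^ 2 : ↥(E (plusForm 4 F))) : V8 F ≃ₗ[F] V8 F) v = v
    rw [pow_two]
    change ((((⟨g₁, hg1E⟩ : ↥(E (plusForm 4 F))) ^ r : ↥(E (plusForm 4 F)))) : V8 F ≃ₗ[F] V8 F)
      (((((⟨g₁, hg1E⟩ : ↥(E (plusForm 4 F))) ^ r : ↥(E (plusForm 4 F)))) : V8 F ≃ₗ[F] V8 F) v) = v
    rw [hc, hc, smul_smul, h3, one_smul]
  set! y₀ : ↥(E (plusForm 4 F)) := (⟨g₁, hg1E⟩ : ↥(E (plusForm 4 F))) ^ (r + 1) with hy₀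
  have hy₀r : y₀ ^ r = 1 := by
    obtain ⟨m, hm⟩ : 2 ∣ r + 1 := by
      obtain ⟨k, hk⟩ := hodd
      exact ⟨k + 1, by omega⟩
    rw [hy₀, ← pow_mul, mul_comm, pow_mul, hm, pow_mul, hg1r, one_pow]
  have htri : ∀ u v, (g₀ : V8 F ≃ₗ[F] V8 F) (omul u v) =
      omul ((y₀ : V8 F ≃ₗ[F] V8 F) u) ((g₂ ^ (r + 1)) v) := by
    have h1 : ∀ n : ℕ, Tri ((g₀ : V8 F ≃ₗ[F] V8 F) ^ n) (g₁ ^ n) (g₂ ^ n) := by
      intro n
      induction n with
      | zero => intro u v; rfl
      | succ n ih =>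
        rw [pow_succ, pow_succ, pow_succ]
        exact ih.mul h.2
    have h2 : (g₀ : V8 F ≃ₗ[F] V8 F) ^ (r + 1) = (g₀ : V8 F ≃ₗ[F] V8 F) := by
      have h3 : (g₀ : V8 F ≃ₗ[F] V8 F) ^ r = 1 := congrArg Subtype.val hg₀r
      rw [pow_succ, h3, one_mul]
    intro u v
    have h4 := h1 (r + 1) u v
    rw [h2] at h4
    exact h4
  have hno : ∀ v, (y₀ : V8 F ≃ₗ[F] V8 F) v = v → v = 0 :=
    tri_no_fix₁ hr htri (iso_of_E g₀.2) (iso_of_E y₀.2) (congrArg Subtype.val hg₀r) (congrArg Subtype.val hy₀r)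
      hg₀ne hfix
  set! y := (oe hG).symm y₀ with hy
  have hoy : oe hG y = y₀ := (oe hG).apply_symm_apply y₀
  refine ⟨toPO hG (tau hG), ((y : isometryGroup F ⇑(plusForm 4 F)) : GL I8 F), ?_, ?_, ?_⟩
  · rw [mem_pre, Subgroup.mem_map]
    refine ⟨QuotientGroup.mk x, hxR, ?_⟩
    change toPO hG (tau hG) (QuotientGroup.mk x) = QuotientGroup.mk y
    apply toPO_mk
    rw [hoy, ← hg₀, hy₀, QuotientGroup.mk_pow]
    have h2 := tau_mk hG (g := g₀) (g₁ := ⟨g₁, hg1E⟩) h
    simp_rw [← h2, ← map_pow, ← QuotientGroup.mk_pow, pow_succ, hg₀r, one_mul]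
  · have h1 : y ^ r = 1 := by rw [hy, ← map_pow, hy₀r, map_one]
    have h2 : y ≠ 1 := by
      intro h
      have h3 : y₀ = 1 := by rw [← hoy, h, map_one]
      have h4 := hno (one8 F) (by rw [h3]; rfl)
      have h5 := norm_one8 (F := F)
      rw [h4, QuadraticMap.map_zero] at h5
      exact zero_ne_one h5
    have := Fact.mk hr.prime
    have h3 : orderOf y = r := orderOf_eq_prime h1 h2
    rw [← h3]
    exact orderOf_injective _ hinj y
  · rw [eq_bot_iff]
    intro v hv
    have h1 : lin ((y : isometryGroup F ⇑(plusForm 4 F)) : GL I8 F) v = v := H951.mem_fx.1 hv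
    rw [← oe_lin hG, hoy] at h1
    exact hno v h1

end gen

section row

variable {F : Type} [Field F] [Fintype F] {p a r b s k t : ℕ} {R : Subgroup (T8 F)}

theorem pp_of_nm (hF : Nat.card F = p ^ a) (h : Nm p a r b s k t) : PP (Nat.card F) 4 r := by
  have h1 : PP p (a * 4) r := by
    rw [mul_comm]
    exact prim_pp h.rb.hp.one_le h.rb.prim
  rw [hF]
  exact h1.of_pow h.rb.ha

theorem iso_pre {R : Subgroup (T8 F)} {g : GL I8 F} (hg : g ∈ pre (quadFormPlus 4 F) R) (v : I8 → F) :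
    plusForm 4 F (lin g v) = plusForm 4 F v := by
  rw [show (plusForm 4 F : (I8 → F) → F) = quadFormPlus 4 F from coe_plusForm 4]
  have h1 : g ∈ omegaGL (quadFormPlus 4 F) := pre_le_omegaGL hg
  exact H823.O8S.iso_of_omega h1 v

/-- an element of order `r₄` fixes the vectors of the small invariant subspaces -/
theorem fx_ne_bot (hr : PP (Nat.card F) 4 r) (hV : FixV R ∨ FixP R) {g : GL I8 F}
    (hg : g ∈ pre (quadFormPlus 4 F) R) (hgr : orderOf g = r) : fx (lin g) ≠ ⊥ := by
  have hiso : Iso (plusForm 4 F) (lin g) r :=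
    Iso.mk' hr (by norm_num) (by rw [← lin_pow, ← hgr, pow_orderOf_eq_one, lin_one]) (iso_pre hg)
  have key : ∀ W : Submodule F (I8 → F), finrank F W ≠ 0 → finrank F W < 4 → pre (quadFormPlus 4 F) R ≤ SW W →
      fx (lin g) ≠ ⊥ := by
    intro W h0 h4 hle h
    have h1 : W.map (lin g) = W := hle hg
    have h2 : _root_.Cfsg.Agent.H951.Inv (lin g) W := fun w hw => by
      rw [← h1]
      exact ⟨w, hw, rfl⟩
    have h3 := hiso.le_fx hr h2 h4
    rw [h, le_bot_iff] at h3
    rw [h3, finrank_bot] at h0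
    exact h0 rfl
  rcases hV with ⟨w, hw, hle⟩ | ⟨W, hW, -, hle⟩
  · have hw0 : w ≠ 0 := by
      rintro rfl
      exact hw (by rw [← coe_plusForm 4]; exact QuadraticMap.map_zero _)
    have h1 := finrank_span_singleton (K := F) hw0
    exact key _ (by rw [h1]; norm_num) (by rw [h1]; norm_num) hle
  · exact key W (by rw [hW]; norm_num) (by rw [hW]; norm_num) hle

seal _root_.Finset.sum in
/-- **TRI-V** -/
theorem tri_V (hF : Nat.card F = p ^ a) (h : Nm p a r b s k t) (hV : FixV R ∨ FixP R) (hr : r ∣ Nat.card R) :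
    ∃ (α : MulAut (T8 F)) (y : GL I8 F), y ∈ pre (quadFormPlus 4 F) (R.map α.toMonoidHom) ∧ orderOf y = r ∧
      fx (lin y) = ⊥ := by
  have hpp := pp_of_nm hF h
  have h1 : r ∣ Nat.card (pre (quadFormPlus 4 F) R) := hr.trans card_dvd_pre
  have := Fact.mk hpp.prime
  obtain ⟨g, hg⟩ := exists_prime_orderOf_dvd_card' r h1
  have hgr : orderOf (g : GL I8 F) = r := by rw [Subgroup.orderOf_coe, hg]
  have hfx := fx_ne_bot hpp hV g.2 hgr
  exact (exists_alpha (Q := H198.Carriers.plusQ 4 F) (H198.Carriers.plusQ_eq 4 F)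
    (H198.Carriers.good_plusQ (by norm_num)) hpp (R := R) g.2 hgr hfx :)

end row

end Cfsg.Agent.H708.Rg
end
end

-- part: H60/O8R/Subf_mg
section
prune_inst 0x2100004050000200000000000000004018000000000300004000080000082802800006001000000000000000000800400000000000000000000000000000000000000000a0080100020008000000000000000000000000000000000000000000000000000
set_option linter.all false
open scoped Cfsg.Agent.FastGrp

-- part: H60/O8R/Sg
section
/-!
# S3691, `PΩ₈⁺(q)`: a `p`-group of isometries of order `≥ q^10` in dimension 8 contains a Siegel transformation (helper60)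
-/

set_option autoImplicit false
set_option linter.unusedSectionVars false

namespace Cfsg.Agent.H60.O8R

open Module QuadraticMap Cfsg Cfsg.Geo Cfsg.Agent.LieClassical.OrthCore Cfsg.Agent.LieClassical.OrthTrans
open Cfsg.Agent.LieClassical.OrthFinite Cfsg.Agent.LieClassical.QuadForms Cfsg.Agent.H311.PD
open Cfsg.Agent.H81.CycS (card_O_congr)

universe u v

variable {K : Type u} [Field K] {V : Type v} [AddCommGroup V] [Module K V] [Finite K] [Finite V] {Q : QuadraticForm K V}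

/-- the order of an orthogonal group of dimension eight -/
theorem card_O_eight (hQ : Nondeg Q) (hd : finrank K V = 8) {p f : ℕ} (hp : p.Prime) (hf : 1 ≤ f) (hK : Nat.card K = p ^ f) :
    ∃ N, ¬ p ∣ N ∧ Nat.card (O Q) = 2 * Nat.card K ^ 12 * N := by
  have : Fintype K := Fintype.ofFinite K
  have hnd : ∀ {x : ℕ}, p ∣ x → 1 ≤ x → ¬ p ∣ x - 1 := by
    intro x hx h1 h2
    have h3 := Nat.dvd_sub hx h2
    rw [Nat.sub_sub_self h1] at h3
    exact hp.one_lt.ne' (Nat.dvd_one.1 h3)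
  have hnp : ∀ {x : ℕ}, p ∣ x → ¬ p ∣ x + 1 := by
    intro x hx h2
    have h3 := Nat.dvd_sub h2 hx
    rw [Nat.add_sub_cancel_left] at h3
    exact hp.one_lt.ne' (Nat.dvd_one.1 h3)
  have hq : 1 ≤ Nat.card K := Nat.card_pos
  have hpq : ∀ k, 1 ≤ k → p ∣ Nat.card K ^ k := fun k hk => by
    rw [hK]
    exact dvd_pow (dvd_pow_self p (by omega)) (by omega)
  have hpr : ¬ p ∣ ∏ i ∈ Finset.range (4 - 1), (Nat.card K ^ (2 * (i + 1)) - 1) := by
    intro h
    rw [Prime.dvd_finsetProd_iff hp.prime] at h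
    obtain ⟨i, -, hi⟩ := h
    exact hnd (hpq _ (by omega)) (Nat.one_le_pow _ _ hq) hi
  by_cases hP : H955.IsPlus Q
  · obtain ⟨e, he⟩ := H955.exists_plus_equiv 4 Q hQ hd hP
    rw [card_O_congr e he, ← Nat.card_congr (isometryEquiv (plusForm 4 K)).toEquiv, coe_plusForm,
      S0287.result (F := K) (q := Nat.card K) Nat.card_eq_fintype_card.symm 4 (by norm_num)]
    refine ⟨(Nat.card K ^ 4 - 1) * ∏ i ∈ Finset.range (4 - 1), (Nat.card K ^ (2 * (i + 1)) - 1), ?_, by ring⟩
    intro h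
    rcases hp.dvd_mul.1 h with h | h
    · exact hnd (hpq _ (by omega)) (Nat.one_le_pow _ _ hq) h
    · exact hpr h
  · obtain ⟨a, b, hab⟩ := H955.exists_aniso_coeff K
    obtain ⟨e, he⟩ := H955.exists_minus_equiv hab 3 Q hQ hd hP
    have h6 := S0288.result (F := K) (q := Nat.card K) Nat.card_eq_fintype_card.symm 4 (by norm_num) a b hab
    rw [card_O_congr e he, ← Nat.card_congr (isometryEquiv (minusForm 3 K a b)).toEquiv, coe_minusForm]
    rw [show 4 - 1 = 3 from rfl] at h6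
    rw [h6]
    refine ⟨(Nat.card K ^ 4 + 1) * ∏ i ∈ Finset.range (4 - 1), (Nat.card K ^ (2 * (i + 1)) - 1), ?_, by norm_num only [_root_.Nat.card_eq_fintype_card]; ring⟩
    intro h
    rcases hp.dvd_mul.1 h with h | h
    · exact hnp (hpq _ (by omega)) h
    · exact hpr h

/-- a `p`-group of isometries fixes a nonzero singular vector -/
theorem exists_fix (hG : Good Q) {p f : ℕ} [hp : Fact p.Prime] (hf : 1 ≤ f) (hK : Nat.card K = p ^ f)
    {R : Subgroup (V ≃ₗ[K] V)} (hRO : R ≤ O Q) (hR : IsPGroup p R) :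
    ∃ u : V, u ≠ 0 ∧ Q u = 0 ∧ ∀ g ∈ R, g u = u := by
  let act : MulAction ↥R {v : V // Q v = 0} :=
    { smul := fun g v => ⟨(g : V ≃ₗ[K] V) v, by rw [hRO g.2]; exact v.2⟩
      one_smul := fun v => rfl
      mul_smul := fun g h v => rfl }
  have hsm : ∀ (g : ↥R) (v : {v : V // Q v = 0}), ((g • v : {v : V // Q v = 0}) : V) = (g : V ≃ₗ[K] V) v := fun _ _ => rfl
  have h1 := hR.card_modEq_card_fixedPoints {v : V // Q v = 0}
  have h2 : p ∣ Nat.card (MulAction.fixedPoints ↥R {v : V // Q v = 0}) :=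
    Nat.modEq_zero_iff_dvd.1 (h1.symm.trans (Nat.modEq_zero_iff_dvd.2 (card_sing hG hf hK)))
  have h3 : (⟨0, QuadraticMap.map_zero _⟩ : {v : V // Q v = 0}) ∈ MulAction.fixedPoints ↥R {v : V // Q v = 0} := by
    intro g
    apply Subtype.ext
    rw [hsm]
    exact map_zero _
  have h4 : Nontrivial (MulAction.fixedPoints ↥R {v : V // Q v = 0}) := by
    rw [← Finite.one_lt_card_iff_nontrivial]
    have h5 : 0 < Nat.card (MulAction.fixedPoints ↥R {v : V // Q v = 0}) := by
      have : Nonempty (MulAction.fixedPoints ↥R {v : V // Q v = 0}) := ⟨⟨_, h3⟩⟩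
      exact Nat.card_pos
    exact lt_of_lt_of_le hp.out.one_lt (Nat.le_of_dvd h5 h2)
  obtain ⟨x, hx⟩ := exists_ne (⟨_, h3⟩ : MulAction.fixedPoints ↥R {v : V // Q v = 0})
  refine ⟨x.1.1, fun h => hx (Subtype.ext (Subtype.ext h)), x.1.2, fun g hg => ?_⟩
  exact congrArg Subtype.val (x.2 ⟨g, hg⟩)

/-- the Siegel group in `O Q` -/
def XO (Q : QuadraticForm K V) (u : V) (hu : Q u = 0) : Subgroup (V ≃ₗ[K] V) := (X Q u hu).map (E Q).subtype

theorem mem_XO {u : V} {hu : Q u = 0} {g : V ≃ₗ[K] V} :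
    g ∈ XO Q u hu ↔ ∃ (w : V) (hw : polar Q u w = 0), g = siegel Q u w hu hw := by
  constructor
  · rintro ⟨x, ⟨w, hw, hx⟩, rfl⟩
    exact ⟨w, hw, hx⟩
  · rintro ⟨w, hw, rfl⟩
    exact ⟨⟨_, siegel_mem_E hu hw⟩, ⟨w, hw, rfl⟩, rfl⟩

theorem XO_conj {u : V} (hu : Q u = 0) {g : V ≃ₗ[K] V} (hg : g ∈ O Q) (hgu : g u = u) {x : V ≃ₗ[K] V} (hx : x ∈ XO Q u hu) :
    g * x * g⁻¹ ∈ XO Q u hu := by
  obtain ⟨w, hw, rfl⟩ := mem_XO.1 hx
  have hu' : Q (g u) = 0 := by rw [hgu]; exact hu
  have hw' : polar Q (g u) (g w) = 0 := by rw [polar_map hg]; exact hw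
  rw [mem_XO]
  refine ⟨g w, by rw [← hw', hgu], ?_⟩
  rw [siegel_conj hg hu hw hu' hw']
  congr 1

/-- **the main lemma** -/
theorem exists_siegel (hQ : Nondeg Q) (hd : finrank K V = 8) {p f : ℕ} (hp : p.Prime) (hf : 1 ≤ f) (hK : Nat.card K = p ^ f)
    {P : Subgroup (V ≃ₗ[K] V)} (hPO : P ≤ O Q) (hPp : IsPGroup p P) (hc : Nat.card K ^ 10 ≤ Nat.card P) :
    ∃ (u w : V) (hu : Q u = 0) (hw : polar Q u w = 0), u ≠ 0 ∧ w ∉ Submodule.span K {u} ∧ siegel Q u w hu hw ∈ P := by
  have hpf : Fact p.Prime := ⟨hp⟩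
  have hG : Good Q := good_of_finite hQ (by omega)
  obtain ⟨u, hu0, hu, hfix⟩ := exists_fix hG hf hK hPO hPp
  have hfinV : Finite (V ≃ₗ[K] V) := Finite.of_injective (fun g : V ≃ₗ[K] V => (g : V → V)) DFunLike.coe_injective
  have hXp : IsPGroup p (XO Q u hu) := by
    have h1 := isPGroup_X hG ⟨f, hK⟩ hu hu0
    exact h1.map _
  have hXc : Nat.card (XO Q u hu) = Nat.card K ^ 6 := by
    have h1 : Nat.card (XO Q u hu) = Nat.card (X Q u hu) := Subgroup.card_map_of_injective (Subgroup.subtype_injective _)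
    have h2 := card_X hG hu hu0
    rw [hd] at h2
    have h3 : 0 < Nat.card K ^ 2 := Nat.pow_pos Nat.card_pos
    rw [h1]
    apply Nat.eq_of_mul_eq_mul_right h3
    rw [h2]
    ring
  have hXO : XO Q u hu ≤ O Q := by
    intro g hg
    obtain ⟨w, hw, rfl⟩ := mem_XO.1 hg
    exact siegel_mem_O hu hw
  have hnorm : P ≤ Subgroup.normalizer (XO Q u hu : Set (V ≃ₗ[K] V)) := by
    intro g hg
    rw [Subgroup.mem_normalizer_iff]
    intro x
    refine ⟨fun hx => XO_conj hu (hPO hg) (hfix g hg) hx, fun hx => ?_⟩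
    have h1 := XO_conj hu (inv_mem (hPO hg)) (hfix g⁻¹ (inv_mem hg)) hx
    have h2 : g⁻¹ * (g * x * g⁻¹) * g⁻¹⁻¹ = x := by group
    rwa [h2] at h1
  by_cases hdis : Disjoint P (XO Q u hu)
  · exfalso
    -- the product
    have hPX : IsPGroup p ↥(P ⊔ XO Q u hu) := IsPGroup.to_sup_of_normal_right' hPp hXp hnorm
    have h1 : Nat.card P * Nat.card (XO Q u hu) ≤ Nat.card ↥(P ⊔ XO Q u hu) := by
      rw [← Nat.card_prod]
      refine Nat.card_le_card_of_injective (fun x : P × XO Q u hu => (⟨x.1 * x.2,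
        mul_mem (Subgroup.mem_sup_left x.1.2) (Subgroup.mem_sup_right x.2.2)⟩ : ↥(P ⊔ XO Q u hu))) ?_
      intro x y hxy
      exact Subgroup.mul_injective_of_disjoint hdis (congrArg Subtype.val hxy)
    obtain ⟨k, hk⟩ := IsPGroup.iff_card.1 hPX
    obtain ⟨N, hN, hO⟩ := card_O_eight hQ hd hp hf hK
    have h2 : p ^ k ∣ 2 * Nat.card K ^ 12 * N := by
      rw [← hk, ← hO]
      exact Subgroup.card_dvd_of_le (sup_le hPO hXO)
    have h3 : p ^ k ∣ 2 * Nat.card K ^ 12 :=
      (Nat.Coprime.pow_left k ((Nat.Prime.coprime_iff_not_dvd hp).2 hN)).dvd_of_dvd_mul_right h2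
    have hq : 2 ≤ Nat.card K := Finite.one_lt_card
    have h4 : p ^ k ≤ 2 * Nat.card K ^ 12 := Nat.le_of_dvd (Nat.mul_pos (by norm_num) (Nat.pow_pos (by omega))) h3
    have h5 : Nat.card K ^ 10 * Nat.card K ^ 6 ≤ Nat.card P * Nat.card (XO Q u hu) := by
      rw [hXc]
      exact Nat.mul_le_mul_right _ hc
    have h6 : Nat.card K ^ 12 * 16 ≤ Nat.card K ^ 10 * Nat.card K ^ 6 := by
      calc Nat.card K ^ 12 * 16 ≤ Nat.card K ^ 12 * Nat.card K ^ 4 := by
            apply Nat.mul_le_mul_left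
            calc 16 = 2 ^ 4 := by norm_num
              _ ≤ Nat.card K ^ 4 := Nat.pow_le_pow_left hq 4
        _ = _ := by ring
    have h7 : 0 < Nat.card K ^ 12 := Nat.pow_pos (by omega)
    rw [hk] at h1
    omega
  · rw [disjoint_iff] at hdis
    obtain ⟨⟨gv, hgP, hgX⟩, hg1⟩ := Subgroup.ne_bot_iff_exists_ne_one.1 hdis
    obtain ⟨w, hw, hgw⟩ := mem_XO.1 hgX
    refine ⟨u, w, hu, hw, hu0, fun h => hg1 ?_, hgw ▸ hgP⟩
    apply Subtype.ext
    change gv = 1
    rw [hgw]
    have h0 : polar Q u 0 = 0 := polar_zero_right _ _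
    have h8 := (siegel_eq_iff hQ hu hu0 hw h0).2 (by rw [sub_zero]; exact h)
    rw [h8]
    ext v
    rw [siegel_apply, polar_zero_left, QuadraticMap.map_zero]
    simp

end Cfsg.Agent.H60.O8R
end

-- part: H60/O8R/Subf
section
/-!
# S3691, `PΩ₈⁺(q)`: subfields of index two (helper60)

`V = B F₁^ι ⊗ F`, `ζ f` rational on `B F₁^ι`: then `ζ Q` is rational too (irreducibility), and the elements of `p`-power order of
`H ≤ subfieldSubgroup F₁ B` are defined over `F₁`.
-/

set_option autoImplicit false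
set_option linter.unusedSectionVars false

namespace Cfsg.Agent.H60.O8R

open Module QuadraticMap Cfsg Cfsg.Geo Cfsg.Agent.LieClassical.OrthCore Cfsg.Agent.LieClassical.OrthTrans
open Cfsg.Agent.LieClassical.OrthFinite
open scoped MatrixGroups Matrix

universe u

variable {ι : Type} [Fintype ι] [DecidableEq ι] {F : Type u} [Field F] {F₁ : Subfield F}

/-- vectors over the subfield -/
def em (u : ι → F₁) : ι → F := fun i => (u i : F)

/-- the rational structure -/
def bb (B : GL ι F) (u : ι → F₁) : ι → F := (B : Matrix ι ι F) *ᵥ em u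

theorem em_add (u v : ι → F₁) : em (u + v) = em u + em v := by
  funext i; simp [em]

theorem em_smul (a : F₁) (u : ι → F₁) : em (a • u) = (a : F) • em u := by
  funext i; simp [em]

theorem em_zero : em (0 : ι → F₁) = 0 := by
  funext i; simp [em]

theorem em_single (i : ι) : em (Pi.single i 1 : ι → F₁) = Pi.single i 1 := by
  funext j
  by_cases h : j = i
  · subst h; simp [em]
  · simp [em, Pi.single_eq_of_ne h]

variable (B : GL ι F)

theorem bb_add (u v : ι → F₁) : bb B (u + v) = bb B u + bb B v := by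
  rw [bb, em_add, Matrix.mulVec_add]; rfl

theorem bb_smul (a : F₁) (u : ι → F₁) : bb B (a • u) = (a : F) • bb B u := by
  rw [bb, em_smul, Matrix.mulVec_smul]; rfl

theorem bb_zero : bb B (0 : ι → F₁) = 0 := by
  rw [bb, em_zero, Matrix.mulVec_zero]

theorem inv_bb (u : ι → F₁) : ((B⁻¹ : GL ι F) : Matrix ι ι F) *ᵥ bb B u = em u := by
  rw [bb, Matrix.mulVec_mulVec, ← Units.val_mul, inv_mul_cancel, Units.val_one, Matrix.one_mulVec]

theorem em_inj {u v : ι → F₁} (h : em u = em v) : u = v := by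
  funext i
  exact Subtype.ext (congrFun h i)

theorem bb_inj {u v : ι → F₁} (h : bb B u = bb B v) : u = v := by
  apply em_inj
  rw [← inv_bb B u, h, inv_bb]

/-- linear maps are determined by their values on the rational structure -/
theorem ext_bb {W : Type*} [AddCommGroup W] [Module F W] {f g : (ι → F) →ₗ[F] W} (h : ∀ u : ι → F₁, f (bb B u) = g (bb B u)) :
    f = g := by
  have h1 : f ∘ₗ Matrix.toLin' (B : Matrix ι ι F) = g ∘ₗ Matrix.toLin' (B : Matrix ι ι F) := by
    apply LinearMap.pi_ext'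
    intro i
    ext
    have h2 := h (Pi.single i 1)
    rw [bb, em_single] at h2
    simpa only [_root_.LinearMap.coe_comp, _root_.LinearMap.coe_single, _root_.Function.comp_apply, _root_.Matrix.toLin'_apply, _root_.Matrix.mulVec_single, _root_.MulOpposite.op_one, _root_.one_smul] using h2
  apply LinearMap.ext
  intro x
  have h3 := LinearMap.congr_fun h1 (((B⁻¹ : GL ι F) : Matrix ι ι F) *ᵥ x)
  rw [LinearMap.comp_apply, LinearMap.comp_apply, Matrix.toLin'_apply, Matrix.mulVec_mulVec, ← Units.val_mul, mul_inv_cancel,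
    Units.val_one, Matrix.one_mulVec] at h3
  exact h3

variable {B}

/-- a group element written over the subfield -/
theorem exists_N {h : GL ι F} (hh : h ∈ subfieldSubgroup F₁ B) : ∃ c : F, c ≠ 0 ∧ ∃ N : Matrix ι ι F₁,
    (∀ i j, (N i j : F) = c * ((B⁻¹ * h * B : GL ι F) : Matrix ι ι F) i j) ∧
    ∀ u : ι → F₁, c • ((h : Matrix ι ι F) *ᵥ bb B u) = bb B (N *ᵥ u) := by
  obtain ⟨c, hc0, hc⟩ := H914.mem_subfieldSubgroup_iff.1 hh
  refine ⟨c, hc0, fun i j => ⟨_, hc i j⟩, fun i j => rfl, fun u => ?_⟩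
  have h1 : em ((fun i j => (⟨_, hc i j⟩ : F₁) : Matrix ι ι F₁) *ᵥ u) =
      c • (((B⁻¹ * h * B : GL ι F) : Matrix ι ι F) *ᵥ em u) := by
    funext i
    simp only [em, Matrix.mulVec, dotProduct, Pi.smul_apply, smul_eq_mul, Finset.mul_sum]
    rw [← Subfield.coe_subtype, map_sum]
    refine Finset.sum_congr rfl fun j _ => ?_
    rw [map_mul]
    exact mul_assoc _ _ _
  rw [bb, bb, h1, Matrix.mulVec_smul, Matrix.mulVec_mulVec, Matrix.mulVec_mulVec, ← Units.val_mul, ← Units.val_mul,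
    ← mul_assoc, ← mul_assoc, mul_inv_cancel, one_mul]

variable {Q : QuadraticForm F (ι → F)} {ζ : F}

theorem rat (hB : IsFormRationalStructure (polar Q) F₁ ζ B) (u v : ι → F₁) : ζ * polar Q (bb B u) (bb B v) ∈ F₁ :=
  hB _ _ (fun i => (u i).2) (fun i => (v i).2)

theorem nondeg_bb (hQ : Nondeg Q) {x : ι → F} (h : ∀ v : ι → F₁, polar Q x (bb B v) = 0) : x = 0 := by
  apply hQ
  intro y
  have h1 : polarBilin Q x = 0 := ext_bb (F₁ := F₁) B (fun u => h u)
  have := LinearMap.congr_fun h1 y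
  exact this

/-- the square of the scalar is rational -/
theorem sq_mem [Nonempty ι] (hQ : Nondeg Q) (hζ : ζ ≠ 0) (hB : IsFormRationalStructure (polar Q) F₁ ζ B) {h : GL ι F}
    (hiso : ∀ v, Q ((h : Matrix ι ι F) *ᵥ v) = Q v) {c : F} {N : Matrix ι ι F₁}
    (hN : ∀ u : ι → F₁, c • ((h : Matrix ι ι F) *ᵥ bb B u) = bb B (N *ᵥ u)) : c ^ 2 ∈ F₁ := by
  obtain ⟨u, v, huv⟩ : ∃ u v : ι → F₁, polar Q (bb B u) (bb B v) ≠ 0 := by
    by_contra hcon
    push Not at hcon
    obtain ⟨i⟩ := ‹Nonempty ι›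
    have h1 := nondeg_bb (B := B) (F₁ := F₁) hQ (hcon (Pi.single i 1))
    have h2 : (Pi.single i 1 : ι → F₁) = 0 := by
      apply bb_inj B
      rw [h1, bb_zero]
    have := congrFun h2 i
    simp at this
  have hp : ∀ x y, polar Q ((h : Matrix ι ι F) *ᵥ x) ((h : Matrix ι ι F) *ᵥ y) = polar Q x y := by
    intro x y
    rw [polar, ← Matrix.mulVec_add, hiso, hiso, hiso, polar]
  have h3 : ζ * polar Q (bb B (N *ᵥ u)) (bb B (N *ᵥ v)) = c ^ 2 * (ζ * polar Q (bb B u) (bb B v)) := by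
    rw [← hN, ← hN, polar_smul_left, polar_smul_right, hp, smul_eq_mul, smul_eq_mul]
    ring
  have h4 := rat hB (N *ᵥ u) (N *ᵥ v)
  rw [h3] at h4
  have h5 := rat hB u v
  have h6 : ζ * polar Q (bb B u) (bb B v) ≠ 0 := mul_ne_zero hζ huv
  have h7 := F₁.mul_mem h4 (F₁.inv_mem h5)
  rwa [mul_assoc, mul_inv_cancel₀ h6, mul_one] at h7

/-- the rational vectors of rational norm -/
def SS (hB : IsFormRationalStructure (polar Q) F₁ ζ B) : Submodule F₁ (ι → F₁) where
  carrier := {u | ζ * Q (bb B u) ∈ F₁}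
  add_mem' := by
    intro u v hu hv
    change ζ * Q (bb B (u + v)) ∈ F₁
    rw [bb_add, Q_add, mul_add, mul_add]
    exact F₁.add_mem (F₁.add_mem hu hv) (rat hB u v)
  zero_mem' := by
    change ζ * Q (bb B 0) ∈ F₁
    rw [bb_zero, QuadraticMap.map_zero, mul_zero]
    exact F₁.zero_mem
  smul_mem' := by
    intro a u hu
    change ζ * Q (bb B (a • u)) ∈ F₁
    rw [bb_smul, QuadraticMap.map_smul, smul_eq_mul, mul_left_comm]
    exact F₁.mul_mem (F₁.mul_mem a.2 a.2) hu

theorem mem_SS {hB : IsFormRationalStructure (polar Q) F₁ ζ B} {u : ι → F₁} : u ∈ SS hB ↔ ζ * Q (bb B u) ∈ F₁ := Iff.rfl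

/-- `ζ Q` is rational -/
theorem rat_Q [Finite F] (hQ : Nondeg Q) (hζ : ζ ≠ 0) (hB : IsFormRationalStructure (polar Q) F₁ ζ B)
    (hι : 2 ≤ Fintype.card ι) (hF1 : Nat.card F = Nat.card F₁ ^ 2) {H : Subgroup (GL ι F)}
    (hH : ∀ h ∈ H, ∀ v, Q ((h : Matrix ι ι F) *ᵥ v) = Q v) (hirr : ActsIrreducibly (matrixSet H))
    (hHB : H ≤ subfieldSubgroup F₁ B) (u : ι → F₁) : ζ * Q (bb B u) ∈ F₁ := by
  have hne : Nonempty ι := Fintype.card_pos_iff.1 (by omega)
  rw [← mem_SS (hB := hB)]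
  suffices hS : SS hB = ⊤ by rw [hS]; trivial
  let W : Submodule F (ι → F) := Submodule.span F (bb B '' (SS hB : Set (ι → F₁)))
  have hW := hirr W (by
    rintro _ ⟨h, hh, rfl⟩
    rw [Submodule.map_le_iff_le_comap, Submodule.span_le]
    rintro _ ⟨u, hu, rfl⟩
    change Matrix.toLin' (h : Matrix ι ι F) (bb B u) ∈ W
    rw [Matrix.toLin'_apply]
    obtain ⟨c, hc, N, -, hN⟩ := exists_N (hHB hh)
    have h1 : (h : Matrix ι ι F) *ᵥ bb B u = c⁻¹ • bb B (N *ᵥ u) := by
      rw [← hN, smul_smul, inv_mul_cancel₀ hc, one_smul]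
    rw [h1]
    refine W.smul_mem _ (Submodule.subset_span ⟨_, ?_, rfl⟩)
    change ζ * Q (bb B (N *ᵥ u)) ∈ F₁
    rw [← hN, QuadraticMap.map_smul, hH h hh, smul_eq_mul, mul_left_comm, ← pow_two]
    exact F₁.mul_mem (sq_mem hQ hζ hB (hH h hh) hN) hu)
  rcases hW with hW | hW
  · -- a nonzero element
    exfalso
    let ψ : (ι → F₁) → F ⧸ F₁.toSubring.toAddSubgroup := fun u => (QuotientAddGroup.mk (ζ * Q (bb B u)))
    have hcard : Nat.card (F ⧸ F₁.toSubring.toAddSubgroup) = Nat.card F₁ := by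
      have h1 := AddSubgroup.card_eq_card_quotient_mul_card_addSubgroup F₁.toSubring.toAddSubgroup
      have h2 : Nat.card F₁.toSubring.toAddSubgroup = Nat.card F₁ := rfl
      rw [h2, hF1, pow_two] at h1
      exact (Nat.eq_of_mul_eq_mul_right Nat.card_pos h1).symm
    have hnot : ¬ Function.Injective ψ := by
      intro hinj
      have h1 := Nat.card_le_card_of_injective ψ hinj
      have h2 : Nat.card (ι → F₁) = Nat.card F₁ ^ Fintype.card ι := by
        rw [Nat.card_fun, Nat.card_eq_fintype_card (α := ι)]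
      have h3 : 2 ≤ Nat.card F₁ := Finite.one_lt_card
      have h4 : Nat.card F₁ ^ 2 ≤ Nat.card F₁ ^ Fintype.card ι := Nat.pow_le_pow_right (by omega) hι
      rw [hcard, h2] at h1
      have h5 : Nat.card F₁ * 2 ≤ Nat.card F₁ ^ 2 := by
        rw [pow_two]
        exact Nat.mul_le_mul_left _ h3
      omega
    obtain ⟨u, v, huv, hne'⟩ : ∃ u v, ψ u = ψ v ∧ u ≠ v := by
      simpa [Function.Injective] using hnot
    have h1 : u - v ∈ SS hB := by
      change ζ * Q (bb B (u - v)) ∈ F₁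
      have h2 : -(ζ * Q (bb B v)) + ζ * Q (bb B u) ∈ F₁.toSubring.toAddSubgroup := QuotientAddGroup.eq.1 huv.symm
      have h3 : -(ζ * Q (bb B v)) + ζ * Q (bb B u) ∈ F₁ := h2
      have h4 : bb B (u - v) = bb B u + -(bb B v) := by
        have : u - v = u + (-1 : F₁) • v := by rw [neg_smul, one_smul, sub_eq_add_neg]
        rw [this, bb_add, bb_smul]
        simp only [_root_.NegMemClass.coe_neg, _root_.OneMemClass.coe_one, _root_.neg_smul, _root_.one_smul]
      have h5 : ζ * Q (bb B (u - v)) = (-(ζ * Q (bb B v)) + ζ * Q (bb B u)) + (ζ * polar Q (bb B v) (bb B v) -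
          ζ * polar Q (bb B u) (bb B v)) := by
        rw [h4, Q_add, QuadraticMap.map_neg, polar_neg_right, polar_self']
        ring
      rw [h5]
      exact F₁.add_mem h3 (F₁.sub_mem (rat hB v v) (rat hB u v))
    have h2 : bb B (u - v) ∈ W := Submodule.subset_span ⟨_, h1, rfl⟩
    rw [hW, Submodule.mem_bot, ← bb_zero B (F₁ := F₁)] at h2
    exact hne' (sub_eq_zero.1 (bb_inj B h2))
  · by_contra hS
    obtain ⟨l, hl, hle⟩ := Submodule.exists_le_ker_of_lt_top ((SS hB :)) (lt_top_iff_ne_top.2 hS)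
    apply hl
    let μ : (ι → F) →ₗ[F] F := ∑ i, (l (Pi.single i 1) : F) • LinearMap.proj (R := F) (φ := fun _ : ι => F) i
    have hμ : ∀ u : ι → F₁, μ (em u) = (l u : F) := by
      intro u
      have h1 : u = ∑ i, u i • (Pi.single i 1 : ι → F₁) := by
        funext j
        simp [Finset.sum_apply, Pi.single_apply]
      have h2 : μ (em u) = ∑ i, (l (Pi.single i 1) : F) * (u i : F) := by
        simp only [μ, LinearMap.sum_apply, em, _root_.LinearMap.smul_apply, _root_.LinearMap.coe_proj, _root_.Function.eval, _root_.smul_eq_mul]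
      rw [h2]
      conv_rhs => rw [h1, map_sum]
      rw [← Subfield.coe_subtype, map_sum]
      refine Finset.sum_congr rfl fun i _ => ?_
      rw [map_smul, smul_eq_mul, map_mul, mul_comm]
    let ν : (ι → F) →ₗ[F] F := μ ∘ₗ Matrix.toLin' ((B⁻¹ : GL ι F) : Matrix ι ι F)
    have hν : ∀ u : ι → F₁, ν (bb B u) = (l u : F) := by
      intro u
      rw [LinearMap.comp_apply, Matrix.toLin'_apply, inv_bb, hμ]
    have hker : W ≤ LinearMap.ker ν := by
      rw [Submodule.span_le]
      rintro _ ⟨u, hu, rfl⟩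
      change ν (bb B u) = 0
      rw [hν]
      have : l u = 0 := hle hu
      rw [this]
      rfl
    rw [hW] at hker
    apply LinearMap.ext
    intro u
    have h1 : ν (bb B u) = 0 := hker Submodule.mem_top
    rw [hν] at h1
    exact Subtype.ext h1

/-- the rational quadratic form -/
def Q1 (hB : IsFormRationalStructure (polar Q) F₁ ζ B) (hr : ∀ u : ι → F₁, ζ * Q (bb B u) ∈ F₁) :
    QuadraticForm F₁ (ι → F₁) where
  toFun u := ⟨ζ * Q (bb B u), hr u⟩
  toFun_smul a u := by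
    apply Subtype.ext
    change ζ * Q (bb B (a • u)) = (a : F) * a * (ζ * Q (bb B u))
    rw [bb_smul, QuadraticMap.map_smul, smul_eq_mul, mul_left_comm]
  exists_companion' := by
    refine ⟨LinearMap.mk₂ F₁ (fun u v => ⟨ζ * polar Q (bb B u) (bb B v), rat hB u v⟩) ?_ ?_ ?_ ?_, ?_⟩
    · intro u u' v
      apply Subtype.ext
      change ζ * polar Q (bb B (u + u')) (bb B v) = ζ * polar Q (bb B u) (bb B v) + ζ * polar Q (bb B u') (bb B v)
      rw [bb_add, polar_add_left, mul_add]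
    · intro a u v
      apply Subtype.ext
      change ζ * polar Q (bb B (a • u)) (bb B v) = (a : F) * (ζ * polar Q (bb B u) (bb B v))
      rw [bb_smul, polar_smul_left, smul_eq_mul, mul_left_comm]
    · intro u v v'
      apply Subtype.ext
      change ζ * polar Q (bb B u) (bb B (v + v')) = ζ * polar Q (bb B u) (bb B v) + ζ * polar Q (bb B u) (bb B v')
      rw [bb_add, polar_add_right, mul_add]
    · intro a u v
      apply Subtype.ext
      change ζ * polar Q (bb B u) (bb B (a • v)) = (a : F) * (ζ * polar Q (bb B u) (bb B v))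
      rw [bb_smul, polar_smul_right, smul_eq_mul, mul_left_comm]
    · intro u v
      apply Subtype.ext
      change ζ * Q (bb B (u + v)) = ζ * Q (bb B u) + ζ * Q (bb B v) + ζ * polar Q (bb B u) (bb B v)
      rw [bb_add, Q_add, mul_add, mul_add]

section

variable (hB : IsFormRationalStructure (polar Q) F₁ ζ B) (hr : ∀ u : ι → F₁, ζ * Q (bb B u) ∈ F₁)

theorem Q1_apply (u : ι → F₁) : ((Q1 hB hr u : F₁) : F) = ζ * Q (bb B u) := rfl

theorem Q1_polar (u v : ι → F₁) : ((polar (Q1 hB hr) u v : F₁) : F) = ζ * polar Q (bb B u) (bb B v) := by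
  rw [polar, Subfield.coe_sub, Subfield.coe_sub, Q1_apply, Q1_apply, Q1_apply, bb_add, polar]
  ring

theorem Q1_nondeg (hQ : Nondeg Q) (hζ : ζ ≠ 0) : Nondeg ((Q1 hB hr :)) := by
  intro x hx
  apply bb_inj B
  rw [bb_zero]
  apply nondeg_bb (B := B) (F₁ := F₁) hQ
  intro v
  have h1 := congrArg (fun z : F₁ => (z : F)) (hx v)
  simp only [Q1_polar] at h1
  exact (mul_eq_zero.1 h1).resolve_left hζ

end

end Cfsg.Agent.H60.O8R
end

-- part: H561/F34/Cross
section
/-!
# S3691, row POmega8+(q), q >= 16, box (F34-B): `cross34`, cross characteristic socles (helper561)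

`aut_dvd`: the order of the automorphism group of every candidate of `H936.List12.list₁` in degree 8 divides `BB`
(after `Cfsg.Agent.H105.O8.Cross`, by helper105, with a smaller `BB`): no `p ^ (5 a)` with `p ^ a ≥ 16` divides `BB`.
-/

set_option autoImplicit false

namespace Cfsg.Agent.H561.F34

open Cfsg Cfsg.Geo Cfsg.Agent.OrdDiv Cfsg.Agent.H436 Cfsg.Agent.H264.FKS Cfsg.Agent.H902
open Cfsg.Agent.H902.Names Cfsg.Agent.H708.O8 Cfsg.Agent.H915.LD Cfsg.Agent.H884.El Cfsg.Agent.H936.List12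
open Cfsg.Agent.H912.Bd Cfsg.Agent.H912.Five
open Cfsg.Agent.H823.O8R (Nm)
open scoped MatrixGroups Matrix

universe u

/-- a multiple of the orders of the automorphism groups of all candidates -/
def BB : ℕ := 2 ^ 16 * 3 ^ 7 * 5 ^ 2 * 7 ^ 4 * 11 ^ 2 * 13 * 17 * 19 * 23

/-- **The numbers.** -/
theorem not_dvd {p a : ℕ} (hp : p.Prime) (h16 : 16 ≤ p ^ a) {N : ℕ} (hN : N ∣ BB) : ¬ p ^ (5 * a) ∣ N := by
  intro h1
  have h2 := h1.trans hN
  have ha : 1 ≤ a := by
    rcases Nat.eq_zero_or_pos a with rfl | h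
    · norm_num at h16
    · exact h
  by_cases hp2 : p = 2
  · subst hp2
    have ha4 : 4 ≤ a := by
      by_contra hc
      have : 2 ^ a ≤ 2 ^ 3 := Nat.pow_le_pow_right (by norm_num) (by omega)
      omega
    have h3 : 2 ^ 20 ∣ BB := (pow_dvd_pow 2 (by omega)).trans h2
    unfold BB at h3
    norm_num at h3
  by_cases hp3 : p = 3
  · subst hp3
    have ha4 : 3 ≤ a := by
      by_contra hc
      have : 3 ^ a ≤ 3 ^ 2 := Nat.pow_le_pow_right (by norm_num) (by omega)
      omega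
    have h3 : 3 ^ 15 ∣ BB := (pow_dvd_pow 3 (by omega)).trans h2
    unfold BB at h3
    norm_num at h3
  have h5 : p ^ 5 ∣ BB := (pow_dvd_pow p (by omega)).trans h2
  have h6 : p ∣ BB := (dvd_pow_self p (by norm_num)).trans h5
  have key : p = 5 ∨ p = 7 ∨ p = 11 ∨ p = 13 ∨ p = 17 ∨ p = 19 ∨ p = 23 := by
    have hs : ∀ {s k : ℕ}, s.Prime → p ∣ s ^ k → p = s := fun hs h =>
      (Nat.prime_dvd_prime_iff_eq hp hs).1 (hp.dvd_of_dvd_pow h)
    have hs1 : ∀ {s : ℕ}, s.Prime → p ∣ s → p = s := fun hs h => (Nat.prime_dvd_prime_iff_eq hp hs).1 h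
    unfold BB at h6
    rcases hp.dvd_mul.1 h6 with h1 | h1
    rcases hp.dvd_mul.1 h1 with h1 | h1
    rcases hp.dvd_mul.1 h1 with h1 | h1
    rcases hp.dvd_mul.1 h1 with h1 | h1
    rcases hp.dvd_mul.1 h1 with h1 | h1
    rcases hp.dvd_mul.1 h1 with h1 | h1
    rcases hp.dvd_mul.1 h1 with h1 | h1
    rcases hp.dvd_mul.1 h1 with h1 | h1
    · exact absurd (hs Nat.prime_two h1) hp2
    · exact absurd (hs Nat.prime_three h1) hp3
    · have := hs Nat.prime_five h1; omega
    · have := hs (by norm_num) h1; omega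
    · have := hs (by norm_num) h1; omega
    · have := hs1 (by norm_num) h1; omega
    · have := hs1 (by norm_num) h1; omega
    · have := hs1 (by norm_num) h1; omega
    · have := hs1 (by norm_num) h1; omega
  unfold BB at h5
  rcases key with rfl | rfl | rfl | rfl | rfl | rfl | rfl <;> norm_num at h5

section
variable {S : Type u} [Group S] [Finite S] [IsSimpleGroup S]

theorem lie_dvd (hna : ¬ IsMulCommutative S) {g : Grp} {X : Art.Sh} {p f : ℕ} (hg : IsLie g X p f)
    (h : OrdDiv.Real g S) (hr : Art.Real X p f (Nat.card S)) :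
    Nat.card (MulAut S) ∣ 24 * f * ((p ^ f) ^ Art.NN X * Art.num X (p ^ f)) := by
  obtain ⟨c, h1, ⟨d, h2⟩, -⟩ := H364.OutLie.card_out (not_comm hna) hg h hr
  rw [← H934.OutB.card_out_mul S hna, h1, ← hr.eq]
  refine ⟨d, ?_⟩
  calc 24 * f * (Art.dd X (p ^ f) * Nat.card S) = (24 * Art.dd X (p ^ f)) * f * Nat.card S := by ring
    _ = c * d * f * Nat.card S := by rw [h2]
    _ = c * f * Nat.card S * d := by ring

theorem aut_L (hna : ¬ IsMulCommutative S) {n p f q : ℕ} (hp : p.Prime) (hf : 1 ≤ f) (hq : p ^ f = q) (hn : 2 ≤ n)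
    (hn2 : n = 2 → 4 ≤ p ^ f) (h : IsL n q S)
    (hB : 24 * f * ((p ^ f) ^ (n * (n - 1) / 2) * ∏ i ∈ Finset.range (n - 1), ((p ^ f) ^ (i + 2) - 1)) ∣ BB) :
    Nat.card (MulAut S) ∣ BB := by
  subst hq
  obtain ⟨K, iK, iKf, hK, ⟨e⟩⟩ := h
  refine (lie_dvd hna (.psl n p f) ⟨K, iK, iKf, hK, ⟨e⟩⟩ ?_).trans hB
  rw [Nat.card_congr e.toEquiv]
  exact psl_real hp hf hK hn hn2

theorem aut_U (hna : ¬ IsMulCommutative S) {n p f q : ℕ} (hp : p.Prime) (hf : 1 ≤ f) (hq : p ^ f = q) (hn : 3 ≤ n)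
    (hn2 : ¬ (n = 3 ∧ p ^ f = 2)) (h : IsU n q S)
    (hB : 24 * f * ((p ^ f) ^ (n * (n - 1) / 2) *
      ∏ i ∈ Finset.range (n - 1), (if Even i then (p ^ f) ^ (i + 2) - 1 else (p ^ f) ^ (i + 2) + 1)) ∣ BB) :
    Nat.card (MulAut S) ∣ BB := by
  subst hq
  obtain ⟨K, iK, iKf, hK, ⟨e⟩⟩ := h
  refine (lie_dvd hna (.psu n p f) ⟨K, iK, iKf, hK, ⟨e⟩⟩ ?_).trans hB
  rw [Nat.card_congr e.toEquiv]
  exact psu_real hp hf hK hn hn2

theorem aut_S (hna : ¬ IsMulCommutative S) {n p f q : ℕ} (hp : p.Prime) (hf : 1 ≤ f) (hq : p ^ f = q) (hn : 2 ≤ n)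
    (hn2 : n = 2 → 3 ≤ p ^ f) (h : IsS n q S)
    (hB : 24 * f * ((p ^ f) ^ (n ^ 2) * ∏ i ∈ Finset.range n, ((p ^ f) ^ (2 * (i + 1)) - 1)) ∣ BB) :
    Nat.card (MulAut S) ∣ BB := by
  subst hq
  obtain ⟨K, iK, iKf, hK, ⟨e⟩⟩ := h
  refine (lie_dvd hna (.psp n p f) ⟨K, iK, iKf, hK, ⟨e⟩⟩ ?_).trans hB
  rw [Nat.card_congr e.toEquiv]
  exact psp_real hp hf hK hn hn2

theorem aut_OP (hna : ¬ IsMulCommutative S) {n p f q : ℕ} (hp : p.Prime) (hf : 1 ≤ f) (hq : p ^ f = q) (hn : 4 ≤ n)
    (h : IsOP n q S)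
    (hB : 24 * f * ((p ^ f) ^ (n * (n - 1)) *
      (((p ^ f) ^ n - 1) * ∏ i ∈ Finset.range (n - 1), ((p ^ f) ^ (2 * (i + 1)) - 1))) ∣ BB) :
    Nat.card (MulAut S) ∣ BB := by
  subst hq
  obtain ⟨K, iK, iKf, hK, ⟨e⟩⟩ := h
  refine (lie_dvd hna (.oplus n p f) ⟨K, iK, iKf, hK, ⟨e⟩⟩ ?_).trans hB
  rw [Nat.card_congr e.toEquiv]
  exact oplus_real hp hf hK hn

theorem aut_G (hna : ¬ IsMulCommutative S) (h : H912.Bd.IsG2 4 S) : Nat.card (MulAut S) ∣ BB := by
  obtain ⟨K, iK, iKf, hK, ⟨e⟩⟩ := h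
  have h1 := OrdDiv.table.{0}.g2 K
  rw [hK, ← Nat.card_congr e.toEquiv] at h1
  have h2 : Art.Real .G2 2 2 (Nat.card S) := ⟨Nat.prime_two, by norm_num, show 3 ≤ 2 ^ 2 by norm_num, by
    rw [h1]; rfl⟩
  refine (lie_dvd hna (.g2 2 2) ⟨K, iK, iKf, hK, ⟨e⟩⟩ h2).trans ?_
  change 24 * 2 * ((2 ^ 2) ^ 6 * (((2 ^ 2) ^ 2 - 1) * ((2 ^ 2) ^ 6 - 1))) ∣ BB
  unfold BB
  norm_num

theorem aut_Sz (hna : ¬ IsMulCommutative S) (h : IsSz8 S) : Nat.card (MulAut S) ∣ BB := by
  obtain ⟨K, iK, iKf, hK, ⟨e⟩⟩ := h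
  have h1 := OrdDiv.table.{0}.sz K 1 le_rfl hK
  have h2 : Nat.card S = Nat.card ↥(Lie.Sz K (2 ^ (1 + 1))) := Nat.card_congr e.toEquiv
  rw [h1] at h2
  have h3 : Art.Real .Sz 2 3 (Nat.card S) := ⟨Nat.prime_two, by norm_num, ⟨rfl, by decide, le_rfl⟩, by
    rw [h2]; rfl⟩
  refine (lie_dvd hna (.sz 2 3) ⟨K, iK, iKf, 1, le_rfl, hK, rfl, ⟨e⟩⟩ h3).trans ?_
  change 24 * 3 * ((2 ^ 3) ^ 2 * ((2 ^ 3 - 1) * ((2 ^ 3) ^ 2 + 1))) ∣ BB
  unfold BB
  norm_num

theorem fac_dvd : Nat.factorial 13 ∣ BB := by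
  have : Nat.factorial 13 = 6227020800 := by decide
  rw [this]
  unfold BB
  norm_num

omit [Finite S] [IsSimpleGroup S] in
theorem aut_A {m : ℕ} (h5 : 5 ≤ m) (h13 : m ≤ 13) (e : S ≃* alternatingGroup (Fin m)) :
    Nat.card (MulAut S) ∣ BB := by
  rw [Nat.card_congr (MulAut.congr e).toEquiv]
  by_cases h6 : m = 6
  · subst h6
    rw [H824.ProdLem.card_aut_a6]
    unfold BB
    norm_num
  · rw [← Nat.card_congr (Equiv.ofBijective _ (S2119.result m (by omega) h6)), Nat.card_eq_fintype_card,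
      Fintype.card_perm, Fintype.card_fin]
    exact (Nat.factorial_dvd_factorial h13).trans fac_dvd

theorem aut_spor (hna : ¬ IsMulCommutative S) (hs : IsSporadicGroup S) {x : Grp × ℕ} (hx : x ∈ OrdDiv.spor)
    (hr : OrdDiv.Real x.1 S) (hB : 2 * x.2 ∣ BB) : Nat.card (MulAut S) ∣ BB := by
  have h1 := OrdDiv.table.spor S x hx hr
  have h2 : Nat.card (Cfsg.Out S) ≤ 2 := H498.SporOut.index_le_two hs
  have h3 : 0 < Nat.card (Cfsg.Out S) := Nat.card_pos
  rw [← H934.OutB.card_out_mul S hna, h1]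
  refine (Nat.mul_dvd_mul ?_ (dvd_refl _)).trans hB
  interval_cases Nat.card (Cfsg.Out S) <;> norm_num

theorem aut_SporC (hna : ¬ IsMulCommutative S) (h : SporC S) : Nat.card (MulAut S) ∣ BB := by
  unfold SporC at h
  rcases h with h | h | h | h | h | h | h | h | h
  · exact aut_spor hna (by unfold IsSporadicGroup; simp only [h, true_or, or_true]) (x := (.m11, 7920)) (by simp only [spor, _root_.List.mem_cons, _root_.Prod.mk.injEq, _root_.reduceCtorEq, _root_.Nat.reduceEqDiff, _root_.and_self, _root_.List.not_mem_nil, _root_.or_self, _root_.or_false, _root_.or_true]) h (by unfold BB; norm_num)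
  · exact aut_spor hna (by unfold IsSporadicGroup; simp only [h, true_or, or_true]) (x := (.m12, 95040)) (by simp only [spor, _root_.List.mem_cons, _root_.Prod.mk.injEq, _root_.reduceCtorEq, _root_.Nat.reduceEqDiff, _root_.and_self, _root_.List.not_mem_nil, _root_.or_self, _root_.or_false, _root_.or_true]) h (by unfold BB; norm_num)
  · exact aut_spor hna (by unfold IsSporadicGroup; simp only [h, true_or, or_true]) (x := (.m22, 443520)) (by simp only [spor, _root_.List.mem_cons, _root_.Prod.mk.injEq, _root_.reduceCtorEq, _root_.Nat.reduceEqDiff, _root_.and_self, _root_.List.not_mem_nil, _root_.or_self, _root_.or_false, _root_.or_true]) h (by unfold BB; norm_num)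
  · exact aut_spor hna (by unfold IsSporadicGroup; simp only [h, true_or, or_true]) (x := (.m23, 10200960)) (by simp only [spor, _root_.List.mem_cons, _root_.Prod.mk.injEq, _root_.reduceCtorEq, _root_.Nat.reduceEqDiff, _root_.and_self, _root_.List.not_mem_nil, _root_.or_self, _root_.or_false, _root_.or_true]) h (by unfold BB; norm_num)
  · exact aut_spor hna (by unfold IsSporadicGroup; simp only [h, true_or, or_true]) (x := (.m24, 244823040)) (by simp only [spor, _root_.List.mem_cons, _root_.Prod.mk.injEq, _root_.reduceCtorEq, _root_.Nat.reduceEqDiff, _root_.and_self, _root_.List.not_mem_nil, _root_.or_self, _root_.or_false, _root_.or_true]) h (by unfold BB; norm_num)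
  · exact aut_spor hna (by unfold IsSporadicGroup; simp only [h, true_or, or_true]) (x := (.j1, 175560)) (by simp only [spor, _root_.List.mem_cons, _root_.Prod.mk.injEq, _root_.reduceCtorEq, _root_.Nat.reduceEqDiff, _root_.and_self, _root_.List.not_mem_nil, _root_.or_self, _root_.or_false, _root_.or_true]) h (by unfold BB; norm_num)
  · exact aut_spor hna (by unfold IsSporadicGroup; simp only [h, true_or, or_true]) (x := (.j2, 604800)) (by simp only [spor, _root_.List.mem_cons, _root_.Prod.mk.injEq, _root_.reduceCtorEq, _root_.Nat.reduceEqDiff, _root_.and_self, _root_.List.not_mem_nil, _root_.or_self, _root_.or_false, _root_.or_true]) h (by unfold BB; norm_num)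
  · exact aut_spor hna (by unfold IsSporadicGroup; simp only [h, true_or, or_true]) (x := (.j3, 50232960)) (by simp only [spor, _root_.List.mem_cons, _root_.Prod.mk.injEq, _root_.reduceCtorEq, _root_.Nat.reduceEqDiff, _root_.and_self, _root_.List.not_mem_nil, _root_.or_self, _root_.or_false, _root_.or_true]) h (by unfold BB; norm_num)
  · exact aut_spor hna (by unfold IsSporadicGroup; simp only [h, true_or, or_true]) (x := (.suz, 448345497600)) (by simp only [spor, _root_.List.mem_cons, _root_.Prod.mk.injEq, _root_.reduceCtorEq, _root_.Nat.reduceEqDiff, _root_.and_self, _root_.List.not_mem_nil, _root_.or_self, _root_.or_false, _root_.or_true]) h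
      (by unfold BB; norm_num)

theorem aut_L2 (hna : ¬ IsMulCommutative S) {q : ℕ} (hq : q ∈ ({7, 8, 11, 13, 17, 19, 23, 25} : Finset ℕ))
    (hle : (q - 1) / Nat.gcd 2 (q - 1) ≤ 8) (h : IsL 2 q S) : Nat.card (MulAut S) ∣ BB := by
  simp only [Finset.mem_insert, Finset.mem_singleton] at hq
  rcases hq with rfl | rfl | rfl | rfl | rfl | rfl | rfl | rfl
  · exact aut_L hna (p := 7) (f := 1) (by norm_num) le_rfl (by norm_num) le_rfl (fun _ => by norm_num) h
      (by unfold BB; simp only [Finset.prod_range_succ, Finset.prod_range_zero]; norm_num)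
  · exact aut_L hna (p := 2) (f := 3) (by norm_num) (by norm_num) (by norm_num) le_rfl (fun _ => by norm_num) h
      (by unfold BB; simp only [Finset.prod_range_succ, Finset.prod_range_zero]; norm_num)
  · exact aut_L hna (p := 11) (f := 1) (by norm_num) le_rfl (by norm_num) le_rfl (fun _ => by norm_num) h
      (by unfold BB; simp only [Finset.prod_range_succ, Finset.prod_range_zero]; norm_num)
  · exact aut_L hna (p := 13) (f := 1) (by norm_num) le_rfl (by norm_num) le_rfl (fun _ => by norm_num) h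
      (by unfold BB; simp only [Finset.prod_range_succ, Finset.prod_range_zero]; norm_num)
  · exact aut_L hna (p := 17) (f := 1) (by norm_num) le_rfl (by norm_num) le_rfl (fun _ => by norm_num) h
      (by unfold BB; simp only [Finset.prod_range_succ, Finset.prod_range_zero]; norm_num)
  · norm_num at hle
  · norm_num at hle
  · norm_num at hle

theorem aut_LieC (hna : ¬ IsMulCommutative S) {p : ℕ} (h : LieC p 8 S) : Nat.card (MulAut S) ∣ BB := by
  rcases h with ⟨q, hq, -, h2, h3⟩ | ⟨-, -, h⟩ | ⟨-, -, h⟩ | ⟨-, h, -⟩ | ⟨-, -, -, h⟩ | ⟨-, -, h⟩ | ⟨-, h, -⟩ |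
    ⟨-, -, h⟩ | ⟨-, -, h⟩
  · exact aut_L2 hna hq h2 h3
  · exact aut_L hna (p := 3) (f := 1) (by norm_num) le_rfl (by norm_num) (by norm_num) (by norm_num) h
      (by unfold BB; simp only [Finset.prod_range_succ, Finset.prod_range_zero]; norm_num)
  · exact aut_U hna (p := 3) (f := 1) (by norm_num) le_rfl (by norm_num) le_rfl (by norm_num) h
      (by unfold BB; simp only [Finset.prod_range_succ, _root_.mul_one, _root_.pow_one, _root_.Nat.add_one_sub_one, _root_.Nat.reduceMul, _root_.Nat.reduceDiv, _root_.Nat.reducePow, _root_.Finset.range_one, _root_.Finset.prod_singleton, _root_.Even.zero, ↓ _root_.reduceIte, _root_.zero_add, _root_.Nat.not_even_one, _root_.Nat.reduceAdd, _root_.Nat.reduceDvd])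
  · omega
  · exact aut_U hna (p := 2) (f := 1) (by norm_num) le_rfl (by norm_num) (by norm_num) (by norm_num) h
      (by unfold BB; simp only [show 4 - 1 = 3 from rfl, Finset.prod_range_succ, Finset.prod_range_zero]; norm_num [Nat.even_iff])
  · exact aut_U hna (p := 2) (f := 1) (by norm_num) le_rfl (by norm_num) (by norm_num) (by norm_num) h
      (by unfold BB; simp only [show 5 - 1 = 4 from rfl, Finset.prod_range_succ, Finset.prod_range_zero]; norm_num [Nat.even_iff])
  · omega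
  · exact aut_S hna (p := 2) (f := 1) (by norm_num) le_rfl (by norm_num) (by norm_num) (by norm_num) h
      (by unfold BB; simp only [Finset.prod_range_succ, Finset.prod_range_zero]; norm_num)
  · exact aut_OP hna (p := 2) (f := 1) (by norm_num) le_rfl (by norm_num) (by norm_num) h
      (by unfold BB; simp only [Finset.prod_range_succ, Finset.prod_range_zero]; norm_num)

theorem aut_MultD (hna : ¬ IsMulCommutative S) {p : ℕ} (h : MultD p 8 S) : Nat.card (MulAut S) ∣ BB := by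
  rcases h with ⟨-, -, h⟩ | ⟨-, h, -⟩
  · rcases h with h | h | ⟨-, h⟩ | h | h | h
    · exact aut_L2 hna (q := 7) (by simp only [_root_.Finset.mem_insert, _root_.Nat.reduceEqDiff, _root_.Finset.mem_singleton, _root_.or_self, _root_.or_false]) (by norm_num) h
    · exact aut_L hna (p := 2) (f := 2) (by norm_num) (by norm_num) (by norm_num) (by norm_num) (by norm_num) h
        (by unfold BB; simp only [Finset.prod_range_succ, Finset.prod_range_zero]; norm_num)
    · exact aut_U hna (p := 2) (f := 1) (by norm_num) le_rfl (by norm_num) (by norm_num) (by norm_num) h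
        (by unfold BB; simp only [show 4 - 1 = 3 from rfl, Finset.prod_range_succ, Finset.prod_range_zero]; norm_num [Nat.even_iff])
    · exact aut_S hna (p := 2) (f := 1) (by norm_num) le_rfl (by norm_num) (by norm_num) (by norm_num) h
        (by unfold BB; simp only [Finset.prod_range_succ, Finset.prod_range_zero]; norm_num)
    · exact aut_OP hna (p := 2) (f := 1) (by norm_num) le_rfl (by norm_num) (by norm_num) h
        (by unfold BB; simp only [Finset.prod_range_succ, Finset.prod_range_zero]; norm_num)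
    · exact aut_G hna h
  · omega

end

/-- **The automorphism groups of the candidates in degree 8.** -/
theorem aut_dvd {F : Type u} [Field F] [Finite F] {p : ℕ} [CharP F p] [hp : Fact p.Prime]
    {P : Subgroup (GL (Fin 8) F)} (hC : Core P) (hk : IsKnownSimple' (Soc P)) (hL : ¬ IsLieTypeChar p (Soc P)) :
    Nat.card (MulAut (Soc P)) ∣ BB := by
  have hs : IsSimpleGroup (Soc P) := hC.simple
  have hna : ¬ IsMulCommutative (Soc P) := hC.nonabelian
  have : Finite (Soc P) := inferInstance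
  rcases list₁ (p := p) (n := 8) (by norm_num) hC hk hL with (h | h | h | h | h) | h
  · obtain ⟨m, h5, h14, -, -, h12, ⟨e⟩⟩ := h
    exact aut_A h5 (by by_contra hc; have := h12 (by omega); omega) e
  · exact aut_LieC hna h
  · exact aut_MultD hna h
  · exact aut_Sz hna h.2.2
  · exact aut_SporC hna h
  · exfalso
    obtain ⟨-, ⟨⟨e⟩⟩ | ⟨⟨e⟩⟩ | ⟨⟨e⟩⟩ | ⟨⟨e⟩⟩⟩ := h
    · have := H806.Ls.fi22_le hp.out hC e
      omega
    · have := H806.Ls.fi23_le hp.out hC e
      omega
    · have := H806.Ls.b_le hp.out hC e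
      omega
    · have := H806.Ls.m_le hp.out hC e
      omega

section
variable {F : Type} [Field F] [Fintype F] {p a r b s k t : ℕ}

theorem charP_of (hp : p.Prime) (ha : 1 ≤ a) (hF : Nat.card F = p ^ a) : CharP F p := by
  rw [Nat.card_eq_fintype_card] at hF
  exact H936.List12.charP_of_dvd hp (by rw [hF]; exact dvd_pow_self p (by omega))

/-- **(F34-B)**: cross characteristic, `q ≥ 16` -/
theorem cross34' (hF : Nat.card F = p ^ a) (hp : p.Prime) (h16 : 16 ≤ p ^ a)
    {R : Subgroup (T8 F)} (S : Subgroup R) [S.Normal]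
    (hC : Subgroup.centralizer (S : Set R) = ⊥) {P : Subgroup (GL H708.O8.I8 F)}
    (hP : IsResidualCore (pre (quadFormPlus 4 F) R) P) (e : S ≃* Soc P) (hL : ¬ IsLieTypeChar p (Soc P))
    (hk : IsKnownSimple' (Soc P)) : ¬ p ^ (5 * a) ∣ Nat.card R := by
  have ha : 1 ≤ a := by
    rcases Nat.eq_zero_or_pos a with rfl | h
    · norm_num at h16
    · exact h
  have := charP_of hp ha hF
  have := Fact.mk hp
  let ix : H708.O8.I8 ≃ Fin 8 := finSumFinEquiv
  have hC' := H936.Reix.core_rx ix (core_of_residual hP)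
  have e' := H936.Reix.socEquiv ix P
  refine not_dvd hp h16 ((dvd_aut S hC).trans ?_)
  rw [Nat.card_congr (MulAut.congr (e.trans e')).toEquiv]
  exact aut_dvd (p := p) hC'
    (OddHalf.Known.isKnownSimple'_congr e' (core_of_residual hP).nonabelian hk)
    (fun h => hL (OddHalf.Known.isLieTypeChar_congr e'.symm h))

/-- **(F34-B)**: cross characteristic -/
theorem cross34 {R : Subgroup (T8 F)} (hF : Nat.card F = p ^ a) (h : Nm p a r b s k t) (S : Subgroup R) [S.Normal]
    (_hS : IsSimpleGroup S) (_hna : ¬ IsMulCommutative S) (hC : Subgroup.centralizer (S : Set R) = ⊥)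
    {P : Subgroup (GL H708.O8.I8 F)} (hP : IsResidualCore (pre (quadFormPlus 4 F) R) P) (e : S ≃* Soc P)
    (hL : ¬ IsLieTypeChar p (Soc P)) (hk : IsKnownSimple' (Soc P)) : ¬ p ^ (5 * a) ∣ Nat.card R :=
  cross34' hF h.rb.hp h.q16 S hC hP e hL hk

end

end Cfsg.Agent.H561.F34
end

private theorem dce_7f8d9a2dc5a6 : _root_.True := by
  try have : _root_.True := by simp only [_root_.Cfsg.Agent.H60.O8R.bb.eq_1]
  try have : _root_.True := by simp only [_root_.Cfsg.Agent.H60.O8R.em.eq_1]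
  try have : _root_.True := by simp only [_root_.Cfsg.Agent.H60.O8R.Q1.congr_simp]
  exact _root_.True.intro
end

-- part: H679/O8R/Three
section
prune_inst 0x1302404484000000000051200002040500000900043040044210942080820438900060018100011408000804008004001000010420000000a200400000500000081100620000000020096000000000000000000000000000000000000000000000000000
set_option linter.all false
open scoped Cfsg.Agent.FastGrp

-- part: H679/O8R/Oct
section
/-!
# S3691, `PΩ⁺₈(q)`: box THREE (helper679), the octonions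

`exists_tri_move` : the triality triples over the elements of `E` fixing `1` are transitive on the vectors of given nonzero norm of
the second module.
-/

set_option autoImplicit false
set_option linter.unusedSectionVars false

namespace Cfsg.Agent.H679.O8R

open Module QuadraticMap Cfsg Cfsg.Geo Cfsg.Agent.LieClassical.OrthCore Cfsg.Agent.LieClassical.OrthTrans
  Cfsg.Agent.LieClassical.OrthSimple Cfsg.Agent.ClassicalGeometry.OrthAut1
  Cfsg.Agent.ClassicalGeometry.OrthSemi Cfsg.Agent.H198.Classes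
  Cfsg.Agent.LieClassical.QuadForms Cfsg.Agent.H198.ClassesPlus
  Cfsg.Agent.ClassicalGeometry.TrialityOct Cfsg.Agent.ClassicalGeometry.Triality
  Cfsg.Agent.ClassicalGeometry.TrialitySpaces Cfsg.Agent.H198.TriBase Cfsg.Agent.H198.TriAut

section any

variable {F : Type*} [Field F]

/-- the trace of `w z̄` is `B(w, z)` -/
theorem polar_one_omul (w z : V8 F) :
    polar (plusForm 4 F) (one8 F) (omul w (oconj z)) = polar (plusForm 4 F) w z := by
  rw [← polar_omul, one_omul, polar_comm]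

theorem one8_ne : one8 F ≠ 0 := by
  intro h
  have h1 := norm_one8 (F := F)
  rw [h, QuadraticMap.map_zero] at h1
  exact zero_ne_one h1

theorem refl_fix {a x : V8 F} (ha : plusForm 4 F a ≠ 0) (h : polar (plusForm 4 F) a x = 0) :
    refl (plusForm 4 F) a ha x = x := by
  rw [refl_apply, h]
  simp

/-- two vectors have a common orthogonal nonsingular vector -/
theorem exists_perp_nonsing [Finite F] (w y : V8 F) :
    ∃ z, plusForm 4 F z ≠ 0 ∧ polar (plusForm 4 F) w z = 0 ∧ polar (plusForm 4 F) y z = 0 := by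
  by_contra hcon
  push Not at hcon
  let f : V8 F →ₗ[F] (Fin 2 → F) := LinearMap.pi fun i => polarBilin (plusForm 4 F) (![w, y] i)
  have hk : ∀ z ∈ LinearMap.ker f, plusForm 4 F z = 0 := by
    intro z hz
    have h0 : polar (plusForm 4 F) w z = 0 := congrFun (LinearMap.mem_ker.1 hz) 0
    have h1 : polar (plusForm 4 F) y z = 0 := congrFun (LinearMap.mem_ker.1 hz) 1
    by_contra h2
    exact hcon z h2 h0 h1
  have h4 := finrank_le_four (W := LinearMap.ker f) hk
  have h8 := LinearMap.finrank_range_add_finrank_ker f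
  have h2 : finrank F (LinearMap.range f) ≤ 2 := by
    refine (Submodule.finrank_le _).trans ?_
    rw [Module.finrank_fin_fun]
  have h9 : finrank F (V8 F) = 8 := by
    rw [finrank_fintype_fun_eq_card]
    simp
  have h10 : finrank F (LinearMap.range f) + finrank F (LinearMap.ker f) ≤ 2 + 4 := Nat.add_le_add h2 h4
  rw [h8, h9] at h10
  exact absurd h10 (by norm_num)

/-- the pairs of members `(g, g₁)` of the triality triples of isometries with `g ∈ E` -/
def Xh (F : Type*) [Field F] : Subgroup ((V8 F ≃ₗ[F] V8 F) × (V8 F ≃ₗ[F] V8 F)) where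
  carrier := {t | t.1 ∈ E (plusForm 4 F) ∧ t.2 ∈ O (plusForm 4 F) ∧ ∃ g₂, Tri t.1 t.2 g₂}
  mul_mem' := by
    rintro a b ⟨h1, h2, g, h3⟩ ⟨k1, k2, k, k3⟩
    exact ⟨mul_mem h1 k1, mul_mem h2 k2, _, h3.mul k3⟩
  one_mem' := ⟨one_mem _, one_mem _, 1, Tri.one⟩
  inv_mem' := by
    rintro a ⟨h1, h2, g, h3⟩
    exact ⟨inv_mem h1, inv_mem h2, _, h3.inv⟩

theorem mem_Xh {g g₁ : V8 F ≃ₗ[F] V8 F} : (g, g₁) ∈ Xh F ↔
    g ∈ E (plusForm 4 F) ∧ g₁ ∈ O (plusForm 4 F) ∧ ∃ g₂, Tri g g₁ g₂ := Iff.rfl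

/-- **the stabiliser of `1` is transitive on the second module** -/
theorem exists_tri_move [Finite F] (hG : Good (plusForm 4 F)) {w y : V8 F} (hw : plusForm 4 F w ≠ 0)
    (hwy : plusForm 4 F w = plusForm 4 F y) :
    ∃ g g₁, (g, g₁) ∈ Xh F ∧ g (one8 F) = one8 F ∧ g₁ w = y := by
  obtain ⟨z, hz, hwz, hyz⟩ := exists_perp_nonsing w y
  have hy : plusForm 4 F y ≠ 0 := hwy ▸ hw
  have hn : plusForm 4 F w ≠ 0 := hw
  set n := plusForm 4 F w with hnd
  set m := plusForm 4 F z with hmd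
  have hnm : n⁻¹ * m ≠ 0 := mul_ne_zero (inv_ne_zero hn) hz
  have hQ : ∀ x : V8 F, plusForm 4 F x = n → plusForm 4 F (n⁻¹ • omul x (oconj z)) = n⁻¹ * m := by
    intro x hx
    rw [QuadraticMap.map_smul, norm_omul, norm_oconj, hx, smul_eq_mul, ← hmd]
    field_simp
  have ha := hQ y hwy.symm
  have hb := hQ w rfl
  have hp : ∀ x : V8 F, polar (plusForm 4 F) x z = 0 →
      polar (plusForm 4 F) (n⁻¹ • omul x (oconj z)) (one8 F) = 0 := by
    intro x hx
    rw [polar_smul_left, polar_comm, polar_one_omul, hx, smul_zero]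
  set a : V8 F := n⁻¹ • omul y (oconj z) with had
  set b : V8 F := n⁻¹ • omul w (oconj z) with hbd
  have ha' : plusForm 4 F a ≠ 0 := by rwa [ha]
  have hb' : plusForm 4 F b ≠ 0 := by rwa [hb]
  refine ⟨refl (plusForm 4 F) a ha' * refl (plusForm 4 F) b hb', tri1 hnm ha hb, ?_, ?_, ?_⟩
  · exact mem_Xh.2 ⟨hG.refl_mul_refl_mem hb' ha' (hb.trans ha.symm), tri1_mem _ _ _,
      _, tri_refl hnm ha hb ha' hb'⟩
  · change refl (plusForm 4 F) a ha' (refl (plusForm 4 F) b hb' (one8 F)) = one8 F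
    rw [refl_fix _ (hp w hwz), refl_fix _ (hp y hyz)]
  · have h1 : oconj b = n⁻¹ • omul z (oconj w) := by
      have h2 : oconj (n⁻¹ • omul w (oconj z)) = n⁻¹ • oconj (omul w (oconj z)) := (kap F).map_smul _ _
      rw [hbd, h2, oconj_omul, oconj_oconj]
    have h2 : omul (oconj b) w = z := by
      rw [h1, smul_omul, omul_oconj_omul', ← hnd, smul_smul, inv_mul_cancel₀ hn, one_smul]
    rw [tri1_apply, h2, had, smul_omul, omul_oconj_omul', ← hmd, smul_smul, smul_smul, mul_assoc,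
      inv_mul_cancel₀ hnm, one_smul]

end any

end Cfsg.Agent.H679.O8R
end

-- part: H679/O8R/Core
section
/-!
# S3691, `PΩ⁺₈(q)`: box THREE (helper679), the count

`core` : a subgroup of `PΩ⁺₈(q)` fixing the point `⟨1⟩` and a nonsingular point of the second module has order not divisible by
`p^(6a+1)`, `q = p^a`.
-/

set_option autoImplicit false
set_option linter.unusedSectionVars false

namespace Cfsg.Agent.H679.O8R

open Module QuadraticMap Cfsg Cfsg.Geo Cfsg.Agent.LieClassical.OrthCore Cfsg.Agent.LieClassical.OrthTrans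
  Cfsg.Agent.LieClassical.OrthSimple Cfsg.Agent.ClassicalGeometry.OrthAut1
  Cfsg.Agent.ClassicalGeometry.OrthSemi Cfsg.Agent.H198.Classes
  Cfsg.Agent.LieClassical.QuadForms Cfsg.Agent.H198.ClassesPlus
  Cfsg.Agent.ClassicalGeometry.TrialityOct Cfsg.Agent.ClassicalGeometry.Triality
  Cfsg.Agent.ClassicalGeometry.TrialitySpaces Cfsg.Agent.H198.TriBase Cfsg.Agent.H198.TriAut
open Cfsg.Agent.AutOrth.Main (oe pe oe_apply pe_mk)

/-- counting by a surjection with coset fibres -/
theorem card_of_fibres {G T : Type*} [Group G] [Finite G] (f : G → T) (hf : Function.Surjective f) (S : Subgroup G)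
    (h : ∀ x y, f x = f y ↔ x⁻¹ * y ∈ S) : Nat.card G = Nat.card T * Nat.card S := by
  have e : G ⧸ S ≃ T := Equiv.ofBijective
    (Quotient.lift f (fun x y hxy => (h x y).2 (QuotientGroup.leftRel_apply.1 hxy))) (by
      constructor
      · intro x y hxy
        induction x using QuotientGroup.induction_on with | H x => ?_
        induction y using QuotientGroup.induction_on with | H y => ?_
        exact QuotientGroup.eq.2 ((h x y).1 hxy)
      · intro t
        obtain ⟨x, hx⟩ := hf t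
        exact ⟨QuotientGroup.mk x, hx⟩)
  rw [S.card_eq_card_quotient_mul_card_subgroup, Nat.card_congr e]

section any

variable {F : Type*} [Field F]

theorem eq_one_of_pow {p : ℕ} [Fact p.Prime] [CharP F p] {e : F} {k : ℕ} (h : e ^ p ^ k = 1) : e = 1 := by
  have h1 : (e - 1) ^ p ^ k = 0 := by
    rw [sub_pow_char_pow, h, one_pow, sub_self]
  exact sub_eq_zero.1 (pow_eq_zero_iff (pow_ne_zero _ (Fact.out : p.Prime).ne_zero) |>.1 h1)

theorem pow_smul_of {V : Type*} [AddCommGroup V] [Module F V] {g : V ≃ₗ[F] V} {v : V} {e : F} (h : g v = e • v) (n : ℕ) :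
    (g ^ n) v = e ^ n • v := by
  induction n with
  | zero => simp
  | succ n ih =>
    rw [pow_succ, pow_succ]
    change (g ^ n) (g v) = _
    rw [h, map_smul, ih, smul_smul, mul_comm]

theorem fix_of_pow {p : ℕ} [Fact p.Prime] [CharP F p] {V : Type*} [AddCommGroup V] [Module F V] {g : V ≃ₗ[F] V} {v : V}
    {e : F} (h : g v = e • v) (hv : v ≠ 0) {k : ℕ} (hk : g ^ p ^ k = 1) : g v = v := by
  have h1 := pow_smul_of h (p ^ k)
  rw [hk] at h1
  have h2 : (e ^ p ^ k - 1) • v = 0 := by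
    rw [sub_smul, ← h1, one_smul]
    exact sub_self v
  have h3 : e ^ p ^ k = 1 := by
    rcases smul_eq_zero.1 h2 with h4 | h4
    · exact sub_eq_zero.1 h4
    · exact absurd h4 hv
  rw [h, eq_one_of_pow h3, one_smul]

/-- the projection of `Xh` to the simple group -/
noncomputable def piX (F : Type*) [Field F] : Xh F →* P8 F :=
  (QuotientGroup.mk' (Subgroup.center ↥(E (plusForm 4 F)))).comp
    { toFun := fun t => ⟨t.1.1, t.2.1⟩
      map_one' := rfl
      map_mul' := fun _ _ => rfl }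

theorem piX_apply (t : Xh F) : piX F t = QuotientGroup.mk ⟨t.1.1, t.2.1⟩ := rfl

theorem piX_surj (hG : Good (plusForm 4 F)) : Function.Surjective (piX F) := by
  intro x
  obtain ⟨g, rfl⟩ := QuotientGroup.mk_surjective x
  obtain ⟨g₁, g₂, h⟩ := exists_triple hG g.2
  exact ⟨⟨(g.1, g₁), g.2, E_le_O h.1.2.1, g₂, h.2⟩, rfl⟩

/-- the stabiliser of the pair `(1, w)` -/
def S0 (w : V8 F) : Subgroup (Xh F) where
  carrier := {t | t.1.1 (one8 F) = one8 F ∧ t.1.2 w = w}
  mul_mem' := by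
    rintro s t ⟨h1, h2⟩ ⟨h3, h4⟩
    constructor
    · change s.1.1 (t.1.1 _) = _
      rw [h3, h1]
    · change s.1.2 (t.1.2 _) = _
      rw [h4, h2]
  one_mem' := ⟨rfl, rfl⟩
  inv_mem' := by
    rintro t ⟨h1, h2⟩
    constructor
    · change t.1.1.symm _ = _
      rw [LinearEquiv.symm_apply_eq, h1]
    · change t.1.2.symm _ = _
      rw [LinearEquiv.symm_apply_eq, h2]

theorem mem_S0 {w : V8 F} {t : Xh F} : t ∈ S0 w ↔ t.1.1 (one8 F) = one8 F ∧ t.1.2 w = w := Iff.rfl

end any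

section fin

variable {F : Type} [Field F] [Fintype F] {p a : ℕ}

instance : Finite (V8 F ≃ₗ[F] V8 F) :=
  Finite.of_injective (fun g : V8 F ≃ₗ[F] V8 F => (g : V8 F → V8 F)) DFunLike.coe_injective

theorem card_norm {c : F} (hc : c ≠ 0) :
    Fintype.card F ^ 3 ∣ Nat.card {v : V8 F // plusForm 4 F v = c} := by
  classical
  have h := Cfsg.Agent.LieClassical.QuadCount.card_plus (F := F) 4 c
  rw [if_neg hc, add_zero] at h
  have h1 : Nat.card {v : V8 F // plusForm 4 F v = c} = Nat.card {v : Fin 4 ⊕ Fin 4 → F // quadFormPlus 4 F v = c} := by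
    rw [← coe_plusForm 4]
  rw [h1]
  have hq : 1 ≤ Fintype.card F := Fintype.card_pos
  refine ⟨Fintype.card F ^ 4 - 1, ?_⟩
  apply Nat.eq_of_mul_eq_mul_left hq
  have h2 : Fintype.card F * (Fintype.card F ^ 3 * (Fintype.card F ^ 4 - 1)) = Fintype.card F ^ (2 * 4) - Fintype.card F ^ 4 := by
    rw [← mul_assoc, Nat.mul_sub, mul_one]
    congr 1
    · ring
    · ring
  rw [h2, ← h, Nat.add_sub_cancel]

theorem ne_zero_of_norm {v : V8 F} {c : F} (hc : c ≠ 0) (h : plusForm 4 F v = c) : v ≠ 0 := by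
  rintro rfl
  rw [QuadraticMap.map_zero] at h
  exact hc h.symm

theorem card_Xh (hG : Good (plusForm 4 F)) {w : V8 F} (hw : plusForm 4 F w ≠ 0) :
    Nat.card (Xh F) = Nat.card {v : V8 F // plusForm 4 F v = 1} * Nat.card {v : V8 F // plusForm 4 F v = plusForm 4 F w} *
      Nat.card (S0 w) := by
  rw [← Nat.card_prod]
  let f : Xh F → {v : V8 F // plusForm 4 F v = 1} × {v : V8 F // plusForm 4 F v = plusForm 4 F w} :=
    fun t => (⟨t.1.1 (one8 F), by rw [E_le_O t.2.1, norm_one8]⟩, ⟨t.1.2 w, t.2.2.1 w⟩)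
  refine card_of_fibres (G := Xh F) f ?_ (S0 w) ?_
  · rintro ⟨⟨v, hv⟩, ⟨y, hy⟩⟩
    obtain ⟨g, hg, hgv⟩ := hG.trans_norm (one8_ne (F := F)) (ne_zero_of_norm one_ne_zero hv) (norm_one8.trans hv.symm)
    obtain ⟨g₁, g₂, ht⟩ := exists_triple hG hg
    obtain ⟨y', rfl⟩ := g₁.surjective y
    have hy' : plusForm 4 F w = plusForm 4 F y' := by rw [← hy, E_le_O ht.1.2.1 y']
    obtain ⟨h, h₁, hh, hh1, hh2⟩ := exists_tri_move hG hw hy'
    refine ⟨⟨(g, g₁), hg, E_le_O ht.1.2.1, g₂, ht.2⟩ * ⟨(h, h₁), hh⟩, ?_⟩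
    refine Prod.ext (Subtype.ext ?_) (Subtype.ext ?_)
    · change g (h (one8 F)) = v
      rw [hh1, hgv]
    · change g₁ (h₁ w) = g₁ y'
      rw [hh2]
  · intro x y
    have e1 : (x⁻¹ * y).1.1 (one8 F) = x.1.1.symm (y.1.1 (one8 F)) := rfl
    have e2 : (x⁻¹ * y).1.2 w = x.1.2.symm (y.1.2 w) := rfl
    rw [mem_S0, e1, e2, LinearEquiv.symm_apply_eq, LinearEquiv.symm_apply_eq, Prod.ext_iff, Subtype.ext_iff, Subtype.ext_iff]
    exact ⟨fun h => ⟨h.1.symm, h.2.symm⟩, fun h => ⟨h.1.symm, h.2.symm⟩⟩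

theorem scalar_one [hp : Fact p.Prime] [CharP F p] {g : V8 F ≃ₗ[F] V8 F} {c : F} (h : ∀ v, g v = c • v) {k : ℕ}
    (hk : g ^ p ^ k = 1) : g = 1 := by
  ext1 v
  by_cases hv : v = 0
  · rw [hv, _root_.LinearEquiv.map_zero, _root_.LinearEquiv.map_zero]
  · exact fix_of_pow (h v) hv hk

theorem not_dvd_ker [hp : Fact p.Prime] [CharP F p] (hG : Good (plusForm 4 F)) : ¬ p ∣ Nat.card (piX F).ker := by
  intro h
  obtain ⟨t, ht⟩ := exists_prime_orderOf_dvd_card' p h
  have h1 : (t : Xh F) ^ p = 1 := by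
    have := pow_orderOf_eq_one t
    simp only [ht] at this
    rw [← Subgroup.coe_pow, this, Subgroup.coe_one]
  have h2 : t.1.1.1 ^ p ^ 1 = 1 := by
    rw [pow_one]
    exact congrArg (fun x : Xh F => x.1.1) h1
  have h3 : t.1.1.2 ^ p ^ 1 = 1 := by
    rw [pow_one]
    exact congrArg (fun x : Xh F => x.1.2) h1
  have h4 : piX F t.1 = 1 := t.2
  rw [piX_apply, QuotientGroup.eq_one_iff] at h4
  obtain ⟨c, hc⟩ := center_scalar hG h4
  have hc' : ∀ v, t.1.1.1 v = c • v := hc
  have h5 := scalar_one hc' h2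
  obtain ⟨g₂, h6⟩ := t.1.2.2.2
  obtain ⟨⟨d, hd⟩, -⟩ := h6.scalar (scalar_ne_zero hc') hc'
  have h7 := scalar_one hd h3
  have h8 : t = 1 := Subtype.ext (Subtype.ext (Prod.ext h5 h7))
  rw [h8, orderOf_one] at ht
  exact hp.out.one_lt.ne ht

theorem not_dvd_P8 [hp : Fact p.Prime] (hG : Good (plusForm 4 F)) (hF : Nat.card F = p ^ a) (ha : 1 ≤ a) :
    ¬ p ^ (12 * a + 1) ∣ Nat.card (P8 F) := by
  intro h
  have h1 : Nat.card (P8 F) = Nat.card (POmega F (quadFormPlus 4 F)) := by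
    rw [← Nat.card_congr (pe hG).toEquiv, coe_plusForm 4]
  rw [h1] at h
  rw [Nat.card_eq_fintype_card] at hF
  have h2 := S0293.result (F := F) hF 4 (by norm_num)
  have h3 : p ^ (12 * a + 1) ∣ (p ^ a) ^ (4 * (4 - 1)) *
      (((p ^ a) ^ 4 - 1) * ∏ i ∈ Finset.range (4 - 1), ((p ^ a) ^ (2 * (i + 1)) - 1)) := by
    rw [← mul_assoc, ← h2]
    exact h.mul_left _
  have h4 : p ^ (12 * a + 1) = (p ^ a) ^ (4 * (4 - 1)) * p := by
    rw [pow_succ, ← pow_mul]
    congr 2
    ring
  rw [h4] at h3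
  have h5 := (Nat.mul_dvd_mul_iff_left (Nat.pow_pos (Nat.pow_pos hp.out.pos))).1 h3
  have key : ∀ k : ℕ, 0 < k → ¬ p ∣ (p ^ a) ^ k - 1 := by
    intro k hk hdv
    have h6 : p ∣ (p ^ a) ^ k := dvd_pow (dvd_pow_self p (by omega)) (by omega)
    have h7 : 1 ≤ (p ^ a) ^ k := Nat.one_le_pow _ _ (Nat.pow_pos hp.out.pos)
    have h8 : p ∣ 1 := by
      have := Nat.dvd_sub h6 hdv
      rwa [Nat.sub_sub_self h7] at this
    exact hp.out.one_lt.ne' (Nat.dvd_one.1 h8)
  rcases hp.out.dvd_mul.1 h5 with h6 | h6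
  · exact key 4 (by norm_num) h6
  · obtain ⟨i, -, hi⟩ := (hp.out.prime.dvd_finsetProd_iff _).1 h6
    exact key (2 * (i + 1)) (by omega) hi

/-- **the count** -/
theorem core [hp : Fact p.Prime] [CharP F p] (hG : Good (plusForm 4 F)) (hF : Nat.card F = p ^ a) (ha : 1 ≤ a)
    {R : Subgroup (P8 F)}
    (h1 : ∀ g : ↥(E (plusForm 4 F)), (g : P8 F) ∈ R → ∃ e : F, (g : V8 F ≃ₗ[F] V8 F) (one8 F) = e • one8 F)
    {w : V8 F} (hw : plusForm 4 F w ≠ 0)
    (h2 : ∀ g g₁ : ↥(E (plusForm 4 F)), (g : P8 F) ∈ R → tau hG (g : P8 F) = (g₁ : P8 F) →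
      ∃ e : F, (g₁ : V8 F ≃ₗ[F] V8 F) w = e • w) : ¬ p ^ (6 * a + 1) ∣ Nat.card R := by
  intro hd
  have hd1 : p ^ (6 * a + 1) ∣ Nat.card (R.comap (piX F)) :=
    hd.trans (Subgroup.card_dvd_of_surjective ((piX F).subgroupComap R)
      (MonoidHom.subgroupComap_surjective_of_surjective _ _ (piX_surj hG)))
  obtain ⟨K, hK⟩ := Sylow.exists_subgroup_card_pow_prime p hd1
  have hle : K.map (R.comap (piX F)).subtype ≤ S0 w := by
    rintro _ ⟨d, hdK, rfl⟩
    have e1 : d ^ p ^ (6 * a + 1) = 1 := by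
      have := pow_card_eq_one' (x := (⟨d, hdK⟩ : K))
      simp only [hK] at this
      exact congrArg Subtype.val this
    have e2 : (d : Xh F) ^ p ^ (6 * a + 1) = 1 := by rw [← Subgroup.coe_pow, e1, Subgroup.coe_one]
    have e3 : d.1.1.1 ^ p ^ (6 * a + 1) = 1 := congrArg (fun x : Xh F => x.1.1) e2
    have e4 : d.1.1.2 ^ p ^ (6 * a + 1) = 1 := congrArg (fun x : Xh F => x.1.2) e2
    have e5 : ((⟨d.1.1.1, d.1.2.1⟩ : ↥(E (plusForm 4 F))) : P8 F) ∈ R := d.2
    (have h_ob := h1 _ e5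
     revert h_ob; rintro (⟨e, he⟩))
    (have h_ob := exists_triple hG d.1.2.1
     revert h_ob; rintro (⟨g₁, g₂, ht⟩))
    (have h_ob := h2 _ ⟨g₁, ht.1.2.1⟩ e5 (tau_mk hG ht)
     revert h_ob; rintro (⟨e', he'⟩))
    (have h_ob := d.1.2.2.2
     revert h_ob; rintro (⟨g₂', h6⟩))
    (have h_ob := ht.2.unique h6
     revert h_ob; rintro (⟨s, -, hs, -⟩))
    have e6 : d.1.1.2 w = (s * e') • w := by
      rw [hs, mul_smul]
      congr 1
    exact ⟨fix_of_pow he one8_ne e3, fix_of_pow e6 (ne_zero_of_norm hw rfl) e4⟩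
  have hd2 : p ^ (6 * a + 1) ∣ Nat.card (S0 w) := by
    have h3 := Subgroup.card_dvd_of_le hle
    rwa [Subgroup.card_map_of_injective (Subgroup.subtype_injective _), hK] at h3
  have hq : Fintype.card F = p ^ a := by rw [← Nat.card_eq_fintype_card, hF]
  have hd3 : p ^ (12 * a + 1) ∣ Nat.card (Xh F) := by
    have h4 := card_norm (F := F) (c := 1) one_ne_zero
    have h5 := card_norm (F := F) hw
    rw [card_Xh hG hw]
    have h6 : p ^ (12 * a + 1) = Fintype.card F ^ 3 * Fintype.card F ^ 3 * p ^ (6 * a + 1) := by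
      rw [hq]
      ring
    rw [h6]
    exact Nat.mul_dvd_mul (Nat.mul_dvd_mul h4 h5) hd2
  have h7 : Nat.card (Xh F) = Nat.card (P8 F) * Nat.card (piX F).ker := by
    simp only [← Subgroup.card_mul_index (piX F).ker, Subgroup.index_ker (piX F), MonoidHom.range_eq_top.2 (piX_surj hG), Subgroup.card_top,       mul_comm (Nat.card ↥(piX F).ker) (Nat.card (P8 F))]
  rw [h7] at hd3
  refine not_dvd_P8 hG hF ha (Nat.Coprime.dvd_of_dvd_mul_right ?_ hd3)
  exact (Nat.Prime.coprime_iff_not_dvd hp.out).2 (not_dvd_ker hG) |>.pow_left _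

end fin

end Cfsg.Agent.H679.O8R
end

-- part: H679/O8R/Three
section
/-!
# S3691, `PΩ⁺₈(q)`: box THREE (helper679)

`three` : a subgroup of `PΩ⁺₈(q)`, `q = p^a`, all of whose images under automorphisms fix a nonsingular point has order not divisible
by `p^(6a+2)` (even `p^(6a+1)`, `three'`).
-/

set_option autoImplicit false
set_option linter.unusedSectionVars false

namespace Cfsg.Agent.H679.O8R

open Module QuadraticMap Cfsg Cfsg.Geo Cfsg.Agent.LieClassical.OrthCore Cfsg.Agent.LieClassical.OrthTrans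
  Cfsg.Agent.LieClassical.OrthSimple Cfsg.Agent.ClassicalGeometry.OrthAut1
  Cfsg.Agent.ClassicalGeometry.OrthSemi Cfsg.Agent.H198.Classes
  Cfsg.Agent.LieClassical.QuadForms Cfsg.Agent.H198.ClassesPlus
  Cfsg.Agent.ClassicalGeometry.TrialityOct Cfsg.Agent.ClassicalGeometry.Triality
  Cfsg.Agent.ClassicalGeometry.TrialitySpaces Cfsg.Agent.H198.TriBase Cfsg.Agent.H198.TriAut
open Cfsg.Agent.H884.El Cfsg.Agent.H955 Cfsg.Agent.H954.TSing
open Cfsg.Agent.H708.O8 (I8 T8 RB)
open Cfsg.Agent.H436 (Prim)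
open Cfsg.Agent.H823.O8S Cfsg.Agent.H823.O8R
open Cfsg.Agent.AutOrth.Main (oe pe oe_apply pe_mk)
open Cfsg.Agent.H708.Rg (oe_lin toPO toPO_mk)
open scoped MatrixGroups Matrix

section gen

variable {F : Type} [Field F] [Fintype F] {p a : ℕ} {Q : QuadraticForm F (Fin 4 ⊕ Fin 4 → F)}

theorem eig_of_SW {g : GL I8 F} {w : I8 → F} (h : g ∈ SW (Submodule.span F {w})) : ∃ e : F, lin g w = e • w := by
  have h1 : (Submodule.span F {w}).map (lin g) = Submodule.span F {w} := h
  have h2 : lin g w ∈ Submodule.span F {w} := by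
    rw [← h1]
    exact ⟨w, Submodule.mem_span_singleton_self w, rfl⟩
  obtain ⟨e, he⟩ := Submodule.mem_span_singleton.1 h2
  exact ⟨e, he.symm⟩

theorem three_gen [hp : Fact p.Prime] [CharP F p] (hQ : Q = plusForm 4 F) (hG : Good Q) (hF : Nat.card F = p ^ a)
    (ha : 1 ≤ a) {R : Subgroup (POmega F ⇑Q)}
    (hV : ∀ α : MulAut (POmega F ⇑Q), ∃ w : I8 → F, Q w ≠ 0 ∧
      pre ⇑Q (R.map α.toMonoidHom) ≤ SW (Submodule.span F {w})) : ¬ p ^ (6 * a + 1) ∣ Nat.card R := by
  subst hQ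
  obtain ⟨w, hw, hR1⟩ := hV 1
  have hwc : plusForm 4 F (oconj w) ≠ 0 := by rwa [norm_oconj]
  set! M' : G8 F := lG (oconj w) hwc with hM'
  have hM1 : M'.1 w = plusForm 4 F w • one8 F := by
    rw [hM', lG_apply]
    have := oconj_omul_omul w (one8 F)
    rwa [omul_one] at this
  have hM2 : ∀ (e : F) (v : V8 F), M'.1 (e • v) = e • M'.1 v := fun e v => omul_smul e (oconj w) v
  (have h_ob := hV (toPO hG (tau hG * Psi _ M'))
   revert h_ob; rintro (⟨w', hw', hR2⟩))
  set! f : POmega F ⇑(plusForm 4 F) ≃* P8 F := (_root_.Cfsg.Agent.AutOrth.Main.pe hG).trans (Psi _ M') with hf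
  have hcard : Nat.card (R.map f.toMonoidHom) = Nat.card R := Subgroup.card_map_of_injective f.injective
  rw [← hcard]
  have hf1 : ∀ x : Omega F ⇑(plusForm 4 F), f (QuotientGroup.mk x) = QuotientGroup.mk (conjE _ M' (oe hG x)) := fun x => by
    (rewrite [hf]; (conv => enter [@2]; rw [MulEquiv.trans_apply]); (conv => enter [@2, @6]; rw [pe_mk]))
    rfl
  refine core hG hF ha ?_ hw' ?_
  · rintro g ⟨x', hx', hxg⟩
    obtain ⟨x, rfl⟩ := QuotientGroup.mk_surjective x'
    have e1 : f (QuotientGroup.mk x) = (g : P8 F) := hxg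
    rw [hf1] at e1
    have e2 := QuotientGroup.eq.1 e1
    obtain ⟨c, hc⟩ := center_scalar hG e2
    have hxR : ((x : isometryGroup F ⇑(plusForm 4 F)) : GL I8 F) ∈ pre ⇑(plusForm 4 F)
        (R.map ((1 : MulAut (POmega F ⇑(plusForm 4 F))).toMonoidHom)) :=
      ⟨_, ⟨x, ⟨_, hx', rfl⟩, rfl⟩, rfl⟩
    obtain ⟨e, he⟩ := eig_of_SW (hR1 hxR)
    rw [← oe_lin hG] at he
    have e3 : (conjE _ M' (oe hG x) : V8 F ≃ₗ[F] V8 F) (one8 F) = e • one8 F := by
      have h1 : (conjE _ M' (oe hG x) : V8 F ≃ₗ[F] V8 F) (M'.1 w) = M'.1 ((oe hG x : V8 F ≃ₗ[F] V8 F) w) := by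
        rw [coe_conjE, conjLin_apply']
      ((conv at h1 => enter [@3, @6]; rw [he]); (conv at h1 => enter [@3]; rw [hM2]); (conv at h1 => enter [@2, @6]; rw [hM1]); (conv at h1 => enter [@3, @6]; rw [hM1]); rewrite [map_smul] at h1; (conv at h1 => enter [@3]; rw [smul_comm]))
      exact smul_right_injective _ hw h1
    refine ⟨c * e, ?_⟩
    have e4 := congrArg (conjE _ M' (oe hG x) : V8 F ≃ₗ[F] V8 F) (hc (one8 F))
    ((conv at e4 => enter [@3]; rw [map_smul]); (conv at e4 => enter [@3, @6]; rw [e3]); (conv at e4 => enter [@3]; rw [smul_smul]))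
    rw [← e4]
    change _ = ((conjE _ M' (oe hG x) : V8 F ≃ₗ[F] V8 F) * ((conjE _ M' (oe hG x) : V8 F ≃ₗ[F] V8 F)⁻¹ * (g : V8 F ≃ₗ[F] V8 F))) _
    rw [mul_inv_cancel_left]
  · rintro g g₁ ⟨x', hx', hxg⟩ hg₁
    obtain ⟨x, rfl⟩ := QuotientGroup.mk_surjective x'
    have e1 : f (QuotientGroup.mk x) = (g : P8 F) := hxg
    set! y : Omega F ⇑(plusForm 4 F) := (oe hG).symm g₁ with hy
    have hoy : oe hG y = g₁ := (oe hG).apply_symm_apply g₁
    have hyR : ((y : isometryGroup F ⇑(plusForm 4 F)) : GL I8 F) ∈ pre ⇑(plusForm 4 F)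
        (R.map ((toPO hG (tau hG * Psi _ M')).toMonoidHom)) := by
      refine ⟨_, ⟨y, ⟨_, hx', ?_⟩, rfl⟩, rfl⟩
      change toPO hG (tau hG * Psi _ M') (QuotientGroup.mk x) = QuotientGroup.mk y
      apply toPO_mk
      ((conv => enter [@2]; rw [MulAut.mul_apply]); (conv => enter [@3, @4]; rw [hoy]); (conv => enter [@3]; rw [← hg₁]); (conv => enter [@3, @6]; rw [← e1]); (conv => enter [@3, @6]; rw [hf1]))
      rfl
    obtain ⟨e, he⟩ := eig_of_SW (hR2 hyR)
    rw [← oe_lin hG, hoy] at he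
    exact ⟨e, he⟩

end gen

section row

variable {F : Type} [Field F] [Fintype F] {p a r b s k t : ℕ} {R : Subgroup (T8 F)}

seal _root_.Finset.sum in
/-- **THREE**, sharp form -/
theorem three' (hF : Nat.card F = p ^ a) (hp : p.Prime) (ha : 1 ≤ a)
    (hV : ∀ α : MulAut (T8 F), FixV (R.map α.toMonoidHom)) : ¬ p ^ (6 * a + 1) ∣ Nat.card R := by
  have := Fact.mk hp
  have hch : CharP F p := charP_of_card_eq_prime_pow (p := p) (f := a) (by rw [← hF, Nat.card_eq_fintype_card])
  exact three_gen (H198.Carriers.plusQ_eq 4 F) (H198.Carriers.good_plusQ (by norm_num)) hF ha (fun α => hV (α :))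

/-- **THREE** -/
theorem three (hF : Nat.card F = p ^ a) (h : Nm p a r b s k t)
    (hV : ∀ α : MulAut (T8 F), FixV (R.map α.toMonoidHom)) : ¬ p ^ (6 * a + 2) ∣ Nat.card R := fun hd =>
  three' hF h.rb.hp h.rb.ha hV ((pow_dvd_pow p (by omega)).trans hd)

end row

end Cfsg.Agent.H679.O8R
end
end

-- part: H886/O8R/OrdV
section
set_option linter.all false
open scoped Cfsg.Agent.FastGrp

/-!
# S3691-O8R, box ORD-V: `sieg_of_order` (helper886)

A subgroup `R` of `PΩ₈⁺(q)` which fixes a nonsingular point `⟨w⟩` and has a subgroup isomorphic to `PSp₆(q)` or `PΩ₇(q)`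
contains the Siegel transformations of `w^⊥`.
-/

set_option autoImplicit false
set_option linter.unusedSectionVars false

namespace Cfsg.Agent.H886.O8R

open Module QuadraticMap Cfsg Cfsg.Geo Cfsg.Agent.LieClassical.OrthCore Cfsg.Agent.H955 Cfsg.Agent.H954.TSing
open Cfsg.Agent.LieClassical.OmegaReindex Cfsg.Agent.OrdDiv Cfsg.Agent.H436
open Cfsg.Agent.H951 (fx cm Inv)
open Cfsg.Agent.H884.El
open Cfsg.Agent.H708.O8 (I8 T8 RB)
open Cfsg.Agent.H823.O8S Cfsg.Agent.H823.O8R
open scoped MatrixGroups Matrix Pointwise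

variable {F : Type} [Field F] [Fintype F] {p a r b s k t : ℕ} {R : Subgroup (T8 F)}

/-- the elements over `R` fix `w` up to sign -/
theorem fix_of_pre {w : I8 → F} (hw : quadFormPlus 4 F w ≠ 0)
    (hR : pre (quadFormPlus 4 F) R ≤ SW (Submodule.span F {w})) {x : Omega F (quadFormPlus 4 F)}
    (hx : mkT F x ∈ R) : om F x w = w ∨ om F x w = -w := by
  have h1 : ((x : isometryGroup F (quadFormPlus 4 F)) : GL I8 F) ∈ SW (Submodule.span F {w}) := hR (mem_pre.2 hx)
  rw [mem_SW] at h1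
  have h2 : om F x w ∈ Submodule.span F {w} := by
    have h3 : lin ((x : isometryGroup F (quadFormPlus 4 F)) : GL I8 F) w ∈
        (Submodule.span F {w}).map (lin ((x : isometryGroup F (quadFormPlus 4 F)) : GL I8 F)) :=
      Submodule.mem_map_of_mem (Submodule.mem_span_singleton_self w)
    rw [h1] at h3
    exact h3
  obtain ⟨c, hc⟩ := Submodule.mem_span_singleton.1 h2
  have h3 := Q_om x w
  rw [← hc, ← coe_QF, QuadraticMap.map_smul, smul_eq_mul, coe_QF] at h3
  have h4 : c * c = 1 := mul_right_cancel₀ hw (by rw [h3, one_mul])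
  rcases mul_self_eq_one_iff.1 h4 with h5 | h5
  · left
    rw [← hc, h5, one_smul]
  · right
    rw [← hc, h5, neg_one_smul]

/-- **(ORD-V)** -/
theorem sieg_of_order (hF : Nat.card F = p ^ a) (h : Nm p a r b s k t) {w : I8 → F} (hw : quadFormPlus 4 F w ≠ 0)
    (hR : pre (quadFormPlus 4 F) R ≤ SW (Submodule.span F {w})) (S : Subgroup R)
    (hK : (∃ (K : Type) (_ : Field K) (_ : Fintype K), Fintype.card K = p ^ a ∧ Nonempty (S ≃* PSp 3 K)) ∨
      (p ≠ 2 ∧ ∃ (K : Type) (_ : Field K) (_ : Fintype K), Fintype.card K = p ^ a ∧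
        Nonempty (S ≃* POmega K (quadFormOdd 3 K)))) : HasSieg R (Submodule.span F {w}) := by
  have hFc : Fintype.card F = p ^ a := by rw [← Nat.card_eq_fintype_card]; exact hF
  -- the order of `S`
  have hS : Nat.gcd 2 (Fintype.card F - 1) * Nat.card (POmega F (quadFormPlus 4 F)) =
      (Fintype.card F ^ 7 - Fintype.card F ^ 3) * Nat.card S := by
    rcases hK with ⟨K, i1, i2, hK, ⟨e⟩⟩ | ⟨hp2, K, i1, i2, hK, ⟨e⟩⟩
    · rw [card_rel (F := F) (K := K) (hK.trans hFc.symm), Nat.card_congr e.toEquiv]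
    · rw [card_rel (F := F) (K := K) (hK.trans hFc.symm), Nat.card_congr e.toEquiv]
      congr 1
      have ho : Odd (Fintype.card K) := by
        rw [hK]
        exact (h.rb.hp.odd_of_ne_two hp2).pow
      have h1 := psp_eq (F := K) (m := 3) (by norm_num)
      have h2 := oodd_eq (F := K) (m := 3) le_rfl ho
      change Nat.gcd 2 (Fintype.card K - 1) * Nat.card (PSp 3 K) = Fintype.card K ^ (3 ^ 2) * prB (Fintype.card K) 3 at h1
      change 2 * Nat.card (POmega K (quadFormOdd 3 K)) = Fintype.card K ^ (3 ^ 2) * prB (Fintype.card K) 3 at h2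
      have h3 : Nat.gcd 2 (Fintype.card K - 1) = 2 := by
        obtain ⟨k, hk⟩ := ho
        exact Nat.gcd_eq_left (by omega)
      rw [h3, ← h2] at h1
      omega
  intro u v hu hv h1 h2
  have h3 : polar (QF F) u w = 0 := h1 w (Submodule.mem_span_singleton_self w)
  have h4 : polar (QF F) v w = 0 := h2 w (Submodule.mem_span_singleton_self w)
  obtain ⟨x, hx⟩ := exists_omega (siegel_mem_E (Q := QF F) hu hv)
  have h5 : om F x w = w := by
    rw [hx, siegel_apply, h3, h4]
    simp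
  have h6 := mem_of_card (R := R) hw (fun y hy => fix_of_pre hw hR hy)
    (hS.le.trans (Nat.mul_le_mul_left _ (Nat.le_of_dvd Nat.card_pos (Subgroup.card_subgroup_dvd_card S)))) h5
  have h7 : (LieClassical.OrthFinite.glEquiv I8 F).symm (siegel (QF F) u v hu hv) =
      ((x : isometryGroup F (quadFormPlus 4 F)) : GL I8 F) := by
    rw [MulEquiv.symm_apply_eq]
    exact hx.symm
  rw [h7]
  exact mem_pre.2 h6

end Cfsg.Agent.H886.O8R
end

-- part: H708/Rg/TriJ
section
prune_inst 0x2130240468c00000000005103000006010000002004004008461014208490842890400010a300011408288102000004001000010420000000a2008000005000000011606b00ca008200090800000000000000000000000000000000000000000000000000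
set_option linter.all false
open scoped Cfsg.Agent.FastGrp

/-!
# S3691, `PΩ⁺₈(q)`: box TRI-J (helper708)

`tri_J` : a subgroup normalising a field `F[J]` of similitudes of order `q²` has a triality image which fixes an anisotropic plane.
-/

set_option autoImplicit false
set_option linter.unusedSectionVars false

namespace Cfsg.Agent.H708.Rg

open Module QuadraticMap Cfsg Cfsg.Geo Cfsg.Agent.LieClassical.OrthCore Cfsg.Agent.LieClassical.OrthTrans
  Cfsg.Agent.LieClassical.OrthSimple Cfsg.Agent.ClassicalGeometry.OrthAut1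
  Cfsg.Agent.ClassicalGeometry.OrthSemi Cfsg.Agent.H198.Classes
  Cfsg.Agent.LieClassical.QuadForms Cfsg.Agent.H198.ClassesPlus
  Cfsg.Agent.ClassicalGeometry.TrialityOct Cfsg.Agent.ClassicalGeometry.Triality
  Cfsg.Agent.ClassicalGeometry.TrialitySpaces Cfsg.Agent.H198.TriBase Cfsg.Agent.H198.TriAut
open Cfsg.Agent.H884.El Cfsg.Agent.H955 Cfsg.Agent.H954.TSing
open Cfsg.Agent.H951 (fx cm Inv)
open Cfsg.Agent.H708.O8 (I8 T8 RB)
open Cfsg.Agent.H436 (Prim)
open Cfsg.Agent.H823.O8S Cfsg.Agent.H823.O8R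
open Cfsg.Agent.AutOrth.Main (oe pe oe_apply pe_mk)
open scoped MatrixGroups Matrix

section quad

variable {F : Type*} [Field F]

theorem quad_zero {c d : F} (irr : ∀ z : F, z * z - c * z + d ≠ 0) {x y : F}
    (h : x * x + c * (x * y) + d * (y * y) = 0) : x = 0 ∧ y = 0 := by
  by_cases hx : x = 0
  · subst hx
    refine ⟨rfl, ?_⟩
    by_contra hy
    have hd : d ≠ 0 := by
      intro hd
      apply irr 0
      rw [hd]
      ring
    have h1 : d * (y * y) = 0 := by linear_combination h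
    exact (mul_ne_zero hd (mul_ne_zero hy hy)) h1
  · exfalso
    by_cases hy : y = 0
    · subst hy
      have h1 : x * x = 0 := by linear_combination h
      exact (mul_ne_zero hx hx) h1
    · apply irr (-(x / y))
      field_simp
      linear_combination h

theorem norm_Wa {c d : F} (x y : F) : plusForm 4 F (x • one8 F + y • aJ c d) = x * x + c * (x * y) + d * (y * y) := by
  rw [Q_add, QuadraticMap.map_smul, QuadraticMap.map_smul, norm_one8, norm_aJ, polar_smul_left, polar_smul_right,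
    trace_aJ]
  simp only [smul_eq_mul]
  ring

theorem li_aJ {c d : F} (irr : ∀ z : F, z * z - c * z + d ≠ 0) : LinearIndependent F ![one8 F, aJ c d] := by
  rw [LinearIndependent.pair_iff]
  intro s t hst
  apply quad_zero irr
  rw [← norm_Wa, hst, QuadraticMap.map_zero]

theorem aniso_Wa {c d : F} (irr : ∀ z : F, z * z - c * z + d ≠ 0) : ∀ w ∈ Wa (aJ c d), plusForm 4 F w = 0 → w = 0 := by
  intro w hw h0
  obtain ⟨s, t, rfl⟩ := Submodule.mem_span_pair.1 hw
  rw [norm_Wa] at h0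
  obtain ⟨rfl, rfl⟩ := quad_zero irr h0
  simp

theorem oconj_aJ (c d : F) : oconj (aJ c d) = c • one8 F - aJ c d := by
  rw [oconj_eq, trace_aJ]

theorem li_conj {c d : F} (irr : ∀ z : F, z * z - c * z + d ≠ 0) : LinearIndependent F ![one8 F, oconj (aJ c d)] := by
  rw [LinearIndependent.pair_iff]
  intro s t hst
  rw [oconj_aJ] at hst
  obtain ⟨h1, h2⟩ := LinearIndependent.pair_iff.1 ((li_aJ irr :)) (s + t * c) (-t) (by
    rw [← hst]
    module)
  have h3 : t = 0 := neg_eq_zero.1 h2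
  rw [h3, zero_mul, add_zero] at h1
  exact ⟨h1, h3⟩

theorem Wa_conj (c d : F) : Wa (oconj (aJ c d)) = Wa (aJ c d) := by
  apply le_antisymm
  · refine Submodule.span_le.2 ?_
    rintro w (rfl | rfl)
    · exact one_mem_Wa _
    · rw [oconj_aJ]
      exact Submodule.sub_mem _ (Submodule.smul_mem _ _ (one_mem_Wa _)) (self_mem_Wa _)
  · refine Submodule.span_le.2 ?_
    rintro w (rfl | rfl)
    · exact one_mem_Wa _
    · have : aJ c d = c • one8 F - oconj (aJ c d) := by
        rw [oconj_aJ]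
        abel
      rw [this]
      refine Submodule.sub_mem _ (Submodule.smul_mem _ _ (one_mem_Wa _)) ?_
      rw [← this]
      exact self_mem_Wa _

theorem omul_conj (c d : F) (v : V8 F) : omul (oconj (aJ c d)) v = c • v - omul (aJ c d) v := by
  have h2 : omul (-aJ c d) v = -omul (aJ c d) v := by
    have := smul_omul (-1) (aJ c d) v
    rwa [neg_one_smul, neg_one_smul] at this
  rw [oconj_aJ, sub_eq_add_neg, add_omul, smul_omul, one_omul, h2, sub_eq_add_neg]

/-- `g₁` preserves `⟨1, a⟩` -/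
theorem map_Wa {c d : F} (irr : ∀ z : F, z * z - c * z + d ≠ 0) {g g₁ g₂ : V8 F ≃ₗ[F] V8 F} (h : Tri g g₁ g₂)
    (hg₁ : g₁ ∈ O (plusForm 4 F))
    (hg : (∀ v, g (omul (aJ c d) v) = omul (aJ c d) (g v)) ∨
      ∀ v, g (omul (aJ c d) v) = c • g v - omul (aJ c d) (g v)) :
    ∀ w ∈ Wa (aJ c d), g₁ w ∈ Wa (aJ c d) := by
  have hd : d ≠ 0 := by
    intro hd
    apply irr 0
    rw [hd]
    ring
  have ha : plusForm 4 F (aJ c d) ≠ 0 := by rwa [norm_aJ]
  have h1 : ∀ x ∈ perp (plusForm 4 F) (Wa (aJ c d)), g₁ x ∈ perp (plusForm 4 F) (Wa (aJ c d)) := by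
    rcases hg with hg | hg
    · exact map_perp ha rfl (li_aJ irr) (li_aJ irr) h hg
    · have h2 := map_perp ha (norm_oconj _) (li_aJ irr) (li_conj irr) h (fun v => by rw [hg, omul_conj])
      rwa [Wa_conj] at h2
  have h2 : (perp (plusForm 4 F) (Wa (aJ c d))).map (g₁ : V8 F →ₗ[F] V8 F) = perp (plusForm 4 F) (Wa (aJ c d)) := by
    refine Submodule.eq_of_le_of_finrank_eq ?_ (LinearEquiv.finrank_map_eq g₁ _)
    rintro _ ⟨x, hx, rfl⟩
    exact h1 x hx
  intro w hw
  rw [← perp_perp ClassicalGeometry.Triality.nondeg8 (Wa (aJ c d)), mem_perp]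
  intro z hz
  rw [← h2] at hz
  obtain ⟨x, hx, rfl⟩ := hz
  change polar (plusForm 4 F) (g₁ x) (g₁ w) = 0
  rw [polar_map hg₁, polar_comm]
  exact hx w hw

end quad

section gen

variable {F : Type} [Field F] [Fintype F] {Q : QuadraticForm F (Fin 4 ⊕ Fin 4 → F)}

theorem triJ_gen (hQ : Q = plusForm 4 F) (hG : Good Q) {R : Subgroup (POmega F ⇑Q)} {J : V8 F →ₗ[F] V8 F} {c d : F}
    (h : FJ Q J c d) (hR : ∀ g : GL I8 F, g ∈ pre ⇑Q R → (∀ v, lin g (J v) = J (lin g v)) ∨
      (∀ v, lin g (J v) = c • lin g v - J (lin g v))) :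
    ∃ (α : MulAut (POmega F ⇑Q)) (W : Submodule F (I8 → F)), finrank F W = 2 ∧ (∀ w ∈ W, Q w = 0 → w = 0) ∧
      pre ⇑Q (R.map α.toMonoidHom) ≤ SW W := by
  subst hQ
  have hd8 : finrank F (V8 F) = 2 * 4 := by
    rw [finrank_fintype_fun_eq_card]
    simp
  obtain ⟨M, hM1, hM2⟩ := exists_isometry ClassicalGeometry.Triality.nondeg8 h (fj_lmul h.irr) hd8
  set M' : G8 F := gamO _ ⟨M, hM1⟩ with hM'
  have hM3 : ∀ v, M (J v) = omul (aJ c d) (M v) := hM2
  refine ⟨toPO hG (tau hG * Psi _ M'), Wa (aJ c d), finrank_Wa (li_aJ h.irr), aniso_Wa h.irr, ?_⟩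
  rintro _ ⟨_, ⟨x, hx, rfl⟩, rfl⟩
  obtain ⟨z, hz, hzx⟩ := hx
  obtain ⟨g, rfl⟩ := QuotientGroup.mk_surjective z
  have hzx' : toPO hG (tau hG * Psi _ M') (QuotientGroup.mk g) = QuotientGroup.mk x := hzx
  have hgR := hR ((g : isometryGroup F ⇑(plusForm 4 F)) : GL I8 F) ⟨_, ⟨g, hz, rfl⟩, rfl⟩
  have e1 : (tau hG * Psi _ M') ((oe hG g : ↥(E (plusForm 4 F))) : P8 F) = ((oe hG x : ↥(E (plusForm 4 F))) : P8 F) := by
    have e2 : (_root_.Cfsg.Agent.AutOrth.Main.pe hG).symm ((tau hG * Psi _ M') ((_root_.Cfsg.Agent.AutOrth.Main.pe hG) (QuotientGroup.mk g))) = QuotientGroup.mk x := hzx'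
    rw [MulEquiv.symm_apply_eq, pe_mk, pe_mk] at e2
    exact e2
  rw [MulAut.mul_apply, Psi_mk] at e1
  set g' : ↥(E (plusForm 4 F)) := conjE _ M' (oe hG g) with hg'
  have hg'M : ∀ v, (g' : V8 F ≃ₗ[F] V8 F) (M v) = M (lin ((g : isometryGroup F ⇑(plusForm 4 F)) : GL I8 F) v) := by
    intro v
    have h1 : (g' : V8 F ≃ₗ[F] V8 F) (M'.1 v) = M'.1 ((oe hG g : V8 F ≃ₗ[F] V8 F) v) := by
      rw [hg', coe_conjE, conjLin_apply']
    rw [oe_lin] at h1
    exact h1
  have hcase : (∀ v, (g' : V8 F ≃ₗ[F] V8 F) (omul (aJ c d) v) = omul (aJ c d) ((g' : V8 F ≃ₗ[F] V8 F) v)) ∨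
      ∀ v, (g' : V8 F ≃ₗ[F] V8 F) (omul (aJ c d) v) =
        c • (g' : V8 F ≃ₗ[F] V8 F) v - omul (aJ c d) ((g' : V8 F ≃ₗ[F] V8 F) v) := by
    rcases hgR with h1 | h1
    · left
      intro v
      obtain ⟨v, rfl⟩ := M.surjective v
      rw [← hM3, hg'M, h1, hM3, hg'M]
    · right
      intro v
      obtain ⟨v, rfl⟩ := M.surjective v
      rw [← hM3, hg'M, h1, map_sub, map_smul, hM3, hg'M]
  obtain ⟨g₁, g₂, ht⟩ := exists_triple hG g'.2
  rw [tau_mk hG (g₁ := ⟨g₁, ht.1.2.1⟩) ht] at e1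
  have h2 := QuotientGroup.eq.1 e1
  obtain ⟨e, he⟩ := center_scalar hG h2
  have h3 : ∀ v, (oe hG x : V8 F ≃ₗ[F] V8 F) v = e • g₁ v := by
    intro v
    have h4 := congrArg g₁ (he v)
    rw [map_smul] at h4
    have h5 : g₁ (((((⟨g₁, ht.1.2.1⟩ : ↥(E (plusForm 4 F)))⁻¹ * oe hG x : ↥(E (plusForm 4 F)))) : V8 F ≃ₗ[F] V8 F) v) =
        (oe hG x : V8 F ≃ₗ[F] V8 F) v := by
      change (g₁ * (g₁⁻¹ * (oe hG x : V8 F ≃ₗ[F] V8 F))) v = _
      rw [mul_inv_cancel_left]
    rw [h5] at h4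
    exact h4
  have h6 := map_Wa h.irr ht.2 (E_le_O ht.1.2.1) hcase
  have h7 : (Wa (aJ c d)).map (lin ((x : isometryGroup F ⇑(plusForm 4 F)) : GL I8 F)) =
      (Wa (aJ c d)).map ((oe hG x : V8 F ≃ₗ[F] V8 F) : V8 F →ₗ[F] V8 F) := by
    have h8 : lin ((x : isometryGroup F ⇑(plusForm 4 F)) : GL I8 F) =
        ((oe hG x : V8 F ≃ₗ[F] V8 F) : V8 F →ₗ[F] V8 F) := LinearMap.ext fun v => (oe_lin hG x v).symm
    rw [h8]
  change (Wa (aJ c d)).map (lin ((x : isometryGroup F ⇑(plusForm 4 F)) : GL I8 F)) = Wa (aJ c d)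
  rw [h7]
  refine Submodule.eq_of_le_of_finrank_eq ?_ (LinearEquiv.finrank_map_eq (oe hG x : V8 F ≃ₗ[F] V8 F) _)
  rintro _ ⟨w, hw, rfl⟩
  change (oe hG x : V8 F ≃ₗ[F] V8 F) w ∈ _
  rw [h3]
  exact Submodule.smul_mem _ _ (h6 w hw)

end gen

section row

variable {F : Type} [Field F] [Fintype F] {p a : ℕ} {R : Subgroup (T8 F)}

/-- **TRI-J** -/
theorem tri_J (_hF : Nat.card F = p ^ a) (h : FixJ R) : ∃ α : MulAut (T8 F), FixP (R.map α.toMonoidHom) := by
  obtain ⟨J, c, d, hJ, hR⟩ := h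
  have h1 : FJ (H198.Carriers.plusQ 4 F) J c d := ⟨fun v => by
    have := congrArg (fun f : Module.End F (I8 → F) => f v) hJ.sq
    exact this, hJ.irr, hJ.sim⟩
  obtain ⟨α, W, h2, h3, h4⟩ := triJ_gen (H198.Carriers.plusQ_eq 4 F) (H198.Carriers.good_plusQ (by norm_num)) h1
    (R := R) (fun g hg => (hR hg :))
  exact ⟨α, W, h2, h3, h4⟩

end row

end Cfsg.Agent.H708.Rg
end

-- part: H708/Rg/RedTri
section
prune_inst 0x2120200438c002000000058231000060540000920043040045210942000128420900060112300011400080004000004000000010000000000020040000010000008016043000a10822009e000000000000000000000000000000000000000000000000000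
set_option linter.all false
open scoped Cfsg.Agent.FastGrp

-- part: H708/Rg/Uniq
section
/-!
# S3691, residual cases: the only invariant point / anisotropic plane (helper708)

* `mem_of_sing_perp` : `U` anisotropic: a vector perpendicular to the singular vectors of `U^⊥` lies in `U`
* `uniq` : `U` is the only subspace of its dimension invariant under the Siegel transformations with vectors of `U^⊥`
-/

set_option autoImplicit false

namespace Cfsg.Agent.H708.Rg

open Module QuadraticMap Cfsg.Agent.LieClassical.OrthCore Cfsg.Agent.LieClassical.OrthTrans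
  Cfsg.Agent.LieClassical.OrthFinite Cfsg.Agent.H955

variable {F V : Type*} [Field F] [AddCommGroup V] [Module F V] {Q : QuadraticForm F V}

theorem mem_of_sing_perp [Finite F] [FiniteDimensional F V] (hQ : Nondeg Q) {U : Submodule F V}
    (hU : ∀ w ∈ U, Q w = 0 → w = 0) (hd : finrank F U + 3 ≤ finrank F V) {x : V}
    (hx : ∀ u ∈ perp Q U, Q u = 0 → polar Q u x = 0) : x ∈ U := by
  have hdim := finrank_perp hQ U
  obtain ⟨z, hz, hz0, hQz⟩ := exists_sing_mem (Q := Q) (perp Q U) (by omega)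
  have h1 : ∃ y ∈ perp Q U, polar Q z y ≠ 0 := by
    by_contra hc
    push Not at hc
    apply hz0
    apply hU z ?_ hQz
    rw [← perp_perp hQ U, mem_perp']
    exact hc
  obtain ⟨y, hy, hzy⟩ := h1
  obtain ⟨y1, hy1U, hzy1⟩ : ∃ y1 ∈ perp Q U, polar Q z y1 = 1 :=
    ⟨(polar Q z y)⁻¹ • y, Submodule.smul_mem _ _ hy, by rw [polar_smul_right, smul_eq_mul, inv_mul_cancel₀ hzy]⟩
  set! b := y1 + (-Q y1) • z with hb
  have hbU : b ∈ perp Q U := Submodule.add_mem _ hy1U (Submodule.smul_mem _ _ hz)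
  have hzz : polar Q z z = 0 := polar_self_of_sing hQz
  have hzb : polar Q z b = 1 := by
    rw [hb, polar_add_right, polar_smul_right, hzz, hzy1, smul_zero, add_zero]
  have hQb : Q b = 0 := by
    rw [hb, Q_add, QuadraticMap.map_smul, hQz, polar_smul_right, polar_comm Q y1 z, hzy1, smul_zero, smul_eq_mul]
    ring
  have hbb : polar Q b b = 0 := polar_self_of_sing hQb
  rw [← perp_perp hQ U, mem_perp]
  intro w hw
  set! c := w - polar Q b w • z - polar Q z w • b with hc
  have hcU : c ∈ perp Q U := Submodule.sub_mem _ (Submodule.sub_mem _ hw (Submodule.smul_mem _ _ hz))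
    (Submodule.smul_mem _ _ hbU)
  have hcz : polar Q c z = 0 := by
    rw [hc, polar_sub_left, polar_sub_left, polar_smul_left, polar_smul_left, hzz, polar_comm Q b z, hzb,
      polar_comm Q w z]
    simp
  have hcb : polar Q c b = 0 := by
    rw [hc, polar_sub_left, polar_sub_left, polar_smul_left, polar_smul_left, hbb, hzb, polar_comm Q w b]
    simp
  have hu : c - Q c • z + b ∈ perp Q U := Submodule.add_mem _ (Submodule.sub_mem _ hcU (Submodule.smul_mem _ _ hz)) hbU
  have hQu : Q (c - Q c • z + b) = 0 := by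
    rw [sub_eq_add_neg, ← neg_smul, Q_add, Q_add, QuadraticMap.map_smul, hQz, hQb, polar_add_left, polar_smul_right,
      polar_smul_left, hcz, hcb, hzb]
    simp
  have h2 := hx _ hu hQu
  rw [polar_add_left, polar_sub_left, polar_smul_left, hx z hz hQz, hx b hbU hQb, smul_zero, sub_zero, add_zero] at h2
  have h3 : w = c + polar Q b w • z + polar Q z w • b := by rw [hc]; abel
  rw [h3, polar_add_left, polar_add_left, polar_smul_left, polar_smul_left, h2, hx z hz hQz, hx b hbU hQb]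
  simp

/-- **uniqueness** of the invariant point / anisotropic plane -/
theorem uniq [Finite F] [FiniteDimensional F V] (hQ : Nondeg Q) {U U' : Submodule F V}
    (hU : ∀ w ∈ U, Q w = 0 → w = 0) (hd : 2 * finrank F U + 3 ≤ finrank F V) (hUU : finrank F U' = finrank F U)
    (hs : ∀ (u w : V) (hu : Q u = 0) (hw : polar Q u w = 0), u ∈ perp Q U → w ∈ perp Q U → ∀ x ∈ U', siegel Q u w hu hw x ∈ U') :
    U' = U := by
  refine Submodule.eq_of_le_of_finrank_eq (fun x hx => ?_) hUU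
  refine mem_of_sing_perp hQ hU (by omega) fun u hu hQu => ?_
  by_contra hne
  have hle : perp Q (U ⊔ F ∙ u) ≤ U' ⊔ F ∙ u := by
    intro w hw
    have hwU : w ∈ perp Q U := fun v hv => hw v (Submodule.mem_sup_left hv)
    have huw : polar Q u w = 0 := hw u (Submodule.mem_sup_right (Submodule.mem_span_singleton_self u))
    have h1 := hs u w hQu huw hu hwU x hx
    rw [siegel_apply] at h1
    have hx' : x ∈ U' ⊔ F ∙ u := Submodule.mem_sup_left hx
    have hu' : u ∈ U' ⊔ F ∙ u := Submodule.mem_sup_right (Submodule.mem_span_singleton_self u)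
    have h2 : polar Q u x • w ∈ U' ⊔ F ∙ u := by
      have h3 : polar Q u x • w = (x + polar Q u x • w - polar Q w x • u - (Q w * polar Q u x) • u) - x +
          polar Q w x • u + (Q w * polar Q u x) • u := by abel
      rw [h3]
      exact Submodule.add_mem _ (Submodule.add_mem _ (Submodule.sub_mem _ (Submodule.mem_sup_left h1) hx')
        (Submodule.smul_mem _ _ hu')) (Submodule.smul_mem _ _ hu')
    exact (Submodule.smul_mem_iff _ hne).1 h2
  have h1 := Submodule.finrank_mono hle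
  rw [finrank_perp hQ] at h1
  have h2 : finrank F (F ∙ u) ≤ 1 := by
    have := finrank_span_le_card (R := F) ({u} : Set V)
    simpa using this
  have h3 := Submodule.finrank_add_le_finrank_add_finrank U (F ∙ u)
  have h4 := Submodule.finrank_add_le_finrank_add_finrank U' (F ∙ u)
  omega

end Cfsg.Agent.H708.Rg
end

-- part: H708/Rg/Red
section
/-!
# S3691: the reduction to a subgroup of `G`, and `ResV`, `ResP` from data on `X ∩ T` (helper708)

* `fac_sub` : `Fac` for `H ≥ T, X`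
* `eSub hT eT : T.subgroupOf H ≃* POmega F Q`; `autP_eSub`, `mem_preG_eSub`
* `G1 e` : the elements of `G` inducing on `T` semisimilitudes; `T_le_G1`, `ind_G1`
* `resV_of`, `resP_of` : `X` fixes the point / plane, if `X ∩ T` does and contains the Siegel transformations
-/

set_option autoImplicit false
set_option linter.unusedSectionVars false

namespace Cfsg.Agent.H708.Rg

open Module QuadraticMap Cfsg Cfsg.Geo Cfsg.Agent.LieClassical.OrthCore Cfsg.Agent.LieClassical.OrthTrans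
  Cfsg.Agent.ClassicalGeometry.OrthSemi Cfsg.Agent.H454.Reg Cfsg.Agent.H884.El Cfsg.Agent.H955 Cfsg.Agent.H449.Reg
  Cfsg.Agent.H964.Rg
open Cfsg.Agent.LieClassical.OrthFinite (glEquiv)
open scoped MatrixGroups Matrix Pointwise

universe u v

section fac

variable {G : Type u} [Group G] {T X Y : Subgroup G}

theorem fac_sub [Finite G] (hf : Fac T X Y) {H : Subgroup G} (hT : T ≤ H) (hX : X ≤ H) :
    Fac (T.subgroupOf H) (X.subgroupOf H) (Y.subgroupOf H) := by
  have := hf.normal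
  let e := Subgroup.subgroupOfEquivOfLe hT
  refine ⟨inferInstance, ?_, ?_, ?_, ?_, ?_, ?_, ?_, ?_⟩
  · have := hf.simple
    exact e.isSimpleGroup
  · intro h
    apply hf.nonab
    refine ⟨⟨fun a b => ?_⟩⟩
    have h1 := h.is_comm.comm (e.symm a) (e.symm b)
    rw [← map_mul, ← map_mul] at h1
    exact e.symm.injective h1
  · rw [eq_bot_iff]
    intro g hg
    have h1 : (g : G) ∈ Subgroup.centralizer (T : Set G) := by
      rw [Subgroup.mem_centralizer_iff] at hg ⊢
      intro t ht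
      exact congrArg Subtype.val (hg ⟨t, hT ht⟩ ht)
    rw [hf.cent, Subgroup.mem_bot] at h1
    exact Subtype.ext h1
  · intro h
    apply hf.not_le_left
    intro t ht
    exact h (show (⟨t, hT ht⟩ : H) ∈ T.subgroupOf H from ht)
  · intro h
    apply hf.not_le_right
    intro t ht
    exact h (show (⟨t, hT ht⟩ : H) ∈ T.subgroupOf H from ht)
  · rw [eq_bot_iff]
    rintro g ⟨h1, h2⟩
    have h3 : (g : G) ∈ X ⊓ Y := ⟨h1, h2⟩
    rw [hf.inf, Subgroup.mem_bot] at h3
    exact Subtype.ext h3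
  · have h1 : Disjoint (X.subgroupOf H) (Y.subgroupOf H) := by
      rw [disjoint_iff, eq_bot_iff]
      rintro g ⟨h1, h2⟩
      have h3 : (g : G) ∈ X ⊓ Y := ⟨h1, h2⟩
      rw [hf.inf, Subgroup.mem_bot] at h3
      exact Subtype.ext h3
    refine (Subgroup.isComplement'_of_disjoint_and_mul_eq_univ h1 ?_).card_mul_card
    rw [Set.eq_univ_iff_forall]
    intro g
    obtain ⟨x, hx, y, hy, hxy⟩ := hf.exists_mul (g : G)
    have hyH : y ∈ H := by
      have : y = x⁻¹ * g := by rw [← hxy]; group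
      rw [this]
      exact H.mul_mem (H.inv_mem (hX hx)) g.2
    exact ⟨⟨x, hX hx⟩, hx, ⟨y, hyH⟩, hy, Subtype.ext hxy⟩
  · rw [Nat.card_congr e.toEquiv]
    exact hf.large

end fac

section iso

variable {ι : Type} [Fintype ι] [DecidableEq ι] {F : Type v} [Field F] {Q : QuadraticForm F (ι → F)}
  {G : Type u} [Group G] {T : Subgroup G} {H X : Subgroup G}

/-- the isomorphism for `T` as a subgroup of `H` -/
noncomputable def eSub (hT : T ≤ H) (eT : T ≃* POmega F (⇑Q)) : (T.subgroupOf H) ≃* POmega F (⇑Q) :=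
  (Subgroup.subgroupOfEquivOfLe hT).trans eT

theorem coe_eSub_symm (hT : T ≤ H) (eT : T ≃* POmega F (⇑Q)) (x : POmega F (⇑Q)) :
    ((((eSub hT eT).symm x : T.subgroupOf H) : H) : G) = ((eT.symm x : T) : G) := rfl

variable [T.Normal] {hG : Good Q} {eT : T ≃* POmega F (⇑Q)}

theorem autP_eSub (hT : T ≤ H) (g : H) : autP ((eP hG (eSub hT eT) :)) g = autP ((eP hG eT :)) (g : G) := by
  ext x
  have hob_ := (eP hG (eSub hT eT)).surjective x
  obtain ⟨t, rfl⟩ := hob_
  ((conv => enter [@2]; rw [autP_apply]))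
  have h1 : eP hG (eSub hT eT) t = eP hG eT (Subgroup.subgroupOfEquivOfLe hT t) := rfl
  have h2 : ∀ t, eP hG (eSub hT eT) t = eP hG eT (Subgroup.subgroupOfEquivOfLe hT t) := fun _ => rfl
  rw [h1, autP_apply, h2]
  congr 1

theorem mem_preG_eSub (hT : T ≤ H) (g : GL ι F) : g ∈ preG (eSub hT eT) (X.subgroupOf H) ↔ g ∈ preG eT X := by
  constructor
  · intro h
    obtain ⟨x, rfl, hx⟩ := exists_of_mem_preG h
    rw [mem_preG]
    exact hx
  · intro h
    obtain ⟨x, rfl, hx⟩ := exists_of_mem_preG h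
    rw [mem_preG]
    exact hx

/-- the elements of `G` which induce semisimilitudes -/
def G1 (e : T ≃* (↥(E Q) ⧸ Subgroup.center ↥(E Q))) : Subgroup G := (Psi Q).range.comap (autP e)

theorem T_le_G1 (e : T ≃* (↥(E Q) ⧸ Subgroup.center ↥(E Q))) : T ≤ G1 e := by
  intro t ht
  obtain ⟨x, hx⟩ := QuotientGroup.mk_surjective (e ⟨t, ht⟩)
  exact ⟨lg x, by ((conv => enter [@2]; rw [Psi_lg]); (conv => enter [@2, @6]; rw [hx])); exact (autP_T e ⟨t, ht⟩).symm⟩

theorem ind_G1 : Ind ((eP hG (eSub (T_le_G1 (eP hG eT)) eT) :)) := fun g => by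
  have hob_ := g.2
  obtain ⟨M, hM⟩ := hob_
  exact ⟨M, by ((conv => enter [@3]; rw [autP_eSub])); exact hM⟩

end iso

section res

variable {ι : Type} [Fintype ι] [DecidableEq ι] {F : Type v} [Field F] {Q : QuadraticForm F (ι → F)}
  {G : Type u} [Group G] {T : Subgroup G} [T.Normal] {hG : Good Q} {eT : T ≃* POmega F (⇑Q)} {X : Subgroup G}

/-- `X` fixes `U` -/
theorem fix_of [Finite F] (hI : Ind ((eP hG eT :))) {U : Submodule F (ι → F)} (hU : ∀ w ∈ U, Q w = 0 → w = 0)
    (hd : 2 * finrank F U + 3 ≤ Fintype.card ι) (hle : preG eT X ≤ subspaceStabilizer U)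
    (hs : ∀ (u w : ι → F) (hu : Q u = 0) (hw : polar Q u w = 0), u ∈ perp Q U → w ∈ perp Q U →
      (glEquiv ι F).symm (siegel Q u w hu hw) ∈ preG eT X) {x : G} (hx : x ∈ X) : act hI x U = U := by
  refine uniq hG.nondeg hU (by rwa [Module.finrank_fintype_fun_eq_card]) (finrank_act hI x U) ?_
  intro u w hu hw huU hwU y hy
  have h1 : Inv0 hI X U := (inv0_iff hG).2 hle
  have h2 : preG eT X ≤ subspaceStabilizer (act hI x U) := (inv0_iff hG).1 (h1.act hG hx)
  have h3 := H884.OmegaGL.mem_subspaceStabilizer.1 (h2 (hs u w hu hw huU hwU)) y hy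
  rwa [MulEquiv.apply_symm_apply] at h3

theorem resV_of [Finite F] (hI : Ind ((eP hG eT :))) {v : ι → F} (hv : Q v ≠ 0) (hd : 5 ≤ Fintype.card ι)
    (hle : preG eT X ≤ subspaceStabilizer (F ∙ v))
    (hs : ∀ (u w : ι → F) (hu : Q u = 0) (hw : polar Q u w = 0), polar Q u v = 0 → polar Q w v = 0 →
      (glEquiv ι F).symm (siegel Q u w hu hw) ∈ preG eT X) : ResV hI X v := by
  have hv0 : v ≠ 0 := by
    rintro rfl
    exact hv (QuadraticMap.map_zero Q)
  refine ⟨hv, fun x hx => fix_of hI ?_ ?_ hle ?_ hx, hs⟩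
  · intro w hw h0
    obtain ⟨c, rfl⟩ := Submodule.mem_span_singleton.1 hw
    rw [QuadraticMap.map_smul, smul_eq_mul] at h0
    rcases mul_eq_zero.1 h0 with h | h
    · rw [mul_self_eq_zero.1 h, zero_smul]
    · exact absurd h hv
  · rw [finrank_span_singleton hv0]
    exact hd
  · intro u w hu hw huv hwv
    have hmem := Submodule.mem_span_singleton_self (R := F) v
    exact hs u w hu hw (mem_perp'.1 huv v hmem) (mem_perp'.1 hwv v hmem)

end res

end Cfsg.Agent.H708.Rg
end

-- part: H708/Rg/RedTri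
section
/-!
# S3691, `PΩ⁺₈(q)`: the reduction to the elements inducing semisimilitudes (helper708)

`X ∩ T` fixes a nonsingular point or an anisotropic plane, `r₄` divides its order: no element of `X` induces a triality automorphism.

* `range_of_fix` : `autP (eP hG eT) x ∈ (Psi Q).range` for `x ∈ X`
* `g1_V`, `g1_P` : there is `H ≤ G` with `T ≤ H`, `X ≤ H`, `Fac T_H X_H Y_H`, `Ind`, `ResV` / `ResP`
-/

set_option autoImplicit false
set_option linter.unusedSectionVars false

namespace Cfsg.Agent.H708.Rg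

open Module QuadraticMap Cfsg Cfsg.Geo Cfsg.Agent.LieClassical.OrthCore Cfsg.Agent.LieClassical.OrthTrans
  Cfsg.Agent.LieClassical.OrthSimple Cfsg.Agent.ClassicalGeometry.OrthAut1
  Cfsg.Agent.ClassicalGeometry.OrthSemi Cfsg.Agent.H198.Classes
  Cfsg.Agent.LieClassical.QuadForms Cfsg.Agent.H198.ClassesPlus
  Cfsg.Agent.ClassicalGeometry.TrialityOct Cfsg.Agent.ClassicalGeometry.Triality
  Cfsg.Agent.ClassicalGeometry.TrialitySpaces Cfsg.Agent.H198.TriBase Cfsg.Agent.H198.TriAut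
open Cfsg.Agent.H884.El Cfsg.Agent.H955 Cfsg.Agent.H954.TSing
open Cfsg.Agent.H951 (fx cm Inv)
open Cfsg.Agent.H708.O8 (I8 T8 RB)
open Cfsg.Agent.H436 (Prim)
open Cfsg.Agent.H823.O8S Cfsg.Agent.H823.O8R
open Cfsg.Agent.AutOrth.Main (oe pe oe_apply pe_mk)
open Cfsg.Agent.H454.Reg Cfsg.Agent.H449.Reg Cfsg.Agent.H964.Rg
open Cfsg.Agent.LieClassical.OrthFinite (glEquiv)
open scoped MatrixGroups Matrix

universe u

section gen

variable {F : Type} [Field F] [Fintype F] {r : ℕ} {Q : QuadraticForm F (Fin 4 ⊕ Fin 4 → F)}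
  {G : Type u} [Group G] {T X : Subgroup G}

theorem exists_lift (hQ : Q = plusForm 4 F) (hG : Good Q) (hr : Odd r) {z : P Q} (hz : z ^ r = 1) :
    ∃ y : ↥(E Q), (y : P Q) = z ∧ y ^ r = 1 := by
  subst hQ
  obtain ⟨y', rfl⟩ := QuotientGroup.mk_surjective z
  have h1 : (y' ^ r) ^ 2 = 1 := by
    rw [← QuotientGroup.mk_pow, QuotientGroup.eq_one_iff] at hz
    obtain ⟨c, hc⟩ := center_scalar hG hz
    have h3 := iso_of_E (y' ^ r).2 (one8 F)
    rw [hc, QuadraticMap.map_smul, norm_one8, smul_eq_mul, mul_one] at h3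
    apply Subtype.ext
    ext1 v
    rw [pow_two]
    change ((y' ^ r : ↥(E (plusForm 4 F))) : V8 F ≃ₗ[F] V8 F) (((y' ^ r : ↥(E (plusForm 4 F))) : V8 F ≃ₗ[F] V8 F) v) = v
    rw [hc, hc, smul_smul, h3, one_smul]
  refine ⟨y' ^ (r + 1), ?_, ?_⟩
  · rw [QuotientGroup.mk_pow, pow_succ, hz, one_mul]
  · obtain ⟨m, hm⟩ : 2 ∣ r + 1 := by
      obtain ⟨k, hk⟩ := hr
      exact ⟨k + 1, by omega⟩
    rw [← pow_mul, mul_comm, pow_mul, hm, pow_mul, h1, one_pow]

theorem range_of (hQ : Q = plusForm 4 F) (hG : Good Q) (hr : PP (Nat.card F) 4 r) [Finite G] [T.Normal]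
    (eT : T ≃* POmega F ⇑Q) (hfx : ∀ g : GL I8 F, g ∈ preG eT X → orderOf g = r → fx (lin g) ≠ ⊥)
    (hd : r ∣ Nat.card (X.subgroupOf T)) {x : G} (hx : x ∈ X) : autP ((eP hG eT :)) x ∈ (Psi Q).range := by
  have := Fact.mk hr.prime
  have hodd := hr.odd (by norm_num)
  -- lifts have fixed vectors
  have key : ∀ (t : T) (y : ↥(E Q)), (t : G) ∈ X → (y : P Q) = eP hG eT t → y ^ r = 1 → y ≠ 1 →
      ∃ v, v ≠ 0 ∧ (y : (I8 → F) ≃ₗ[F] (I8 → F)) v = v := by
    intro t y ht hy hyr hy1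
    set! y' := (oe hG).symm y with hy'
    have hoy : oe hG y' = y := (oe hG).apply_symm_apply y
    have hinj : Function.Injective ((isometryGroup F ⇑Q).subtype.comp (Omega F ⇑Q).subtype) :=
      (isometryGroup F ⇑Q).subtype_injective.comp (Omega F ⇑Q).subtype_injective
    have h1 : ((y' : isometryGroup F ⇑Q) : GL I8 F) ∈ preG eT X := by
      rw [mem_preG]
      have h2 : eT.symm (QuotientGroup.mk y') = t := by
        rw [MulEquiv.symm_apply_eq]
        apply (_root_.Cfsg.Agent.AutOrth.Main.pe hG).injective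
        ((conv => enter [@2]; rw [pe_mk]); (conv => enter [@2, @4]; rw [hoy]); (conv => enter [@2]; rw [hy]))
        rfl
      rw [h2]
      exact ht
    have h3 : orderOf y' = r := by
      refine orderOf_eq_prime (by (rewrite [hy']; (conv => enter [@2]; rw [← map_pow]); (conv => enter [@2, @6]; rw [hyr]); (conv => enter [@2]; rw [map_one]))) fun h => hy1 ?_
      rw [← hoy, h, map_one]
    have h4 : orderOf ((y' : isometryGroup F ⇑Q) : GL I8 F) = r := by
      rw [← h3]
      exact orderOf_injective _ hinj y'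
    obtain ⟨v, hv, hv0⟩ := (Submodule.ne_bot_iff _).1 (hfx _ h1 h4)
    refine ⟨v, hv0, ?_⟩
    rw [← hoy, oe_lin]
    exact H951.mem_fx.1 hv
  have hob_ := exists_prime_orderOf_dvd_card' r hd
  obtain ⟨t₀, ht₀⟩ := hob_
  set! t : T := (t₀ : T) with ht
  have htX : (t : G) ∈ X := t₀.2
  have htr : orderOf t = r := by rw [ht, Subgroup.orderOf_coe, ht₀]
  have htr1 : t ^ r = 1 := by rw [← htr]; exact pow_orderOf_eq_one t
  have ht1 : t ≠ 1 := by
    intro h
    rw [h, orderOf_one] at htr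
    exact hr.prime.one_lt.ne htr
  have hob_ := exists_lift hQ hG hodd (z := eP hG eT t) (by rw [← map_pow, htr1, map_one])
  obtain ⟨g, hg, hgr⟩ := hob_
  have hg1 : g ≠ 1 := by
    intro h
    apply ht1
    apply (eP hG eT).injective
    rw [← hg, h, map_one]
    rfl
  have hgv := key t g htX hg hgr hg1
  set! t' : T := MulAut.conjNormal x t with ht'
  have ht'X : (t' : G) ∈ X := by
    rw [ht', MulAut.conjNormal_apply]
    exact X.mul_mem (X.mul_mem hx htX) (X.inv_mem hx)
  have ht'r : t' ^ r = 1 := by rw [ht', ← map_pow, htr1, map_one]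
  have ht'1 : t' ≠ 1 := by
    intro h
    apply ht1
    rw [ht'] at h
    exact (MulAut.conjNormal x).injective (by rw [h, map_one])
  have hob_ := exists_lift hQ hG hodd (z := eP hG eT t') (by rw [← map_pow, ht'r, map_one])
  obtain ⟨y, hy, hyr⟩ := hob_
  have hy1 : y ≠ 1 := by
    intro h
    apply ht'1
    apply (eP hG eT).injective
    rw [← hy, h, map_one]
    rfl
  have hob_ := key t' y ht'X hy hyr hy1
  obtain ⟨v, hv0, hv⟩ := hob_
  by_contra hα
  subst hQ
  refine hv0 (aut_no_fix hG hr hgr hg1 hgv hα (y := y) ?_ hyr v hv)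
  ((conv => enter [@2]; rw [hy]); rewrite [ht']; (conv => enter [@2]; rw [← autP_apply]); (conv => enter [@3, @6]; rw [hg]))

end gen

section row

variable {F : Type} [Field F] [Fintype F] {p a r b s k t : ℕ} {G : Type u} [Group G] [Finite G] {T X Y : Subgroup G}

theorem good8 : Good (H198.Carriers.plusQ 4 F) := H198.Carriers.good_plusQ (by norm_num)

seal _root_.Finset.sum in
/-- **no element of `X` induces a triality automorphism** -/
theorem range_of_fix (hF : Nat.card F = p ^ a) (h : Nm p a r b s k t) [T.Normal] (eT : T ≃* T8 F)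
    (hV : FixV ((X.subgroupOf T).map eT.toMonoidHom) ∨ FixP ((X.subgroupOf T).map eT.toMonoidHom))
    (hr : r ∣ Nat.card (X.subgroupOf T)) {x : G} (hx : x ∈ X) :
    autP (eP (Q := H198.Carriers.plusQ 4 F) good8 eT) x ∈ (Psi (H198.Carriers.plusQ 4 F)).range :=
  range_of (H198.Carriers.plusQ_eq 4 F) good8 (pp_of_nm hF h) eT
    (fun _ hg hgr => fx_ne_bot (pp_of_nm hF h) hV (hg :) hgr) hr hx

seal _root_.Finset.sum in
/-- the common part -/
theorem g1 (hF : Nat.card F = p ^ a) (h : Nm p a r b s k t) (hf : Fac T X Y) [T.Normal] (eT : T ≃* T8 F)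
    (hV : FixV ((X.subgroupOf T).map eT.toMonoidHom) ∨ FixP ((X.subgroupOf T).map eT.toMonoidHom))
    (hr : r ∣ Nat.card (X.subgroupOf T)) :
    ∃ (H : Subgroup G) (hT : T ≤ H), X ≤ H ∧ Fac (T.subgroupOf H) (X.subgroupOf H) (Y.subgroupOf H) ∧
      Ind (eP (Q := H198.Carriers.plusQ 4 F) good8 (eSub (Q := H198.Carriers.plusQ 4 F) hT eT)) := by
  have hX : X ≤ G1 (eP (Q := H198.Carriers.plusQ 4 F) good8 eT) := fun x hx => range_of_fix hF h eT hV hr hx
  exact ⟨G1 (eP (Q := H198.Carriers.plusQ 4 F) good8 eT), T_le_G1 _, hX, fac_sub hf (T_le_G1 _) hX, ind_G1⟩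

theorem le_stab {R : Subgroup (GL I8 F)} {W : Submodule F (I8 → F)} (h : R ≤ SW W) : R ≤ subspaceStabilizer W := by
  intro g hg
  refine H884.OmegaGL.mem_subspaceStabilizer.2 fun w hw => ?_
  have h1 : W.map (lin g) = W := h hg
  rw [← h1]
  exact ⟨w, hw, by rw [H884.El.lin, Matrix.toLin'_apply]; rfl⟩

seal _root_.Finset.sum in
/-- **reduction, point case** -/
theorem g1_V (hF : Nat.card F = p ^ a) (h : Nm p a r b s k t) (hf : Fac T X Y) [T.Normal] (eT : T ≃* T8 F)
    {w : I8 → F} (hw : quadFormPlus 4 F w ≠ 0)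
    (hle : pre (quadFormPlus 4 F) ((X.subgroupOf T).map eT.toMonoidHom) ≤ SW (Submodule.span F {w}))
    (hs : HasSieg ((X.subgroupOf T).map eT.toMonoidHom) (Submodule.span F {w})) (hr : r ∣ Nat.card (X.subgroupOf T)) :
    ∃ (H : Subgroup G) (hT : T ≤ H), X ≤ H ∧ Fac (T.subgroupOf H) (X.subgroupOf H) (Y.subgroupOf H) ∧
      ∃ hI : Ind (eP (Q := H198.Carriers.plusQ 4 F) good8 (eSub (Q := H198.Carriers.plusQ 4 F) hT eT)),
        ResV hI (X.subgroupOf H) w := by
  obtain ⟨H, hT, hX, hf', hI⟩ := g1 hF h hf eT (Or.inl ⟨w, hw, hle⟩) hr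
  refine ⟨H, hT, hX, hf', hI, resV_of hI hw (by simp) ?_ ?_⟩
  · intro g hg
    exact le_stab hle (((mem_preG_eSub hT g).1 hg :))
  · intro u w' hu hw' huv hwv
    refine (mem_preG_eSub (Q := H198.Carriers.plusQ 4 F) hT _).2 ?_
    have key : ∀ z : I8 → F, polar (H198.Carriers.plusQ 4 F) z w = 0 →
        ∀ v ∈ Submodule.span F {w}, polar (plusForm 4 F) z v = 0 := by
      intro z hz v hv
      obtain ⟨c, rfl⟩ := Submodule.mem_span_singleton.1 hv
      rw [← H198.Carriers.plusQ_eq, polar_smul_right, hz, smul_zero]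
    have h1 := hs u w' (by rw [← H198.Carriers.plusQ_eq]; exact hu) (by rw [← H198.Carriers.plusQ_eq]; exact hw')
      (key u huv) (key w' hwv)
    have h2 : ∀ (Q : QuadraticForm F (I8 → F)) (hQ : plusForm 4 F = Q) (h1 : plusForm 4 F u = 0)
        (h2 : polar (plusForm 4 F) u w' = 0) (h3 : Q u = 0) (h4 : polar Q u w' = 0),
        siegel (plusForm 4 F) u w' h1 h2 = siegel Q u w' h3 h4 := by
      rintro _ rfl _ _ _ _
      rfl
    rw [h2 _ (H198.Carriers.plusQ_eq 4 F).symm _ _ hu hw'] at h1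
    exact h1

end row

end Cfsg.Agent.H708.Rg
end
end

-- part: H886/O8R/Kill
section
prune_inst 0x30240418c002000000000032000044100000000000040004010040010028420940000100300001408208002000004001000010420000000a200000000500000000140630000108020098000000000000000000000000000000000000000000000000000
set_option linter.all false
open scoped Cfsg.Agent.FastGrp

-- part: H886/O8R/RootConj
section
/-!
# S3691-O8R: the long root elements of `Ω₈⁺(q)` form one class (helper886)

* `trans_perp` : `E Q` is transitive on the nonzero singular vectors perpendicular to a hyperbolic pair, the pair being fixed;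
* `trans_line` : `E Q` is transitive on the bases of the totally singular lines;
* `root_conj` : two Siegel transformations of totally singular lines are conjugate under `Ω`.
-/

set_option autoImplicit false
set_option linter.unusedSectionVars false

namespace Cfsg.Agent.H886.O8R

open Module QuadraticMap Cfsg
open Cfsg.Agent.LieClassical.OrthCore Cfsg.Agent.LieClassical.OrthTrans Cfsg.Agent.LieClassical.OrthFinite

section gen

variable {F V : Type*} [Field F] [AddCommGroup V] [Module F V] {Q : QuadraticForm F V}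

/-- a singular partner of `u` which is perpendicular to `w` -/
theorem exists_partner (hQ : Nondeg Q) {u w : V} (hu : Q u = 0) (huw : polar Q u w = 0)
    (hl : ∀ c : F, u ≠ c • w) : ∃ v, Hyp Q u v ∧ polar Q v w = 0 := by
  obtain ⟨y, hy1, hy2⟩ := exists_sep hQ hl
  refine ⟨y + (-Q y) • u, ⟨hu, ?_, ?_⟩, ?_⟩
  · rw [Q_add, QuadraticMap.map_smul, hu, polar_smul_right, polar_comm Q y u, hy2]
    simp
  · rw [polar_add_right, polar_smul_right, polar_self_of_sing hu, hy2]
    simp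
  · rw [polar_add_left, polar_smul_left, huw, polar_comm Q y w, hy1]
    simp

end gen

variable {F : Type} [Field F] [Fintype F]

open Cfsg.Agent.H708.O8 (I8)
open LieClassical.QuadForms (plusForm)

end Cfsg.Agent.H886.O8R
end

-- part: H886/O8R/Kill
section
/-!
# S3691-O8R, box F34-K: the kills `kill_fix`, `kill_sieg` (helper886)

* `trans_perp_norm`, `trans_sv`, `trans_plane` : transitivity of `E Q` (vectors of equal norm perpendicular to a hyperbolic
  pair; pairs `u`, `w` with `u` singular; bases of nondegenerate planes);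
* `mem_of_fix` : an isometry of odd order trivial on `W` lies in the group generated by the Siegel transformations of `W^⊥`;
* `kill_sieg`, `kill_fix`.
-/

set_option autoImplicit false
set_option linter.unusedSectionVars false
set_option linter.unusedVariables false

namespace Cfsg.Agent.H886.O8R

open Module QuadraticMap Cfsg
open Cfsg.Agent.LieClassical.OrthCore Cfsg.Agent.LieClassical.OrthTrans Cfsg.Agent.LieClassical.OrthFinite
open Cfsg.Agent.H955 (res perp hperp mem_perp mem_perp' nondeg_hperp finrank_hperp nondeg_res_iff nondeg_perp finrank_perp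
  finrank_add_perp isCompl_perp Q_add_of_perp exists_add_perp glue glue_apply glue_left glue_right nondeg_of_aniso)

section gen

universe u v

variable {F : Type u} {V : Type v} [Field F] [Finite F] [AddCommGroup V] [Module F V] [FiniteDimensional F V]
  {Q : QuadraticForm F V}

/-- `E Q` is transitive on the nonzero vectors of given norm perpendicular to a hyperbolic pair -/
theorem trans_perp_norm (hQ : Nondeg Q) (hd : 7 ≤ finrank F V) {u v x x' : V} (h : Hyp Q u v) (hx : Q x = Q x')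
    (h0 : x ≠ 0) (h0' : x' ≠ 0) (hux : polar Q u x = 0) (hvx : polar Q v x = 0)
    (hux' : polar Q u x' = 0) (hvx' : polar Q v x' = 0) : ∃ g ∈ E Q, g u = u ∧ g v = v ∧ g x = x' := by
  have hU := nondeg_hperp hQ h
  have hf := finrank_hperp h
  have hG : Good (res Q (hperp Q u v)) := good_of_finite hU (by omega)
  obtain ⟨g0, hg0, h1⟩ := hG.trans_norm (v := ⟨x, hux, hvx⟩) (v' := ⟨x', hux', hvx'⟩)
    (fun h2 => h0 (congrArg Subtype.val h2)) (fun h2 => h0' (congrArg Subtype.val h2)) hx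
  obtain ⟨g, hg, hg1, hg2⟩ := H245.RG.exists_extension _ hg0
  refine ⟨g, hg, hg2 u fun z hz => ?_, hg2 v fun z hz => ?_, ?_⟩
  · rw [polar_comm]; exact hz.1
  · rw [polar_comm]; exact hz.2
  · have h2 := hg1 ⟨x, hux, hvx⟩
    rw [h1] at h2
    exact h2

/-- transitivity on pairs `u`, `w` with `u` singular and perpendicular to `w` -/
theorem trans_sv (hQ : Nondeg Q) (hd : 7 ≤ finrank F V) {u w u' w' : V} (hu : Q u = 0) (hw : Q w = Q w')
    (huw : polar Q u w = 0) (hl : LinearIndependent F ![u, w]) (hu' : Q u' = 0)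
    (huw' : polar Q u' w' = 0) (hl' : LinearIndependent F ![u', w']) : ∃ g ∈ E Q, g u = u' ∧ g w = w' := by
  have hne : ∀ {a b : V}, LinearIndependent F ![a, b] → (∀ c : F, a ≠ c • b) ∧ b ≠ 0 := by
    intro a b hab
    constructor
    · intro c hc
      have h1 := LinearIndependent.pair_iff.1 hab 1 (-c) (by rw [one_smul, hc]; module)
      exact one_ne_zero h1.1
    · exact hab.ne_zero 1
  obtain ⟨v, hv, hvw⟩ := exists_partner hQ hu huw (hne hl).1
  obtain ⟨v', hv', hvw'⟩ := exists_partner hQ hu' huw' (hne hl').1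
  have hG : Good Q := good_of_finite hQ (by omega)
  obtain ⟨g1, hg1, a1, b1⟩ := hG.trans_hyp hv hv'
  have hO := E_le_O hg1
  obtain ⟨g2, hg2, a2, -, c2⟩ := trans_perp_norm hQ hd hv' (x := g1 w) (x' := w') (by rw [mem_O.1 hO]; exact hw)
    (by
      intro h0
      exact (hne hl).2 (g1.injective (h0.trans (map_zero g1).symm))) (hne hl').2
    (by rw [← a1, polar_map hO]; exact huw) (by rw [← b1, polar_map hO]; exact hvw) huw' hvw'
  refine ⟨g2 * g1, E_mul hg2 hg1, ?_, ?_⟩
  · show g2 (g1 u) = u'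
    rw [a1, a2]
  · exact c2

/-- a pair `x`, `y` with `x` singular, `x ⟂ y`, `y` of given norm in the orthogonal space of `W` -/
theorem exists_sv {W : Submodule F V} (hQ : Nondeg Q) (hW : Nondeg (res Q W)) (hd : 5 ≤ finrank F (perp Q W)) (c : F) :
    ∃ x ∈ perp Q W, ∃ y ∈ perp Q W, Q x = 0 ∧ polar Q x y = 0 ∧ Q y = c ∧ LinearIndependent F ![x, y] := by
  have hG : Good (res Q (perp Q W)) := good_of_finite (nondeg_perp hQ hW) hd
  obtain ⟨x, y, hxy⟩ := hG.exists_hyp
  obtain ⟨z, w, hzw, hxz, hxw, hyz, hyw⟩ := hG.exists_hyp2 hxy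
  have e1 : polar Q (x : V) (z : V) = 0 := hxz
  have e2 : polar Q (x : V) (w : V) = 0 := hxw
  have e3 : polar Q (y : V) (z : V) = 0 := hyz
  have e4 : polar Q (y : V) (w : V) = 0 := hyw
  have e5 : Q (z : V) = 0 := hzw.left
  have e6 : Q (w : V) = 0 := hzw.right
  have e7 : polar Q (z : V) (w : V) = 1 := hzw.pair
  have e8 : Q (x : V) = 0 := hxy.left
  have e9 : polar Q (y : V) (x : V) = 1 := hxy.pair'
  have e10 : polar Q (w : V) (z : V) = 1 := hzw.pair'
  have e11 : polar Q (w : V) (w : V) = 0 := hzw.polar_right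
  refine ⟨x, x.2, (z : V) + c • (w : V), add_mem z.2 (Submodule.smul_mem _ _ w.2), e8, ?_, ?_, ?_⟩
  · rw [polar_add_right, polar_smul_right, e1, e2]; simp
  · rw [Q_add, QuadraticMap.map_smul, polar_smul_right, e5, e6, e7]; simp
  · rw [LinearIndependent.pair_iff]
    intro s t h
    have h1 := congrArg (polar Q (y : V)) h
    rw [polar_add_right, polar_smul_right, polar_smul_right, polar_add_right, polar_smul_right, e9, e3, e4,
      polar_zero_right] at h1
    have h2 := congrArg (polar Q (w : V)) h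
    rw [polar_add_right, polar_smul_right, polar_smul_right, polar_add_right, polar_smul_right, e10, e11,
      polar_comm Q (w : V) (x : V), e2, polar_zero_right] at h2
    simp at h1 h2
    exact ⟨h1, h2⟩

/-- a singular `y` with `b(a, y) = 1`, `b(b, y) = 0` for a basis `a`, `b` of a nondegenerate plane -/
theorem exists_y (hQ : Nondeg Q) {a b : V} (hP : Nondeg (res Q (Submodule.span F {a, b})))
    (hl : LinearIndependent F ![a, b]) (hd : 7 ≤ finrank F V) : ∃ y, Q y = 0 ∧ polar Q a y = 1 ∧ polar Q b y = 0 := by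
  have hab : ∀ c : F, a ≠ c • b := by
    intro c hc
    have h1 := LinearIndependent.pair_iff.1 hl 1 (-c) (by rw [one_smul, hc]; module)
    exact one_ne_zero h1.1
  obtain ⟨y0, h1, h2⟩ := exists_sep hQ hab
  obtain ⟨p, u0, h3⟩ := exists_add_perp hP y0
  have hfp : finrank F (Submodule.span F {a, b}) = 2 := by
    have h4 := finrank_span_eq_card hl
    rw [Fintype.card_fin] at h4
    rwa [Matrix.range_cons_cons_empty] at h4
  have hf := finrank_add_perp hQ (Submodule.span F {a, b})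
  have hG : Good (res Q (perp Q (Submodule.span F {a, b}))) := good_of_finite (nondeg_perp hQ hP) (by omega)
  obtain ⟨x', y', hxy⟩ := hG.exists_hyp
  have e5 : Q (x' : V) = 0 := hxy.left
  have e6 : Q (y' : V) = 0 := hxy.right
  have e7 : polar Q (x' : V) (y' : V) = 1 := hxy.pair
  have ha : a ∈ Submodule.span F {a, b} := Submodule.subset_span (Set.mem_insert _ _)
  have hb : b ∈ Submodule.span F {a, b} := Submodule.subset_span (Set.mem_insert_of_mem _ rfl)
  have hd' : (x' : V) + (-Q (p : V)) • (y' : V) ∈ perp Q (Submodule.span F {a, b}) :=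
    add_mem x'.2 (Submodule.smul_mem _ _ y'.2)
  refine ⟨(p : V) + ((x' : V) + (-Q (p : V)) • (y' : V)), ?_, ?_, ?_⟩
  · rw [Q_add_of_perp p.2 hd', Q_add, QuadraticMap.map_smul, polar_smul_right, e5, e6, e7]
    simp
  · rw [polar_add_right, hd' a ha, add_zero, ← h2, ← h3, polar_add_right, u0.2 a ha, add_zero]
  · rw [polar_add_right, hd' b hb, add_zero, ← h1, ← h3, polar_add_right, u0.2 b hb, add_zero]

/-- **transitivity on the bases of isometric nondegenerate planes** -/
theorem trans_plane (hQ : Nondeg Q) (hd : 7 ≤ finrank F V) {a b a' b' : V}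
    (hP : Nondeg (res Q (Submodule.span F {a, b}))) (hl : LinearIndependent F ![a, b])
    (hP' : Nondeg (res Q (Submodule.span F {a', b'}))) (hl' : LinearIndependent F ![a', b'])
    (ha : Q a = Q a') (hb : Q b = Q b') (hab : polar Q a b = polar Q a' b') (hb0 : Q b ≠ 0) :
    ∃ g ∈ E Q, g a = a' ∧ g b = b' := by
  -- normal form
  have key : ∀ a b : V, Nondeg (res Q (Submodule.span F {a, b})) → LinearIndependent F ![a, b] → Q b ≠ 0 →
      ∃ x y c, Hyp Q x y ∧ polar Q x c = 0 ∧ polar Q y c = 0 ∧ c ≠ 0 ∧ Q c = Q b ∧ a = x + Q a • y ∧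
        b = polar Q a b • y + c := by
    intro a b hP hl hb0
    obtain ⟨y, hy, hay, hby⟩ := exists_y hQ hP hl hd
    have hyy : polar Q y y = 0 := polar_self_of_sing hy
    have hx : Q (a + (-Q a) • y) = 0 := by
      rw [Q_add, QuadraticMap.map_smul, polar_smul_right, hy, hay]; simp
    refine ⟨a + (-Q a) • y, y, b + (-polar Q a b) • y, ⟨hx, hy, ?_⟩, ?_, ?_, ?_, ?_, ?_, ?_⟩
    · rw [polar_add_left, polar_smul_left, hyy, hay]; simp
    · rw [polar_add_right, polar_smul_right, polar_add_left, polar_add_left, polar_smul_left, polar_smul_left, hyy, hay,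
        polar_comm Q y b, hby]
      simp
    · rw [polar_add_right, polar_smul_right, hyy, polar_comm Q y b, hby]; simp
    · intro h0
      apply hb0
      have h1 : b = polar Q a b • y := by
        have h2 : b = (b + (-polar Q a b) • y) + polar Q a b • y := by module
        rw [h2, h0, zero_add]
        rw [polar_smul_right, hay, smul_eq_mul, mul_one]
      rw [h1, QuadraticMap.map_smul, hy, smul_zero]
    · rw [Q_add, QuadraticMap.map_smul, polar_smul_right, hy, hby]; simp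
    · module
    · module
  obtain ⟨x, y, c, h1, h2, h3, h4, h5, h6, h7⟩ := key a b hP hl hb0
  obtain ⟨x', y', c', h1', h2', h3', h4', h5', h6', h7'⟩ := key a' b' hP' hl' (by rw [← hb]; exact hb0)
  have hG : Good Q := good_of_finite hQ (by omega)
  obtain ⟨g1, hg1, a1, b1⟩ := hG.trans_hyp h1 h1'
  have hO := E_le_O hg1
  obtain ⟨g2, hg2, a2, b2, c2⟩ := trans_perp_norm hQ hd h1' (x := g1 c) (x' := c')
    (by rw [mem_O.1 hO, h5, h5', hb])
    (fun h0 => h4 (g1.injective (h0.trans (map_zero g1).symm))) h4'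
    (by rw [← a1, polar_map hO]; exact h2) (by rw [← b1, polar_map hO]; exact h3) h2' h3'
  refine ⟨g2 * g1, E_mul hg2 hg1, ?_, ?_⟩
  · show g2 (g1 a) = a'
    rw [h6, map_add, map_smul, map_add, map_smul, a1, b1, a2, b2, ha]
    exact h6'.symm
  · show g2 (g1 b) = b'
    rw [h7, map_add, map_smul, map_add, map_smul, b1, b2, c2, hab]
    exact h7'.symm

/-- a copy of a plane in a nondegenerate space of dimension at least four -/
theorem exists_copy {U : Submodule F V} (hU : Nondeg (res Q U)) (hd : 4 ≤ finrank F U) (α β γ : F) :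
    ∃ a ∈ U, ∃ b ∈ U, Q a = α ∧ polar Q a b = β ∧ Q b = γ := by
  obtain ⟨x, hx0, hx, -⟩ := exists_sing_perp (Q := res Q U) (n := 0) ![] (by omega)
  obtain ⟨y, hxy⟩ := exists_hyp hU hx hx0
  have hf := finrank_hperp hxy
  obtain ⟨c, hc⟩ := H749.exists_value (nondeg_hperp hU hxy) (by omega) γ
  have e1 : Q ((x : U) : V) = 0 := hxy.left
  have e2 : Q ((y : U) : V) = 0 := hxy.right
  have e3 : polar Q ((x : U) : V) ((y : U) : V) = 1 := hxy.pair
  have e4 : polar Q ((x : U) : V) ((c : U) : V) = 0 := c.2.1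
  have e5 : polar Q ((y : U) : V) ((c : U) : V) = 0 := c.2.2
  have e6 : Q ((c : U) : V) = γ := hc
  have e7 : polar Q ((y : U) : V) ((y : U) : V) = 0 := hxy.polar_right
  refine ⟨x + α • (y : V), add_mem x.2 (Submodule.smul_mem _ _ y.2), β • (y : V) + c,
    add_mem (Submodule.smul_mem _ _ y.2) (c : U).2, ?_, ?_, ?_⟩
  · rw [Q_add, QuadraticMap.map_smul, polar_smul_right, e1, e2, e3]; simp
  · rw [polar_add_left, polar_add_right, polar_add_right, polar_smul_left, polar_smul_left, polar_smul_right,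
      polar_smul_right, e3, e4, e5, e7]
    simp
  · rw [Q_add, QuadraticMap.map_smul, polar_smul_left, e2, e5, e6]; simp

/-- elements of `E` of a subspace extend inside every group containing the Siegel transformations -/
theorem exists_ext_mem (U : Submodule F V) {N : Subgroup (V ≃ₗ[F] V)}
    (hN : ∀ (u w : V) (hu : Q u = 0) (hw : polar Q u w = 0), u ∈ U → w ∈ U → siegel Q u w hu hw ∈ N)
    {g : U ≃ₗ[F] U} (hg : g ∈ E (res Q U)) :
    ∃ g' ∈ N, (∀ u : U, g' u = g u) ∧ ∀ z, (∀ u ∈ U, polar Q u z = 0) → g' z = z := by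
  rw [E] at hg
  induction hg using Subgroup.closure_induction with
  | mem x hx =>
    obtain ⟨u, w, hu, hw, rfl⟩ := hx
    have hu' : Q (u : V) = 0 := hu
    have hw' : polar Q (u : V) (w : V) = 0 := hw
    refine ⟨siegel Q u w hu' hw', hN _ _ _ _ u.2 w.2, fun z => ?_, fun z hz => ?_⟩
    · rw [siegel_apply, siegel_apply]
      rfl
    · rw [siegel_apply, hz u u.2, hz w w.2]
      simp
  | one => exact ⟨1, one_mem _, fun _ => rfl, fun _ _ => rfl⟩
  | mul x y _ _ hx hy =>
    obtain ⟨a, ha, ha1, ha2⟩ := hx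
    obtain ⟨b, hb, hb1, hb2⟩ := hy
    refine ⟨a * b, mul_mem ha hb, fun u => ?_, fun z hz => ?_⟩
    · show a (b u) = ((x (y u) : U) : V)
      rw [hb1, ha1]
    · show a (b z) = z
      rw [hb2 z hz, ha2 z hz]
  | inv x _ hx =>
    obtain ⟨a, ha, ha1, ha2⟩ := hx
    refine ⟨a⁻¹, inv_mem ha, fun u => ?_, fun z hz => ?_⟩
    · show a.symm u = ((x.symm u : U) : V)
      rw [LinearEquiv.symm_apply_eq, ha1, LinearEquiv.apply_symm_apply]
    · show a.symm z = z
      rw [LinearEquiv.symm_apply_eq, ha2 z hz]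

/-- **an isometry of odd order which is trivial on `W`** lies in every group containing the Siegel transformations of
`W^⊥` -/
theorem mem_of_fix {W : Submodule F V} (hQ : Nondeg Q) (hW : Nondeg (res Q W)) (hd : 5 ≤ finrank F (perp Q W))
    {N : Subgroup (V ≃ₗ[F] V)} (hN : ∀ (u w : V) (hu : Q u = 0) (hw : polar Q u w = 0), u ∈ perp Q W → w ∈ perp Q W →
      siegel Q u w hu hw ∈ N) {z : V ≃ₗ[F] V} (hz : z ∈ O Q) (hfix : ∀ v ∈ W, z v = v) {r : ℕ} (hr : Odd r)
    (hzr : z ^ r = 1) : z ∈ N := by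
  obtain ⟨m, hm⟩ := hr
  have hzi : ∀ v ∈ W, z⁻¹ v = v := by
    intro v hv
    show z.symm v = v
    rw [LinearEquiv.symm_apply_eq, hfix v hv]
  have hst : ∀ g : V ≃ₗ[F] V, g ∈ O Q → (∀ v ∈ W, g v = v) → ∀ v ∈ perp Q W, g v ∈ perp Q W := by
    intro g hg hgf v hv w hw
    rw [← hgf w hw, polar_map hg]
    exact hv w hw
  have h1 := hst z hz hfix
  have h2 := hst z⁻¹ (inv_mem hz) hzi
  -- the restriction
  let y : perp Q W ≃ₗ[F] perp Q W :=
    { toFun := fun v => ⟨z v, h1 v v.2⟩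
      map_add' := fun a b => Subtype.ext (map_add z _ _)
      map_smul' := fun c a => Subtype.ext (map_smul z c _)
      invFun := fun v => ⟨z⁻¹ v, h2 v v.2⟩
      left_inv := fun v => Subtype.ext (z.symm_apply_apply v)
      right_inv := fun v => Subtype.ext (z.apply_symm_apply v) }
  have hy : ∀ v : perp Q W, ((y v : perp Q W) : V) = z v := fun v => rfl
  have hyO : y ∈ O (res Q (perp Q W)) := fun v => mem_O.1 hz v
  have hyp : ∀ (n : ℕ) (v : perp Q W), (((y ^ n) v : perp Q W) : V) = (z ^ n) v := by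
    intro n
    induction n with
    | zero => intro v; rfl
    | succ n ih =>
      intro v
      rw [pow_succ, pow_succ, LinearEquiv.mul_apply, LinearEquiv.mul_apply, ih, hy]
  have hyr : y ^ r = 1 := by
    ext v
    rw [hyp, hzr]
    rfl
  have hG : Good (res Q (perp Q W)) := good_of_finite (nondeg_perp hQ hW) hd
  have hyE : y ∈ E (res Q (perp Q W)) := by
    have e : y = ((y * y) ^ m)⁻¹ := by
      rw [eq_inv_iff_mul_eq_one, ← pow_two, ← pow_mul, ← pow_succ', ← hm, hyr]
    rw [e]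
    exact inv_mem (pow_mem (H749.sq_mem_E hG hyO) m)
  obtain ⟨g', hg', h3, h4⟩ := exists_ext_mem (perp Q W) hN hyE
  have h5 : z = g' := by
    ext v
    obtain ⟨a, b, rfl⟩ := exists_add_perp hW v
    rw [map_add, map_add, hfix a a.2, h3 b, hy, h4 a]
    intro u hu
    exact mem_perp'.1 hu a a.2
  rw [h5]
  exact hg'

end gen

/-! ### the kills -/

open Cfsg.Geo Cfsg.Agent.H884.El Cfsg.Agent.H823.O8S Cfsg.Agent.H823.O8R
open Cfsg.Agent.H951 (fx cm)
open Cfsg.Agent.H708.O8 (I8 T8 RB)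

variable {F : Type} [Field F] [Fintype F] {p a r b s k t : ℕ}

theorem finrank_I8' : finrank F (I8 → F) = 8 := by
  rw [finrank_fintype_fun_eq_card, Fintype.card_sum, Fintype.card_fin]

theorem aniso_res {W : Submodule F (I8 → F)} (hW0 : ∀ w ∈ W, quadFormPlus 4 F w = 0 → w = 0) (hW : finrank F W = 2) :
    Nondeg (res (QF F) W) := by
  refine nondeg_of_aniso hW fun v hv => Subtype.ext (hW0 v v.2 ?_)
  rw [← coe_QF]
  exact hv

/-- the Siegel transformations of `W^⊥` as linear maps -/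
theorem sieg_mem {X : Subgroup (T8 F)} {W : Submodule F (I8 → F)} (hs : HasSieg X W) (u w : I8 → F)
    (hu : QF F u = 0) (hw : polar (QF F) u w = 0) (h1 : u ∈ perp (QF F) W) (h2 : w ∈ perp (QF F) W) :
    siegel (QF F) u w hu hw ∈ (pre (quadFormPlus 4 F) X).map (glEquiv I8 F).toMonoidHom := by
  refine ⟨_, hs u w hu hw (fun v hv => mem_perp'.1 h1 v hv) (fun v hv => mem_perp'.1 h2 v hv), ?_⟩
  exact (glEquiv I8 F).apply_symm_apply _

/-- **(F34-K2)** Siegel transformations -/
theorem kill_sieg (hF : Nat.card F = p ^ a) (h : Nm p a r b s k t) {X : Subgroup (T8 F)} {W : Submodule F (I8 → F)}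
    (hW : finrank F W = 2) (hW0 : ∀ w ∈ W, quadFormPlus 4 F w = 0 → w = 0) (hs : HasSieg X W) (u w : I8 → F)
    (hu : LieClassical.QuadForms.plusForm 4 F u = 0) (hw : polar (LieClassical.QuadForms.plusForm 4 F) u w = 0)
    (huw : LinearIndependent F ![u, w]) :
    ∃ g ∈ omegaGL (quadFormPlus 4 F), g * (LieClassical.OrthFinite.glEquiv I8 F).symm
      (LieClassical.OrthCore.siegel (LieClassical.QuadForms.plusForm 4 F) u w hu hw) * g⁻¹ ∈ pre (quadFormPlus 4 F) X := by
  have hQ : Nondeg (QF F) := nd_QF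
  have hd : finrank F (J8 → F) = 8 := finrank_I8'
  have hf : finrank F W + finrank F (perp (QF F) W) = finrank F (J8 → F) := finrank_add_perp hQ W
  obtain ⟨x, hx, y, hy, h1, h2, h3, h4⟩ := exists_sv hQ (aniso_res hW0 hW) (by omega) (QF F w)
  obtain ⟨g, hg, rfl, rfl⟩ := trans_sv hQ (by omega) hu h3.symm hw huw h1 h2 h4
  obtain ⟨o, ho⟩ := exists_omega hg
  have h5 : glEquiv I8 F ((o : isometryGroup F (quadFormPlus 4 F)) : Matrix.GeneralLinearGroup I8 F) = g := ho
  refine ⟨((o : isometryGroup F (quadFormPlus 4 F)) : Matrix.GeneralLinearGroup I8 F), ⟨_, o.2, rfl⟩, ?_⟩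
  have h6 := hs (g u) (g w) h1 h2 (fun v hv => mem_perp'.1 hx v hv) (fun v hv => mem_perp'.1 hy v hv)
  rw [← siegel_conj (E_le_O hg) hu hw h1 h2, map_mul, map_mul, map_inv, ← h5, MulEquiv.symm_apply_apply] at h6
  exact h6

/-- **(F34-K1)** elements of order `r` with fixed vectors -/
theorem kill_fix (hF : Nat.card F = p ^ a) (h : Nm p a r b s k t) {X : Subgroup (T8 F)} {W : Submodule F (I8 → F)}
    (hW : finrank F W = 2) (hW0 : ∀ w ∈ W, quadFormPlus 4 F w = 0 → w = 0) (hs : HasSieg X W) {y : GL I8 F}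
    (hy : y ∈ omegaGL (quadFormPlus 4 F)) (hyr : orderOf y = r) (hfx : fx (lin y) ≠ ⊥) :
    ∃ g ∈ omegaGL (quadFormPlus 4 F), g * y * g⁻¹ ∈ pre (quadFormPlus 4 F) X := by
  have hQ : Nondeg (QF F) := nd_QF
  have hd : finrank F (J8 → F) = 8 := finrank_I8'
  have hfp : finrank F W + finrank F (perp (QF F) W) = finrank F (J8 → F) := finrank_add_perp hQ W
  have hWn := aniso_res hW0 hW
  have hyr1 : y ^ r = 1 := by rw [← hyr, pow_orderOf_eq_one]
  -- the fixed space
  have hpp : PP (Nat.card F) 4 r := by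
    rw [hF]
    have h1 : PP p (a * 4) r := by
      rw [mul_comm]
      exact prim_pp h.rb.hp.one_le h.rb.prim
    exact h1.of_pow h.rb.ha
  have hyQ : ∀ v, QF F (lin y v) = QF F v := by
    obtain ⟨ω, -, rfl⟩ := hy
    intro v
    rw [coe_QF]
    exact mem_isometryGroup_iff.1 ω.2 v
  have hI : Iso (QF F) (lin y) r := Iso.mk' hpp (by norm_num) (by rw [← lin_pow, hyr1, lin_one]) hyQ
  have h4 : 4 ∣ finrank F (cm (lin y)) := hI.dvd_cm hpp
  have h8 : finrank F (fx (lin y)) + finrank F (cm (lin y)) = finrank F (J8 → F) := hI.finrank_add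
  have hfn := H954.TSing.nondeg_fx hQ hyQ hI.ne0 hI.pow
  have hfx0 : 0 < finrank F (fx (lin y)) := by
    rw [Nat.pos_iff_ne_zero]
    intro h0
    exact hfx (Submodule.finrank_eq_zero.1 h0)
  have hfx4 : 4 ≤ finrank F (fx (lin y)) := by omega
  -- a basis of `W`
  have : FiniteDimensional F W := inferInstance
  let B := Module.finBasisOfFinrankEq F W hW
  obtain ⟨u, hu⟩ : ∃ u : I8 → F, u = (B 0 : W) := ⟨_, rfl⟩
  obtain ⟨w, hw⟩ : ∃ w : I8 → F, w = (B 1 : W) := ⟨_, rfl⟩
  have huW : u ∈ W := by rw [hu]; exact (B 0).2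
  have hwW : w ∈ W := by rw [hw]; exact (B 1).2
  have hli : LinearIndependent F ![u, w] := by
    have h1 : LinearIndependent F (fun i => ((B i : W) : J8 → F)) :=
      B.linearIndependent.map' W.subtype (Submodule.ker_subtype W)
    have h2 : (fun i => ((B i : W) : J8 → F)) = ![u, w] := by
      funext i
      fin_cases i
      · exact hu.symm
      · exact hw.symm
    rw [h2] at h1
    exact h1
  have hrk : ∀ {x z : I8 → F}, LinearIndependent F ![x, z] → finrank F (Submodule.span F {x, z}) = 2 := by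
    intro x z hxz
    have h4 := finrank_span_eq_card hxz
    rw [Fintype.card_fin] at h4
    rwa [Matrix.range_cons_cons_empty] at h4
  have hspan : Submodule.span F {u, w} = W := by
    refine Submodule.eq_of_le_of_finrank_eq ?_ (by rw [hrk hli, hW])
    rw [Submodule.span_le]
    rintro x (rfl | rfl)
    · exact huW
    · exact hwW
  have hw0 : QF F w ≠ 0 := by
    intro h0
    rw [coe_QF] at h0
    exact hli.ne_zero 1 (hW0 w hwW h0)
  -- a copy in the fixed space
  obtain ⟨u', hu', w', hw', e1, e2, e3⟩ := exists_copy hfn hfx4 (QF F u) (polar (QF F) u w) (QF F w)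
  have hval : ∀ α β : F, QF F (α • u' + β • w') = QF F (α • u + β • w) := by
    intro α β
    rw [Q_add, Q_add, QuadraticMap.map_smul, QuadraticMap.map_smul, QuadraticMap.map_smul, QuadraticMap.map_smul,
      polar_smul_left, polar_smul_left, polar_smul_right, polar_smul_right, e1, e2, e3]
  have hzero : ∀ α β : F, QF F (α • u' + β • w') = 0 → α = 0 ∧ β = 0 := by
    intro α β h0
    rw [hval, coe_QF] at h0
    exact LinearIndependent.pair_iff.1 hli α β
      (hW0 _ (add_mem (Submodule.smul_mem _ _ huW) (Submodule.smul_mem _ _ hwW)) h0)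
  have hli' : LinearIndependent F ![u', w'] := by
    rw [LinearIndependent.pair_iff]
    intro α β h0
    refine hzero α β ?_
    rw [h0]
    exact QuadraticMap.map_zero _
  have hn' : Nondeg (res (QF F) (Submodule.span F {u', w'})) := by
    refine nondeg_of_aniso (hrk hli') ?_
    rintro ⟨v, hv⟩ h0
    obtain ⟨α, β, rfl⟩ := Submodule.mem_span_pair.1 hv
    obtain ⟨rfl, rfl⟩ := hzero α β h0
    exact Subtype.ext (by simp)
  obtain ⟨g, hg, g1, g2⟩ := trans_plane hQ (by omega) hn' hli' (by rw [hspan]; exact hWn) hli e1 e3 e2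
    (by rw [e3]; exact hw0)
  obtain ⟨o, ho⟩ := exists_omega hg
  have h5 : glEquiv I8 F ((o : isometryGroup F (quadFormPlus 4 F)) : Matrix.GeneralLinearGroup I8 F) = g := ho
  refine ⟨((o : isometryGroup F (quadFormPlus 4 F)) : Matrix.GeneralLinearGroup I8 F), ⟨_, o.2, rfl⟩, ?_⟩
  -- the conjugate
  have hyE : ∀ v, glEquiv I8 F y v = lin y v := fun v => rfl
  have hyO : glEquiv I8 F y ∈ O (QF F) := fun v => hyQ v
  have hfix : ∀ v ∈ W, (g * glEquiv I8 F y * g⁻¹) v = v := by
    have hone : ∀ x z : I8 → F, x ∈ fx (lin y) → g x = z → (g * glEquiv I8 F y * g⁻¹) z = z := by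
      rintro x _ hx rfl
      show g (glEquiv I8 F y (g.symm (g x))) = g x
      rw [LinearEquiv.symm_apply_apply, hyE, H951.mem_fx.1 hx]
    intro v hv
    rw [← hspan] at hv
    obtain ⟨α, β, rfl⟩ := Submodule.mem_span_pair.1 hv
    rw [map_add, map_smul, map_smul, hone u' u hu' g1, hone w' w hw' g2]
  have hodd : Odd r := hI.prime.odd_of_ne_two (by have := hI.two_lt; omega)
  have h6 := mem_of_fix hQ hWn (by omega) (N := (pre (quadFormPlus 4 F) X).map (glEquiv I8 F).toMonoidHom)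
    (fun u w hu hw h1 h2 => sieg_mem hs u w hu hw h1 h2) (z := g * glEquiv I8 F y * g⁻¹)
    (mul_mem (mul_mem (E_le_O hg) hyO) (inv_mem (E_le_O hg))) hfix hodd
    (by rw [conj_pow, ← map_pow, hyr1, map_one, mul_one, mul_inv_cancel])
  obtain ⟨c, hc, hc'⟩ := h6
  have h7 : c = ((o : isometryGroup F (quadFormPlus 4 F)) : Matrix.GeneralLinearGroup I8 F) * y *
      ((o : isometryGroup F (quadFormPlus 4 F)) : Matrix.GeneralLinearGroup I8 F)⁻¹ := by
    apply (glEquiv I8 F).injective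
    rw [map_mul, map_mul, map_inv, h5]
    exact hc'
  rw [← h7]
  exact hc

end Cfsg.Agent.H886.O8R
end
end
end
end
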